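import Cfsg.Agent.H870.MEleven.Main_m3
import Cfsg.Agent.H464.L2Num_m3
import Cfsg.Agent.H464.L2TrF_m3
import Cfsg.Agent.H906.Cover_m3
import Cfsg.Agent.ClassicalGeometry.AutPSL.Main
import Cfsg.Agent.Lib.SL2Lift
import Cfsg.Agent.H80.OrthTwo
import Mathlib
import Cfsg.Agent.Lib.Refl
import Cfsg.Agent.LieClassical.OrthTrans
import Cfsg.Agent.Lib.FinFast
import Cfsg.Agent.H395.SixMTwoTwo_m3
import Cfsg.Agent.H936.List12
import Cfsg.Agent.H905.MdN
import Cfsg.Agent.H875.TwoQuad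
import Cfsg.Agent.FastGrp
import Cfsg.Agent.Prune
set_option linter.all false

section
prune_inst 0x7f00000000000000000000000000000000000000000000000000000000000000000000000000000000000000000000000000000000000000000000000000000000000000000000000000000000000000003fffffffffffffffffffffffffffbeffbdffffffff

-- part: H933/O10/L2
section
set_option linter.all false
open scoped Cfsg.Agent.FastGrp

/-!
# The rows `L₂(q)` of S5848 and S5851, cross characteristic (helper933)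
-/

set_option autoImplicit false
set_option linter.unusedSectionVars false

namespace Cfsg.Agent.H933.O10

open Cfsg Cfsg.Geo Matrix Cfsg.Agent.H915.LD Cfsg.Agent.H464.Sl2

universe u v

variable {F : Type u} [Field F] [Fintype F] {p : ℕ} {Q : (Fin 10 → F) → F} {H P : Subgroup (GL (Fin 10) F)}

/-- `L₂(q)`, `q = 7, 8, 11, 13, 17, 19, ...`, `p ∤ q`: only `q = 11`, and `|F| = p`, `P ∩ scalars = 1`. -/
theorem l2_row (h : Cx p Q H P) {K : Type v} [Field K] [Fintype K] (h5 : 5 ≤ Fintype.card K)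
    (h9 : Fintype.card K ≠ 9) (hpK : ¬ p ∣ Fintype.card K) (e : Soc P ≃* ProjectiveSpecialLinearGroup (Fin 2) K) :
    Fintype.card K = 11 ∧ Fintype.card F = p ∧ (scalars (Fin 10) F).subgroupOf P = ⊥ := by
  have := Fact.mk h.prime
  have := h.char
  have hC := h.core
  have hd := l2_degrees p hC h5 h9 hpK e (by rw [Fintype.card_fin]; norm_num)
  simp only [Fintype.card_fin] at hd
  have hK : Fintype.card K = 11 ∨ Fintype.card K = 19 := by
    rcases hd with ⟨hK, hd⟩ | ⟨hK, hd⟩ | ⟨hK, hd⟩ | ⟨hK, hd⟩ | ⟨hK, hd⟩ | ⟨hK, hd⟩ | ⟨hK, hd⟩ | ⟨hK, hd⟩ | ⟨hK, hd⟩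
    · exact absurd hd (by decide)
    · exact absurd hd (by decide)
    · exact absurd hd (by decide)
    · exact Or.inl hK
    · exact absurd hd (by decide)
    · exact absurd hd (by decide)
    · exact Or.inr hK
    · exact absurd hd (by decide)
    · omega
  rcases hK with hK | hK
  · have hp11 : p ≠ 11 := by
      rintro rfl
      exact hpK (by rw [hK])
    rcases l2_11_10 p hC hK hp11 e (by rw [Fintype.card_fin]) with ⟨h1, h2⟩ | ⟨h1, h2, -⟩ | ⟨h1, h2, -⟩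
    · exact ⟨hK, h2, h1⟩
    · exact absurd h.fixQ ((H830.Sl2Form.l2_type p h2 hC h5 h9 hpK e).2 h1).1
    · exact absurd h.fixQ ((H830.Sl2Form.l2_type p h2 hC h5 h9 hpK e).2 h1).1
  · have hp19 : p ≠ 19 := by
      rintro rfl
      exact hpK (by rw [hK])
    exact absurd h.sd (l2_19_10 p hC hK hp19 e (by rw [Fintype.card_fin])).2.1

end Cfsg.Agent.H933.O10
end

-- part: H830/O10/EleKill_mg
section
set_option linter.all false
open scoped Cfsg.Agent.FastGrp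

-- part: H830/O10/Chi
section
/-!
# The characters of degree 10 of `L₂(11)` in cross characteristic (helper830)

* `tr_ext` : the traces of a representation of `SL₂(K)` with `-1 ↦ 1` are determined by those of the `u x` and `Zt τ`;
* `core_traces` : the traces of a core of degree 10 with socle `L₂(11)` and trivial centre.
-/

set_option autoImplicit false
set_option linter.unusedSectionVars false

namespace Cfsg.Agent.H830.O10

open Matrix Module Cfsg Cfsg.Geo Cfsg.Agent.H915.LD Cfsg.Agent.H464.Sl2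

universe u

section Reg

variable {K : Type*} [Field K] [Fintype K] {k : Type*} [Field k] {V : Type*} [AddCommGroup V] [Module k V]
  [FiniteDimensional k V] (R : _root_.Matrix.SpecialLinearGroup (Fin 2) K →* Module.End k V)

theorem chi_reg (h3K : 3 ≤ Fintype.card K) {g : _root_.Matrix.SpecialLinearGroup (Fin 2) K}
    (hτ : (g.1 0 0 + g.1 1 1) ^ 2 - 4 ≠ 0) : chi R g = ct R (g.1 0 0 + g.1 1 1) := by
  have hdet : g.1 0 0 * g.1 1 1 - g.1 0 1 * g.1 1 0 = 1 := by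
    have := g.2
    rwa [Matrix.det_fin_two] at this
  have hbig : ∀ g' : _root_.Matrix.SpecialLinearGroup (Fin 2) K, g'.1 1 0 ≠ 0 → g'.1 0 0 + g'.1 1 1 = g.1 0 0 + g.1 1 1 →
      chi R g' = ct R (g.1 0 0 + g.1 1 1) := by
    intro g' hg' htr
    rcases bruhat g' with ⟨x, a, rfl⟩ | ⟨x, c, y, rfl⟩
    · exfalso
      apply hg'
      change ((u x).1 * (t a).1) 1 0 = 0
      have e1 : (u x).1 = !![1, x; 0, 1] := rfl
      have e2 : (t a).1 = !![(a : K), 0; 0, ((a⁻¹ : Kˣ) : K)] := rfl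
      rw [e1, e2]
      simp
    · rw [chi_big]
      rw [tr_big] at htr
      exact chi_u_mul_w R hτ _ c htr
  by_cases hg10 : g.1 1 0 = 0
  · have hlow : ∀ y : K, ∃ h : _root_.Matrix.SpecialLinearGroup (Fin 2) K,
        (h * g * h⁻¹).1 1 0 = y * (g.1 0 0 - g.1 1 1 - y * g.1 0 1) := by
      intro y
      refine ⟨⟨!![1, 0; y, 1], by simp [Matrix.det_fin_two]⟩, ?_⟩
      change ((!![1, 0; y, 1] * g.1) * (adjugate !![1, 0; y, 1])) 1 0 = _
      rw [Matrix.adjugate_fin_two_of, Matrix.mul_apply, Fin.sum_univ_two, Matrix.mul_apply, Matrix.mul_apply,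
        Fin.sum_univ_two, Fin.sum_univ_two]
      simp only [hg10, _root_.Fin.isValue, _root_.Matrix.of_apply, _root_.Matrix.cons_val', _root_.Matrix.cons_val_zero, _root_.Matrix.cons_val_fin_one, _root_.Matrix.cons_val_one, _root_.MulZeroClass.mul_zero, _root_.add_zero, _root_.neg_zero, _root_.mul_one, _root_.one_mul, _root_.mul_neg]
      ring
    obtain ⟨y, hy0, hy⟩ : ∃ y : K, y ≠ 0 ∧ g.1 0 0 - g.1 1 1 - y * g.1 0 1 ≠ 0 := by
      classical
      obtain ⟨y, hy⟩ : ∃ y : K, y ∉ ({0, (g.1 0 0 - g.1 1 1) / g.1 0 1} : Finset K) := by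
        by_contra hcon
        push Not at hcon
        have h1 : Fintype.card K ≤ 2 := by
          rw [← Finset.card_univ]
          exact (Finset.card_le_card fun y _ => hcon y).trans Finset.card_le_two
        omega
      rw [Finset.mem_insert, Finset.mem_singleton, not_or] at hy
      refine ⟨y, hy.1, ?_⟩
      intro h0
      by_cases hb : g.1 0 1 = 0
      · apply hτ
        rw [hb, mul_zero, sub_zero] at h0
        rw [hg10, mul_zero, sub_zero] at hdet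
        linear_combination (g.1 0 0 - g.1 1 1) * h0 + 4 * hdet
      · apply hy.2
        rw [eq_div_iff hb]
        linear_combination -h0
    obtain ⟨h, hh⟩ := hlow y
    rw [← chi_conj R h g]
    apply hbig
    · rw [hh]
      exact mul_ne_zero hy0 hy
    · exact _root_.Cfsg.Agent.H464.Sl2.tr_conj h g
  · exact hbig g hg10 rfl

end Reg

section Mat

variable {K : Type*} [Field K] [Fintype K] {F : Type*} [Field F] {ι : Type} [Fintype ι] [DecidableEq ι]

/-- a matrix representation as a representation -/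
noncomputable def toEnd (ρ : _root_.Matrix.SpecialLinearGroup (Fin 2) K →* GL ι F) :
    _root_.Matrix.SpecialLinearGroup (Fin 2) K →* Module.End F (ι → F) where
  toFun g := Matrix.toLin' (ρ g : Matrix ι ι F)
  map_one' := by
    rw [map_one, Units.val_one, Matrix.toLin'_one]
    rfl
  map_mul' g h := by
    rw [map_mul, Units.val_mul, Matrix.toLin'_mul]
    rfl

theorem chi_toEnd (ρ : _root_.Matrix.SpecialLinearGroup (Fin 2) K →* GL ι F) (g : _root_.Matrix.SpecialLinearGroup (Fin 2) K) :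
    chi (toEnd ρ) g = tr (ρ g) := by
  rw [chi, tr]
  exact Matrix.trace_toLin'_eq _

theorem tr_reg (h3K : 3 ≤ Fintype.card K) (ρ : _root_.Matrix.SpecialLinearGroup (Fin 2) K →* GL ι F)
    {g : _root_.Matrix.SpecialLinearGroup (Fin 2) K} (hτ : (g.1 0 0 + g.1 1 1) ^ 2 - 4 ≠ 0) :
    tr (ρ g) = tr (ρ (Zt (g.1 0 0 + g.1 1 1))) := by
  rw [← chi_toEnd, ← chi_toEnd, chi_reg _ h3K hτ]
  rfl

theorem tr_conj_rho (ρ : _root_.Matrix.SpecialLinearGroup (Fin 2) K →* GL ι F) (h g : _root_.Matrix.SpecialLinearGroup (Fin 2) K) :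
    tr (ρ (h * g * h⁻¹)) = tr (ρ g) := by
  rw [← chi_toEnd, ← chi_toEnd, chi_conj]

/-- **Representations with the same traces.** -/
theorem tr_ext (h3K : 3 ≤ Fintype.card K) {ρ ρ' : _root_.Matrix.SpecialLinearGroup (Fin 2) K →* GL ι F}
    (hz : ρ (t (-1)) = 1) (hz' : ρ' (t (-1)) = 1) (hu : ∀ x, tr (ρ (u x)) = tr (ρ' (u x)))
    (hc : ∀ τ : K, τ ^ 2 - 4 ≠ 0 → tr (ρ (Zt τ)) = tr (ρ' (Zt τ))) (g : _root_.Matrix.SpecialLinearGroup (Fin 2) K) :
    tr (ρ g) = tr (ρ' g) := by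
  by_cases hτ : (g.1 0 0 + g.1 1 1) ^ 2 - 4 = 0
  · obtain ⟨h, ε, y, hε, rfl⟩ := exists_conj_unip g hτ
    rw [tr_conj_rho, tr_conj_rho]
    have h1 : ε = 1 ∨ ε = -1 := by
      have h2 : (ε : K) ^ 2 = 1 := by
        rw [← Units.val_pow_eq_pow_val, hε, Units.val_one]
      rw [sq] at h2
      rcases mul_self_eq_one_iff.1 h2 with h | h
      · exact Or.inl (Units.ext h)
      · exact Or.inr (Units.ext h)
    rcases h1 with rfl | rfl
    · rw [t_one, one_mul, hu]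
    · rw [map_mul, map_mul, hz, hz', one_mul, one_mul, hu]
  · rw [tr_reg h3K ρ hτ, tr_reg h3K ρ' hτ, hc _ hτ]

end Mat

/-! ### `SL₂(11)` -/

instance fact11 : Fact (Nat.Prime 11) := ⟨by norm_num⟩

theorem zt_pow_mod (n : ℕ) : Zt (5 : ZMod 11) ^ n = Zt (5 : ZMod 11) ^ (n % 12) := by
  have h : Zt (5 : ZMod 11) ^ 12 = 1 := by decide +kernel
  conv_lhs => rw [← Nat.div_add_mod n 12, pow_add, pow_mul, h, one_pow, one_mul]

theorem gen_five : Gen (5 : ZMod 11) where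
  ns := by unfold NonSplit; decide +kernel
  pow_card := by rw [ZMod.card]; decide +kernel
  surj := by
    intro τ hτ
    have h : ∀ τ : ZMod 11, (∀ x : ZMod 11, x ^ 2 - τ * x + 1 ≠ 0) → ∃ n : Fin 12,
      (Zt (5 : ZMod 11) ^ (n : ℕ)).1 0 0 + (Zt (5 : ZMod 11) ^ (n : ℕ)).1 1 1 = τ ∧
        (Zt (5 : ZMod 11) ^ (n : ℕ)).1 1 0 ≠ 0 := by decide +kernel
    obtain ⟨n, hn⟩ := h τ hτ
    exact ⟨n, hn⟩
  lower := by
    intro n
    rw [zt_pow_mod, ZMod.card, show 12 ∣ 2 * n ↔ 12 ∣ 2 * (n % 12) by omega]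
    have h : ∀ m : Fin 12, (Zt (5 : ZMod 11) ^ (m : ℕ)).1 1 0 = 0 ↔ 12 ∣ 2 * (m : ℕ) := by decide +kernel
    exact h ⟨n % 12, Nat.mod_lt _ (by norm_num)⟩
  one := by
    intro n hn
    rw [zt_pow_mod] at hn
    rw [ZMod.card, Nat.dvd_iff_mod_eq_zero]
    have h : ∀ m : Fin 12, Zt (5 : ZMod 11) ^ (m : ℕ) = 1 → (m : ℕ) = 0 := by decide +kernel
    exact h ⟨n % 12, Nat.mod_lt _ (by norm_num)⟩ hn
  neg_one := by
    intro _
    rw [ZMod.card]
    decide +kernel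
  sq := by
    intro _ n hn
    rw [zt_pow_mod] at hn ⊢
    rw [show Even n ↔ Even (n % 12) by rw [Nat.even_iff, Nat.even_iff]; omega]
    have h : ∀ m : Fin 12, (Zt (5 : ZMod 11) ^ (m : ℕ)).1 1 0 ≠ 0 →
      (IsSquare ((Zt (5 : ZMod 11) ^ (m : ℕ)).1 0 0 + (Zt (5 : ZMod 11) ^ (m : ℕ)).1 1 1 + 2) ↔ Even (m : ℕ)) := by
      decide +kernel
    exact h ⟨n % 12, Nat.mod_lt _ (by norm_num)⟩ hn

/-- the characters of degree 10 on the elements `Zt τ` -/
def fz (s : ℤ) (τ : ZMod 11) : ℤ :=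
  if τ = 0 then 2 * s else if τ = 1 ∨ τ = -1 then 1 else if τ = 5 ∨ τ = -5 then -s else 0

variable {F : Type u} [Field F] {P : Subgroup (GL (Fin 10) F)}

/-- **The traces.** -/
theorem core_traces (p : ℕ) [hp : Fact p.Prime] [CharP F p] (hC : Core P)
    (ρ : _root_.Matrix.SpecialLinearGroup (Fin 2) (ZMod 11) →* GL (Fin 10) F) (hρ : ρ.range = P) (hp11 : p ≠ 11)
    (hz : ρ (t (-1)) = 1) :
    ∃ s : ℤ, (s = 1 ∨ s = -1) ∧ (p = 3 → s = -1) ∧ (∀ x : ZMod 11, x ≠ 0 → tr (ρ (u x)) = -1) ∧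
      ∀ τ : ZMod 11, τ ^ 2 - 4 ≠ 0 → tr (ρ (Zt τ)) = ((fz s τ : ℤ) : F) := by
  have hpK : ¬ p ∣ Fintype.card (ZMod 11) := by
    rw [ZMod.card]
    intro h
    exact hp11 ((Nat.prime_dvd_prime_iff_eq hp.out (by norm_num)).1 h)
  obtain ⟨ζ, hζ, h1, h2, h3, h4, h5, h6, h7, -⟩ := cusp_field p hC ρ hρ hpK (by rw [ZMod.card]; norm_num)
    (by rw [ZMod.card, Fintype.card_fin]) gen_five
  have hcp : CharP (AlgebraicClosure F) p :=
    charP_of_injective_algebraMap (algebraMap F (AlgebraicClosure F)).injective p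
  have hodd : Odd (Fintype.card (ZMod 11)) := by rw [ZMod.card]; decide
  have hne := h2 hodd
  have h6' := h4 hodd 1 (by rw [hz, Units.val_one, one_smul])
  rw [map_one, ZMod.card, show (11 + 1) / 2 = 6 by norm_num] at h6'
  have hinj := (algebraMap F (AlgebraicClosure F)).injective
  obtain ⟨s, hs, hs3, hζs⟩ : ∃ s : ℤ, (s = 1 ∨ s = -1) ∧ (p = 3 → s = -1) ∧
      ζ + ζ⁻¹ = ((s : ℤ) : AlgebraicClosure F) := by
    have hf : (ζ - 1) * (ζ + 1) * (ζ ^ 2 + ζ + 1) * (ζ ^ 2 - ζ + 1) = 0 := by linear_combination -h6'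
    rcases mul_eq_zero.1 hf with hf | hf
    · rcases mul_eq_zero.1 hf with hf | hf
      · rcases mul_eq_zero.1 hf with hf | hf
        · have hζ1 : ζ = 1 := sub_eq_zero.1 hf
          have hp12 := h3 hζ1
          rw [ZMod.card] at hp12
          have hp23 : p = 2 ∨ p = 3 := by
            have h8 : p ∣ 2 ^ 2 * 3 := by simpa using hp12
            rcases (Nat.Prime.dvd_mul hp.out).1 h8 with h9 | h9
            · exact Or.inl ((Nat.prime_dvd_prime_iff_eq hp.out (by norm_num)).1 (hp.out.dvd_of_dvd_pow h9))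
            · exact Or.inr ((Nat.prime_dvd_prime_iff_eq hp.out (by norm_num)).1 h9)
          rcases hp23 with rfl | rfl
          · exfalso
            apply hne
            have h8 : (2 : AlgebraicClosure F) = 0 := by exact_mod_cast CharP.cast_eq_zero (AlgebraicClosure F) 2
            rw [hζ1]
            linear_combination h8
          · refine ⟨-1, Or.inr rfl, fun _ => rfl, ?_⟩
            have h8 : (3 : AlgebraicClosure F) = 0 := by exact_mod_cast CharP.cast_eq_zero (AlgebraicClosure F) 3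
            rw [hζ1, inv_one]
            push_cast
            linear_combination h8
        · exact absurd (by linear_combination hf) hne
      · refine ⟨-1, Or.inr rfl, fun _ => rfl, ?_⟩
        field_simp
        push_cast
        linear_combination hf
    · refine ⟨1, Or.inl rfl, ?_, ?_⟩
      · rintro rfl
        exfalso
        have h8 : (3 : AlgebraicClosure F) = 0 := by exact_mod_cast CharP.cast_eq_zero (AlgebraicClosure F) 3
        have h9 : (ζ + 1) ^ 2 = 0 := by linear_combination hf + ζ * h8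
        exact hne (by linear_combination (pow_eq_zero_iff two_ne_zero).1 h9)
      · field_simp
        push_cast
        linear_combination hf
  refine ⟨s, hs, hs3, h7, ?_⟩
  have hs2 : ((s : ℤ) : AlgebraicClosure F) ^ 2 = 1 := by
    rcases hs with rfl | rfl <;> norm_num
  have hi : ζ * ζ⁻¹ = 1 := mul_inv_cancel₀ hζ
  -- the regular values
  have key : ∀ (n : ℕ) (τ : ZMod 11), (Zt (5 : ZMod 11) ^ n).1 0 0 + (Zt (5 : ZMod 11) ^ n).1 1 1 = τ →
      τ ^ 2 - 4 ≠ 0 → (Zt (5 : ZMod 11) ^ n).1 1 0 ≠ 0 →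
      algebraMap F (AlgebraicClosure F) (tr (ρ (Zt τ))) = -(ζ ^ n + (ζ⁻¹) ^ n) := by
    intro n τ hn hτ h0
    rw [← h5 n h0, ← hn, ← tr_reg (by rw [ZMod.card]; norm_num) ρ (by rw [hn]; exact hτ)]
  have keyt : ∀ (a : (ZMod 11)ˣ) (τ : ZMod 11), (a : ZMod 11) + ((a⁻¹ : (ZMod 11)ˣ) : ZMod 11) = τ →
      τ ^ 2 - 4 ≠ 0 → a ^ 2 ≠ 1 → tr (ρ (Zt τ)) = 0 := by
    intro a τ ha hτ h0
    rw [← h6 a h0, tr_reg (g := t a) (by rw [ZMod.card]; norm_num) ρ (by
      change ((a : ZMod 11) + ((a⁻¹ : (ZMod 11)ˣ) : ZMod 11)) ^ 2 - 4 ≠ 0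
      rw [ha]; exact hτ)]
    change _ = tr (ρ (Zt ((a : ZMod 11) + ((a⁻¹ : (ZMod 11)ˣ) : ZMod 11))))
    rw [ha]
  intro τ hτ
  have hcases : ∀ τ : ZMod 11, τ ^ 2 - 4 ≠ 0 → τ = 0 ∨ τ = 1 ∨ τ = -1 ∨ τ = 5 ∨ τ = -5 ∨ τ = 3 ∨ τ = -3 ∨ τ = 4 ∨
    τ = -4 := by decide +kernel
  have v1 : ζ ^ 1 + (ζ⁻¹) ^ 1 = ((s : ℤ) : AlgebraicClosure F) := by rw [pow_one, pow_one]; exact hζs
  have v2 : ζ ^ 2 + (ζ⁻¹) ^ 2 = -1 := by linear_combination (ζ + ζ⁻¹ + (s : AlgebraicClosure F)) * hζs - 2 * hi + hs2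
  have v3 : ζ ^ 3 + (ζ⁻¹) ^ 3 = -2 * ((s : ℤ) : AlgebraicClosure F) := by
    linear_combination (ζ + ζ⁻¹) * v2 - 2 * hζs - (ζ + ζ⁻¹) * hi
  have v4 : ζ ^ 4 + (ζ⁻¹) ^ 4 = -1 := by
    linear_combination (ζ ^ 2 + ζ⁻¹ ^ 2 - 1) * v2 - 2 * (ζ * ζ⁻¹ + 1) * hi
  have v5 : ζ ^ 5 + (ζ⁻¹) ^ 5 = ((s : ℤ) : AlgebraicClosure F) := by
    linear_combination (ζ ^ 3 + ζ⁻¹ ^ 3) * v2 - v3 - (ζ + ζ⁻¹) * (ζ * ζ⁻¹ + 1) * hi - hζs
  have fin : ∀ (n : ℕ) (τ : ZMod 11) (m : ℤ), (Zt (5 : ZMod 11) ^ n).1 0 0 + (Zt (5 : ZMod 11) ^ n).1 1 1 = τ →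
      τ ^ 2 - 4 ≠ 0 → (Zt (5 : ZMod 11) ^ n).1 1 0 ≠ 0 → ζ ^ n + (ζ⁻¹) ^ n = ((-m : ℤ) : AlgebraicClosure F) →
      tr (ρ (Zt τ)) = ((m : ℤ) : F) := by
    intro n τ m hn hτ h0 hv
    apply hinj
    rw [key n τ hn hτ h0, hv, map_intCast]
    push_cast
    ring
  rcases hcases τ hτ with rfl | rfl | rfl | rfl | rfl | rfl | rfl | rfl | rfl
  · rw [show fz s 0 = 2 * s from rfl]
    exact fin 3 0 (2 * s) (by decide +kernel) hτ (by decide +kernel) (by rw [v3]; push_cast; ring)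
  · rw [show fz s 1 = 1 from rfl]
    exact fin 2 1 1 (by decide +kernel) hτ (by decide +kernel) (by rw [v2]; push_cast; ring)
  · rw [show fz s (-1) = 1 from rfl]
    exact fin 4 (-1) 1 (by decide +kernel) hτ (by decide +kernel) (by rw [v4]; push_cast; ring)
  · rw [show fz s 5 = -s from rfl]
    exact fin 1 5 (-s) (by decide +kernel) hτ (by decide +kernel) (by rw [v1]; push_cast; ring)
  · rw [show fz s (-5) = -s from rfl]
    exact fin 5 (-5) (-s) (by decide +kernel) hτ (by decide +kernel) (by rw [v5]; push_cast; ring)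
  · rw [show fz s 3 = 0 from rfl, Int.cast_zero]
    exact keyt (ZMod.unitOfCoprime 5 (by norm_num)) 3 (by decide +kernel) hτ (by decide +kernel)
  · rw [show fz s (-3) = 0 from rfl, Int.cast_zero]
    exact keyt (ZMod.unitOfCoprime 2 (by norm_num)) (-3) (by decide +kernel) hτ (by decide +kernel)
  · rw [show fz s 4 = 0 from rfl, Int.cast_zero]
    exact keyt (ZMod.unitOfCoprime 7 (by norm_num)) 4 (by decide +kernel) hτ (by decide +kernel)
  · rw [show fz s (-4) = 0 from rfl, Int.cast_zero]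
    exact keyt (ZMod.unitOfCoprime 3 (by norm_num)) (-4) (by decide +kernel) hτ (by decide +kernel)

end Cfsg.Agent.H830.O10
end

-- part: H830/O10/Nrm
section
/-!
# The normaliser of a core with socle `L₂(11)` (helper830)
-/

set_option autoImplicit false
set_option linter.unusedSectionVars false

namespace Cfsg.Agent.H830.O10

open Matrix Module Cfsg Cfsg.Geo Cfsg.Agent.H915.LD Cfsg.Agent.H464.Sl2 Cfsg.Agent.H910.Aut
open Cfsg.Agent.ClassicalGeometry.AutPSL.Auto (cj fld lift lift_pr coe_cj)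
open Cfsg.Agent.ClassicalGeometry.AutPSL.Root (pr)

universe u

/-- the diagonal element -/
def dd : GL (Fin 2) (ZMod 11) where
  val := !![-1, 0; 0, 1]
  inv := !![-1, 0; 0, 1]
  val_inv := by decide +kernel
  inv_val := by decide +kernel

theorem cj_dd_u (x : ZMod 11) : cj dd (u x) = u (-x) := by
  apply Subtype.ext
  rw [coe_cj]
  change !![-1, 0; 0, 1] * !![1, x; 0, 1] * !![-1, 0; 0, 1] = !![1, -x; 0, 1]
  ext i j
  (revert i j; simp only [Matrix.mul_apply, Fin.sum_univ_two, _root_.Fin.forall_fin_succ, _root_.Matrix.cons_mul, _root_.Nat.succ_eq_add_one, Nat.reduceAdd, _root_.Matrix.vecMul_cons, _root_.Matrix.head_cons, _root_.neg_smul, _root_.one_smul, _root_.Matrix.neg_cons, _root_.Matrix.neg_empty, _root_.Matrix.tail_cons, _root_.zero_smul, _root_.Matrix.empty_vecMul, _root_.add_zero, _root_.zero_add, _root_.Matrix.empty_mul, _root_.Equiv.symm_apply_apply, _root_.Matrix.of_apply, _root_.Matrix.cons_val',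 _root_.Matrix.cons_val_fin_one, Fin.isValue, _root_.Matrix.cons_val_zero, _root_.Matrix.cons_val_one, _root_.mul_neg, _root_.mul_one, _root_.MulZeroClass.mul_zero, _root_.Matrix.cons_val_succ, _root_.implies_true, _root_.and_true, _root_.neg_neg, _root_.neg_zero, _root_.and_self])

theorem cj_dd_t (a : (ZMod 11)ˣ) : cj dd (t a) = t a := by
  revert a
  decide +kernel

theorem cj_dd_w : cj dd (w 1) = t (-1) * w 1 := by decide +kernel

theorem w_eq (c : (ZMod 11)ˣ) : w c = w 1 * t c := (w_one_mul_t c).symm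

/-- the twist, from the generators -/
theorem twist_of_gen {G : Type*} [Group G] {ρ : _root_.Matrix.SpecialLinearGroup (Fin 2) (ZMod 11) →* G} {D : G}
    (hz : ρ (t (-1)) = 1) (hu : ∀ x, D * ρ (u x) * D⁻¹ = ρ (u (-x))) (ht : ∀ a, D * ρ (t a) * D⁻¹ = ρ (t a))
    (hw : D * ρ (w 1) * D⁻¹ = ρ (w 1)) (g : _root_.Matrix.SpecialLinearGroup (Fin 2) (ZMod 11)) :
    D * ρ g * D⁻¹ = ρ (cj dd g) := by
  have hu' : ∀ x, (MulAut.conj D).toMonoidHom.comp ρ (u x) = ρ.comp (cj dd).toMonoidHom (u x) := by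
    intro x
    change D * ρ (u x) * D⁻¹ = ρ (cj dd (u x))
    rw [hu, cj_dd_u]
  have ht' : ∀ x, (MulAut.conj D).toMonoidHom.comp ρ (t x) = ρ.comp (cj dd).toMonoidHom (t x) := by
    intro x
    change D * ρ (t x) * D⁻¹ = ρ (cj dd (t x))
    rw [ht, cj_dd_t]
  have hw' : (MulAut.conj D).toMonoidHom.comp ρ (w 1) = ρ.comp (cj dd).toMonoidHom (w 1) := by
    change D * ρ (w 1) * D⁻¹ = ρ (cj dd (w 1))
    rw [hw, cj_dd_w, map_mul, hz, one_mul]
  change (MulAut.conj D).toMonoidHom.comp ρ g = ρ.comp (cj dd).toMonoidHom g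
  rcases bruhat g with ⟨x, a, rfl⟩ | ⟨x, c, y, rfl⟩
  · rw [map_mul, map_mul _ (u x) (t a), hu', ht']
  · rw [w_eq, map_mul, map_mul, map_mul, hu', hu', hw', ht', map_mul, map_mul, map_mul]

theorem sq_cases : ∀ ν : ZMod 11, ν ≠ 0 → (∃ d : ZMod 11, d ≠ 0 ∧ ν = d * d) ∨ ∃ d : ZMod 11, d ≠ 0 ∧ -ν = d * d := by
  decide +kernel

theorem cj_of_eq {A B : GL (Fin 2) (ZMod 11)} {s : _root_.Matrix.SpecialLinearGroup (Fin 2) (ZMod 11)} {d : ZMod 11} (hd : d ≠ 0)
    (h : (A : Matrix (Fin 2) (Fin 2) (ZMod 11)) = d • (s.1 * (B : Matrix (Fin 2) (Fin 2) (ZMod 11))))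
    (g : _root_.Matrix.SpecialLinearGroup (Fin 2) (ZMod 11)) : cj A g = s * cj B g * s⁻¹ := by
  rw [eq_mul_inv_iff_mul_eq]
  have hs : s.1 = d⁻¹ • ((A : Matrix (Fin 2) (Fin 2) (ZMod 11)) * ((B⁻¹ : GL (Fin 2) (ZMod 11)) : Matrix (Fin 2) (Fin 2) (ZMod 11))) := by
    rw [h, Matrix.smul_mul, Matrix.mul_assoc, ← Units.val_mul, mul_inv_cancel, Units.val_one, Matrix.mul_one, smul_smul,
      inv_mul_cancel₀ hd, one_smul]
  apply Subtype.ext
  change (cj A g).1 * s.1 = s.1 * (cj B g).1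
  rw [coe_cj, coe_cj, hs]
  have hA : ((A⁻¹ : GL (Fin 2) (ZMod 11)) : Matrix (Fin 2) (Fin 2) (ZMod 11)) * (A : Matrix (Fin 2) (Fin 2) (ZMod 11)) = 1 := by
    rw [← Units.val_mul, inv_mul_cancel, Units.val_one]
  have hB : ((B⁻¹ : GL (Fin 2) (ZMod 11)) : Matrix (Fin 2) (Fin 2) (ZMod 11)) * (B : Matrix (Fin 2) (Fin 2) (ZMod 11)) = 1 := by
    rw [← Units.val_mul, inv_mul_cancel, Units.val_one]
  generalize ((A⁻¹ : GL (Fin 2) (ZMod 11)) : Matrix (Fin 2) (Fin 2) (ZMod 11)) = A' at *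
  generalize ((B⁻¹ : GL (Fin 2) (ZMod 11)) : Matrix (Fin 2) (Fin 2) (ZMod 11)) = B' at *
  rw [Matrix.mul_smul, Matrix.smul_mul, Matrix.mul_assoc (_ * g.1) A', ← Matrix.mul_assoc A', hA, Matrix.one_mul,
    Matrix.mul_assoc, Matrix.mul_assoc, Matrix.mul_assoc _ _ B', ← Matrix.mul_assoc B', hB, Matrix.one_mul]

theorem exists_cj (A : GL (Fin 2) (ZMod 11)) : ∃ s : _root_.Matrix.SpecialLinearGroup (Fin 2) (ZMod 11),
    (∀ g, cj A g = s * g * s⁻¹) ∨ ∀ g, cj A g = s * cj dd g * s⁻¹ := by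
  have hdet : (A : Matrix (Fin 2) (Fin 2) (ZMod 11)).det ≠ 0 := by
    have := A.isUnit.map (Matrix.detMonoidHom (n := Fin 2) (R := ZMod 11))
    exact this.ne_zero
  rcases sq_cases _ hdet with ⟨d, hd, h⟩ | ⟨d, hd, h⟩
  · refine ⟨⟨d⁻¹ • (A : Matrix (Fin 2) (Fin 2) (ZMod 11)), ?_⟩, Or.inl fun g => ?_⟩
    · rw [Matrix.det_smul, Fintype.card_fin, h]
      field_simp
    · have h1 := cj_of_eq (A := A) (B := 1) (d := d) hd (s := ⟨d⁻¹ • (A : Matrix (Fin 2) (Fin 2) (ZMod 11)), by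
        rw [Matrix.det_smul, Fintype.card_fin, h]
        field_simp⟩) (by
        rw [Units.val_one, Matrix.mul_one, smul_smul, mul_inv_cancel₀ hd, one_smul]) g
      rwa [map_one, MulAut.one_apply] at h1
  · refine ⟨⟨d⁻¹ • ((A : Matrix (Fin 2) (Fin 2) (ZMod 11)) * !![-1, 0; 0, 1]), ?_⟩, Or.inr fun g => ?_⟩
    · rw [Matrix.det_smul, Fintype.card_fin, Matrix.det_mul, Matrix.det_fin_two_of]
      field_simp
      linear_combination h
    · refine cj_of_eq (A := A) (B := dd) (d := d) hd ?_ g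
      change _ = d • ((d⁻¹ • ((A : Matrix (Fin 2) (Fin 2) (ZMod 11)) * !![-1, 0; 0, 1])) * !![-1, 0; 0, 1])
      rw [Matrix.smul_mul, smul_smul, mul_inv_cancel₀ hd, one_smul, Matrix.mul_assoc]
      have h1 : (!![-1, 0; 0, 1] : Matrix (Fin 2) (Fin 2) (ZMod 11)) * !![-1, 0; 0, 1] = 1 := by decide +kernel
      rw [h1, Matrix.mul_one]

variable {F : Type u} [Field F] {P : Subgroup (GL (Fin 10) F)}

/-- **The normaliser.** -/
theorem nrm_cases (hC : Core P) (e : Soc P ≃* ProjectiveSpecialLinearGroup (Fin 2) (ZMod 11))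
    (ρ : _root_.Matrix.SpecialLinearGroup (Fin 2) (ZMod 11) →* GL (Fin 10) F) (hρ : ρ.range = P)
    (hρe : ∀ (g : _root_.Matrix.SpecialLinearGroup (Fin 2) (ZMod 11)) (h : ρ g ∈ P), e (toSoc P ⟨ρ g, h⟩) = QuotientGroup.mk g)
    {D : GL (Fin 10) F} (hD : ∀ g, D * ρ g * D⁻¹ = ρ (cj dd g)) {x : GL (Fin 10) F} (hx : Nrm P x) :
    ∃ (s : _root_.Matrix.SpecialLinearGroup (Fin 2) (ZMod 11)) (c : F),
      (x : Matrix (Fin 10) (Fin 10) F) = c • (ρ s : Matrix (Fin 10) (Fin 10) F) ∨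
      (x : Matrix (Fin 10) (Fin 10) F) = c • ((ρ s * D : GL (Fin 10) F) : Matrix (Fin 10) (Fin 10) F) := by
  obtain ⟨α, hα⟩ := hx.exists_aut e
  obtain ⟨A, σ, hA⟩ := ClassicalGeometry.AutPSL.Main.surj_two 11 α
  have hσ : σ = 1 := Subsingleton.elim _ _
  rw [hσ, map_one, mul_one] at hA
  have hmem : ∀ g, ρ g ∈ P := fun g => hρ ▸ ⟨g, rfl⟩
  have hND : Nrm P D := by
    refine ⟨?_, ?_⟩
    · intro y hy
      rw [← hρ] at hy
      obtain ⟨g, rfl⟩ := hy
      rw [hD]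
      exact hmem _
    · intro y hy
      rw [← hρ] at hy
      obtain ⟨g, rfl⟩ := hy
      obtain ⟨g', rfl⟩ := (cj dd).surjective g
      rw [← hD, show D⁻¹ * (D * ρ g' * D⁻¹) * D = ρ g' by group]
      exact hmem _
  have hcase : ∀ (k : GL (Fin 10) F) (hk : Nrm P k), (∀ g, k * ρ g * k⁻¹ = ρ (cj A g)) →
      ∃ c : F, (x : Matrix (Fin 10) (Fin 10) F) = c • (k : Matrix (Fin 10) (Fin 10) F) := by
    intro k hk hkA
    refine scalar_of_eq hC e hx hk hα ?_
    rintro ⟨y, hy⟩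
    have hy' := hy
    rw [← hρ] at hy'
    obtain ⟨g, rfl⟩ := hy'
    rw [hρe, hA]
    have h1 : hk.conj ⟨ρ g, hy⟩ = ⟨ρ (cj A g), hmem _⟩ := Subtype.ext (hkA g)
    rw [h1, hρe]
    exact (lift_pr (cj A) g).symm
  obtain ⟨s, hs | hs⟩ := exists_cj A
  · obtain ⟨c, hc⟩ := hcase (ρ s) (Nrm.of_mem (hmem s)) (fun g => by rw [hs, map_mul, map_mul, map_inv])
    exact ⟨s, c, Or.inl hc⟩
  · obtain ⟨c, hc⟩ := hcase (ρ s * D) ((Nrm.of_mem (hmem s)).mul hND) (fun g => by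
      rw [hs, map_mul, map_mul, map_inv, ← hD]
      group)
    exact ⟨s, c, Or.inr hc⟩

end Cfsg.Agent.H830.O10
end

-- part: H830/O10/Ele
section
/-!
# `L₂(11)` on eleven points (helper830)

* `phi : SL₂(11) →* Perm (ZMod 11)`; `mg : Perm (Fin 11) →* GL₁₀(F)`, the module of the eleven vectors `vs i` with sum zero;
* `exists_J` : a core of degree 10 with the same traces is conjugate to the model.
-/

set_option autoImplicit false
set_option linter.unusedSectionVars false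

namespace Cfsg.Agent.H830.O10

open Matrix Module Cfsg Cfsg.Geo Cfsg.Agent.H915.LD Cfsg.Agent.H464.Sl2

universe u

/-! ### The permutations -/

/-- translations -/
def xp (t : ZMod 11) : Equiv.Perm (Fin 11) :=
  (⟨fun i => i + t, fun i => i - t, fun i => by ring, fun i => by ring⟩ : Equiv.Perm (ZMod 11))

/-- multiplications by squares -/
def hp (a : ZMod 11) : Equiv.Perm (Fin 11) :=
  (⟨fun i => if a = 0 then i else a ^ 2 * i, fun i => if a = 0 then i else a⁻¹ ^ 2 * i,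
    by revert a; unfold Function.LeftInverse; decide +kernel,
    by revert a; unfold Function.RightInverse Function.LeftInverse; decide +kernel⟩ : Equiv.Perm (ZMod 11))

def wf (i : Fin 11) : Fin 11 :=
  (#[0, 1, 10, 4, 3, 9, 7, 6, 8, 5, 2] : Array (Fin 11)).getD i.val 0

/-- the involution -/
def wp : Equiv.Perm (Fin 11) :=
  ⟨wf, wf, by unfold Function.LeftInverse; decide +kernel, by unfold Function.RightInverse Function.LeftInverse; decide +kernel⟩

theorem relp : Lib.SL2Lift.Rel xp hp wp where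
  add := by (set_option synthInstance.maxSize 100000 in exact Cfsg.Agent.Lib.Refl.of (by decide +kernel))
  mul := by decide +kernel
  conj := by decide +kernel
  wh := by decide +kernel
  ww := by decide +kernel
  wx := by decide +kernel

/-- `SL₂(11)` on eleven points -/
noncomputable def phi : _root_.Matrix.SpecialLinearGroup (Fin 2) (ZMod 11) →* Equiv.Perm (Fin 11) := Lib.SL2Lift.hom relp

theorem phi_u (x : ZMod 11) : phi (u x) = xp x := Lib.SL2Lift.hom_X relp x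

theorem t_eq (a : (ZMod 11)ˣ) : t a = Lib.SL2Lift.H (a : ZMod 11) a.ne_zero := by
  apply Subtype.ext
  change !![(a : ZMod 11), 0; 0, ((a⁻¹ : (ZMod 11)ˣ) : ZMod 11)] = !![(a : ZMod 11), 0; 0, (a : ZMod 11)⁻¹]
  rw [Units.val_inv_eq_inv_val]

theorem phi_t (a : (ZMod 11)ˣ) : phi (t a) = hp a := by
  rw [t_eq]
  exact Lib.SL2Lift.hom_H relp _ _

theorem w_one_eq : (w 1 : _root_.Matrix.SpecialLinearGroup (Fin 2) (ZMod 11)) = t (-1) * Lib.SL2Lift.W := by decide +kernel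

theorem phi_w : phi (w 1) = wp := by
  rw [w_one_eq, map_mul, phi_t]
  have h : phi Lib.SL2Lift.W = wp := Lib.SL2Lift.hom_W relp
  rw [h]
  decide +kernel

theorem phi_neg : phi (t (-1)) = 1 := by
  rw [phi_t]
  decide +kernel

/-! ### The eleven vectors -/

/-- the matrix of a permutation on the sum-zero system -/
def mz (σ : Equiv.Perm (Fin 11)) : Matrix (Fin 10) (Fin 10) ℤ := fun i j =>
  (if σ j.castSucc = i.castSucc then 1 else 0) - (if σ j.castSucc = Fin.last 10 then 1 else 0)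

section model

variable (F : Type u) [Field F]

/-- the eleven vectors -/
def vs (i : Fin 11) : Fin 10 → F := fun k =>
  (if i = k.castSucc then 1 else 0) - (if i = Fin.last 10 then 1 else 0)

def mf (σ : Equiv.Perm (Fin 11)) : Matrix (Fin 10) (Fin 10) F := (mz σ).map (Int.castRingHom F)

theorem vs_castSucc (j : Fin 10) : vs F j.castSucc = Pi.single j 1 := by
  funext k
  rw [vs, if_neg (Fin.castSucc_lt_last j).ne, sub_zero, Pi.single_apply]
  simp only [Fin.castSucc_inj, eq_comm]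

theorem vs_sum : ∑ i, vs F i = 0 := by
  rw [Fin.sum_univ_castSucc]
  funext k
  rw [Pi.add_apply, Finset.sum_apply, Pi.zero_apply]
  simp only [vs_castSucc, Pi.single_apply]
  rw [Finset.sum_ite_eq, if_pos (Finset.mem_univ _), vs, if_neg (Fin.castSucc_lt_last k).ne', if_pos rfl]
  ring

theorem vs_last : vs F (Fin.last 10) = -∑ j : Fin 10, vs F j.castSucc := by
  rw [eq_neg_iff_add_eq_zero, add_comm, ← Fin.sum_univ_castSucc, vs_sum]

theorem mf_col (σ : Equiv.Perm (Fin 11)) (j : Fin 10) : mf F σ *ᵥ vs F j.castSucc = vs F (σ j.castSucc) := by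
  rw [vs_castSucc, Matrix.mulVec_single_one]
  funext k
  rw [Matrix.col_apply, mf, Matrix.map_apply, mz, vs]
  simp

theorem mf_mulVec (σ : Equiv.Perm (Fin 11)) (i : Fin 11) : mf F σ *ᵥ vs F i = vs F (σ i) := by
  rcases Fin.eq_castSucc_or_eq_last i with ⟨j, rfl⟩ | rfl
  · exact mf_col F σ j
  · have h : ∑ i, vs F (σ i) = 0 := by
      rw [Equiv.sum_comp σ (vs F), vs_sum]
    rw [Fin.sum_univ_castSucc] at h
    rw [vs_last, Matrix.mulVec_neg, Matrix.mulVec_sum, Finset.sum_congr rfl fun j _ => mf_col F σ j,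
      neg_eq_iff_add_eq_zero, h]

theorem ext_vs {A B : Matrix (Fin 10) (Fin 10) F} (h : ∀ i, A *ᵥ vs F i = B *ᵥ vs F i) : A = B := by
  ext k j
  have h1 := congrFun (h j.castSucc) k
  rwa [vs_castSucc, Matrix.mulVec_single_one, Matrix.mulVec_single_one] at h1

/-- permutations as matrices -/
def mh : Equiv.Perm (Fin 11) →* Matrix (Fin 10) (Fin 10) F where
  toFun := mf F
  map_one' := by
    apply ext_vs
    intro i
    rw [mf_mulVec, Matrix.one_mulVec]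
    rfl
  map_mul' σ τ := by
    apply ext_vs
    intro i
    rw [mf_mulVec, ← Matrix.mulVec_mulVec, mf_mulVec, mf_mulVec]
    rfl

def mg : Equiv.Perm (Fin 11) →* GL (Fin 10) F := (mh F).toHomUnits

theorem mg_mulVec (σ : Equiv.Perm (Fin 11)) (i : Fin 11) :
    (mg F σ : Matrix (Fin 10) (Fin 10) F) *ᵥ vs F i = vs F (σ i) := mf_mulVec F σ i

theorem vs_injective : Function.Injective (vs F) := by
  intro i j h
  rcases Fin.eq_castSucc_or_eq_last i with ⟨i, rfl⟩ | rfl <;> rcases Fin.eq_castSucc_or_eq_last j with ⟨j, rfl⟩ | rfl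
  · rw [vs_castSucc, vs_castSucc] at h
    have h1 := congrFun h i
    rw [Pi.single_eq_same, Pi.single_apply] at h1
    by_contra hne
    rw [if_neg (fun e => hne (by rw [e]))] at h1
    exact one_ne_zero h1
  · exfalso
    rw [vs_castSucc] at h
    obtain ⟨k, hk⟩ : ∃ k : Fin 10, k ≠ i := exists_ne i
    have h1 := congrFun h k
    rw [Pi.single_eq_of_ne hk, vs, if_neg (Fin.castSucc_lt_last k).ne', if_pos rfl] at h1
    exact one_ne_zero (by linear_combination h1)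
  · exfalso
    rw [vs_castSucc] at h
    obtain ⟨k, hk⟩ : ∃ k : Fin 10, k ≠ j := exists_ne j
    have h1 := congrFun h k
    rw [Pi.single_eq_of_ne hk, vs, if_neg (Fin.castSucc_lt_last k).ne', if_pos rfl] at h1
    exact one_ne_zero (by linear_combination -h1)
  · rfl

theorem tr_mg (σ : Equiv.Perm (Fin 11)) : tr (mg F σ) = (((mz σ).trace : ℤ) : F) := by
  change (mf F σ).trace = _
  rw [mf, Matrix.trace, Matrix.trace, Int.cast_sum]
  rfl

end model

/-- the model -/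
noncomputable def rhoE (F : Type u) [Field F] : _root_.Matrix.SpecialLinearGroup (Fin 2) (ZMod 11) →* GL (Fin 10) F := (mg F).comp phi

theorem trz_u : ∀ x : ZMod 11, x ≠ 0 → (mz (xp x)).trace = -1 := by decide +kernel

theorem trz_Zt : ∀ τ : ZMod 11, τ ^ 2 - 4 ≠ 0 → (mz (xp τ * wp)).trace = fz 1 τ := by decide +kernel

variable {F : Type u} [Field F] {P : Subgroup (GL (Fin 10) F)}

/-- **Representations with the same traces are conjugate.** -/
theorem exists_J (hC : Core P) {ρ : _root_.Matrix.SpecialLinearGroup (Fin 2) (ZMod 11) →* GL (Fin 10) F} (hρ : ρ.range = P)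
    (hz : ρ (t (-1)) = 1) {s : ℤ} (hu : ∀ x : ZMod 11, x ≠ 0 → tr (ρ (u x)) = -1)
    (hZ : ∀ τ : ZMod 11, τ ^ 2 - 4 ≠ 0 → tr (ρ (Zt τ)) = ((fz s τ : ℤ) : F))
    {ρ' : _root_.Matrix.SpecialLinearGroup (Fin 2) (ZMod 11) →* GL (Fin 10) F} (hz' : ρ' (t (-1)) = 1)
    (hu' : ∀ x : ZMod 11, x ≠ 0 → tr (ρ' (u x)) = -1)
    (hZ' : ∀ τ : ZMod 11, τ ^ 2 - 4 ≠ 0 → tr (ρ' (Zt τ)) = ((fz s τ : ℤ) : F)) :
    ∃ J : GL (Fin 10) F, ∀ g, ρ' g = J * ρ g * J⁻¹ := by
  refine H920.exists_conj_of_trace ρ ρ' (adjoin_range hC ρ hρ) (tr_ext (by rw [ZMod.card]; norm_num) hz hz' ?_ ?_)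
  · intro x
    by_cases hx : x = 0
    · rw [hx, u_zero, map_one, map_one]
    · rw [hu x hx, hu' x hx]
  · intro τ hτ
    rw [hZ τ hτ, hZ' τ hτ]

theorem rhoE_neg : rhoE F (t (-1)) = 1 := by
  rw [rhoE, MonoidHom.comp_apply, phi_neg, map_one]

theorem rhoE_u (x : ZMod 11) (hx : x ≠ 0) : tr (rhoE F (u x)) = -1 := by
  rw [rhoE, MonoidHom.comp_apply, phi_u, tr_mg, trz_u x hx]
  norm_num

theorem rhoE_Zt (τ : ZMod 11) (hτ : τ ^ 2 - 4 ≠ 0) : tr (rhoE F (Zt τ)) = ((fz 1 τ : ℤ) : F) := by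
  rw [rhoE, MonoidHom.comp_apply, Zt, map_mul, phi_u, phi_w, tr_mg, trz_Zt τ hτ]

end Cfsg.Agent.H830.O10
end

-- part: H830/O10/Common
section
/-!
# Common lemmas for the kills of `L₂(11)` in dimension 10 (helper830)
-/

set_option autoImplicit false
set_option linter.unusedSectionVars false

namespace Cfsg.Agent.H830.O10

open Matrix Module Cfsg Cfsg.Geo Cfsg.Agent.H915.LD Cfsg.Agent.H464.Sl2 Cfsg.Agent.H910.Aut
open Cfsg.Agent.H933.O10 (Cx fix_of_mem_omegaGL)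
open Cfsg.Agent.ClassicalGeometry.AutPSL.Auto (cj)

universe u

section gen

variable {F : Type u} [Field F] {ι : Type} [Fintype ι] [DecidableEq ι]

/-- the stabiliser of a vector -/
def K0 (P : Subgroup (GL ι F)) (v : ι → F) : Subgroup P where
  carrier := {g | ((g : GL ι F) : Matrix ι ι F) *ᵥ v = v}
  one_mem' := Matrix.one_mulVec v
  mul_mem' := by
    intro a b ha hb
    change (((a : GL ι F) * (b : GL ι F) : GL ι F) : Matrix ι ι F) *ᵥ v = v
    rw [Units.val_mul, ← Matrix.mulVec_mulVec, hb, ha]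
  inv_mem' := by
    intro a ha
    change (((a : GL ι F)⁻¹ : GL ι F) : Matrix ι ι F) *ᵥ v = v
    conv_lhs => rw [← show ((a : GL ι F) : Matrix ι ι F) *ᵥ v = v from ha]
    rw [Matrix.mulVec_mulVec, ← Units.val_mul, inv_mul_cancel, Units.val_one, Matrix.one_mulVec]

theorem mem_K0 {P : Subgroup (GL ι F)} {v : ι → F} {g : P} :
    g ∈ K0 P v ↔ ((g : GL ι F) : Matrix ι ι F) *ᵥ v = v := Iff.rfl

theorem mulVec_inj (g : GL ι F) {x y : ι → F} (h : (g : Matrix ι ι F) *ᵥ x = (g : Matrix ι ι F) *ᵥ y) : x = y := by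
  have h1 := congrArg (fun z => ((g⁻¹ : GL ι F) : Matrix ι ι F) *ᵥ z) h
  simp only [Matrix.mulVec_mulVec] at h1
  rwa [← Units.val_mul, inv_mul_cancel, Units.val_one, Matrix.one_mulVec, Matrix.one_mulVec] at h1

theorem index_K0 {P : Subgroup (GL ι F)} {n : ℕ} {v : Fin n → ι → F} (hv : Function.Injective v) (i₀ : Fin n)
    (hP : ∀ g ∈ P, ∃ i, (g : Matrix ι ι F) *ᵥ v i₀ = v i)
    (htr : ∀ i, ∃ g ∈ P, (g : Matrix ι ι F) *ᵥ v i₀ = v i) : (K0 P (v i₀)).index = n := by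
  have : Nonempty (Fin n) := ⟨i₀⟩
  choose! f hf using hP
  have key : ∀ a b : P, (QuotientGroup.leftRel (K0 P (v i₀))) a b ↔ f a = f b := by
    intro a b
    rw [QuotientGroup.leftRel_apply, mem_K0]
    have h1 := hf a a.2
    have h2 := hf b b.2
    constructor
    · intro h
      apply hv
      rw [← h1, ← h2]
      have h3 := congrArg (fun z => ((a : GL ι F) : Matrix ι ι F) *ᵥ z) h
      simp only [Matrix.mulVec_mulVec] at h3
      rw [← h3, ← Units.val_mul]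
      simp only [_root_.Subgroup.coe_mul, _root_.InvMemClass.coe_inv, _root_.mul_inv_cancel_left]
    · intro h
      apply mulVec_inj (a : GL ι F)
      rw [Matrix.mulVec_mulVec, ← Units.val_mul, h1, h, ← h2]
      simp only [_root_.Subgroup.coe_mul, _root_.InvMemClass.coe_inv, _root_.mul_inv_cancel_left]
  rw [Subgroup.index_eq_card, ← Nat.card_fin (n := n)] 
  refine Nat.card_congr (Equiv.ofBijective (Quotient.lift (fun a : P => f a) fun a b h => (key a b).1 h) ⟨?_, ?_⟩)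
  · intro a b
    induction a using Quotient.inductionOn with
    | h a =>
      induction b using Quotient.inductionOn with
      | h b =>
        intro h
        exact Quotient.sound ((key a b).2 h)
  · intro i
    obtain ⟨g, hg, h⟩ := htr i
    refine ⟨Quotient.mk _ ⟨g, hg⟩, ?_⟩
    apply hv
    change v (f g) = v i
    rw [← hf g hg, h]

/-- Elements of `omegaGL` have determinant one. -/
theorem det_omegaGL {Q : (ι → F) → F} {g : GL ι F} (hg : g ∈ omegaGL Q) :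
    (g : Matrix ι ι F).det = 1 := by
  obtain ⟨y, hy, rfl⟩ := hg
  have h1 := Abelianization.commutator_subset_ker
    ((Matrix.GeneralLinearGroup.det : GL ι F →* Fˣ).comp (Cfsg.isometryGroup F Q).subtype) hy
  have h2 := congrArg Units.val (MonoidHom.mem_ker.1 h1)
  exact h2

end gen

theorem card_psl_le : Nat.card (ProjectiveSpecialLinearGroup (Fin 2) (ZMod 11)) ≤ 14641 := by
  have h1 : Nat.card (ProjectiveSpecialLinearGroup (Fin 2) (ZMod 11)) ≤
      Nat.card (_root_.Matrix.SpecialLinearGroup (Fin 2) (ZMod 11)) :=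
    Nat.card_le_card_of_surjective _ (QuotientGroup.mk'_surjective _)
  have h2 : Nat.card (_root_.Matrix.SpecialLinearGroup (Fin 2) (ZMod 11)) ≤ Nat.card (Matrix (Fin 2) (Fin 2) (ZMod 11)) :=
    Nat.card_le_card_of_injective _ Subtype.val_injective
  have h3 : Nat.card (Matrix (Fin 2) (Fin 2) (ZMod 11)) = 14641 := by
    rw [Matrix, Nat.card_fun, Nat.card_fun]
    simp
  omega

theorem no_alt {T : Type*} [Group T] {n : ℕ} (hn : n = 11 ∨ n = 12)
    (e : Nonempty (T ≃* ProjectiveSpecialLinearGroup (Fin 2) (ZMod 11)))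
    (e' : Nonempty (T ≃* alternatingGroup (Fin n))) : False := by
  obtain ⟨e⟩ := e
  obtain ⟨e'⟩ := e'
  have h1 := Nat.card_congr (e'.symm.trans e).toEquiv
  have h2 := card_psl_le
  rw [← h1] at h2
  have h3 : 2 * Nat.card (alternatingGroup (Fin n)) = n.factorial := by
    have : Nontrivial (Fin n) := Fin.nontrivial_iff_two_le.2 (by omega)
    have h4 := two_mul_nat_card_alternatingGroup (α := Fin n)
    rw [Nat.card_perm, Nat.card_fin] at h4
    exact h4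
  rcases hn with rfl | rfl
  · have h5 : Nat.factorial 11 = 39916800 := by decide
    omega
  · have h5 : Nat.factorial 12 = 479001600 := by decide
    omega

variable {F : Type u} [Field F] [Fintype F] {p : ℕ} {Q : (Fin 10 → F) → F} {H P : Subgroup (GL (Fin 10) F)}

/-- **The representation.** -/
theorem exists_rho (h : Cx p Q H P) (hp11 : p ≠ 11)
    (e : Soc P ≃* ProjectiveSpecialLinearGroup (Fin 2) (ZMod 11)) :
    ∃ ρ : _root_.Matrix.SpecialLinearGroup (Fin 2) (ZMod 11) →* GL (Fin 10) F, ρ.range = P ∧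
      (∀ (g : _root_.Matrix.SpecialLinearGroup (Fin 2) (ZMod 11)) (h : ρ g ∈ P), e (toSoc P ⟨ρ g, h⟩) = QuotientGroup.mk g) ∧
      ρ (t (-1)) = 1 ∧ (∀ x : ZMod 11, x ≠ 0 → tr (ρ (u x)) = -1) ∧
      ∃ s : ℤ, (s = 1 ∨ s = -1) ∧ (p = 3 → s = -1) ∧
        ∀ τ : ZMod 11, τ ^ 2 - 4 ≠ 0 → tr (ρ (Zt τ)) = ((fz s τ : ℤ) : F) := by
  have := Fact.mk h.prime
  have := h.char
  have hpK : ¬ p ∣ Fintype.card (ZMod 11) := by
    rw [ZMod.card]
    intro h'
    exact hp11 ((Nat.prime_dvd_prime_iff_eq h.prime (by norm_num)).1 h')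
  obtain ⟨-, -, hbot⟩ := H933.O10.l2_row h (by rw [ZMod.card]; norm_num) (by rw [ZMod.card]; norm_num) hpK e
  obtain ⟨ρ, hρ, hρe⟩ := l2_rep h.core (by rw [ZMod.card]; norm_num) (by rw [ZMod.card]; norm_num) e
  have hz := (l2_bot_iff h.core e ρ hρ hρe).1 hbot
  obtain ⟨s, h1, h2, h3, h4⟩ := core_traces p h.core ρ hρ hp11 hz
  exact ⟨ρ, hρ, hρe, hz, h3, s, h1, h2, h4⟩

end Cfsg.Agent.H830.O10
end

-- part: H830/O10/EleD
section
/-!
# The eleven-point model: the outer element, and the kill (helper830)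
-/

set_option autoImplicit false
set_option linter.unusedSectionVars false

namespace Cfsg.Agent.H830.O10

open Matrix Module Cfsg Cfsg.Geo Cfsg.Agent.H915.LD Cfsg.Agent.H464.Sl2 Cfsg.Agent.H910.Aut
open Cfsg.Agent.H933.O10 (Cx fix_of_mem_omegaGL)
open Cfsg.Agent.ClassicalGeometry.AutPSL.Auto (cj)

universe u

/-- the nonresidues -/
def nq : Finset (Fin 11) := {2, 6, 7, 8, 10}

/-- the incidence matrix: `v i ↦ ∑_{r ∈ nq} v (r - i)` -/
def dz : Matrix (Fin 10) (Fin 10) ℤ := fun k j =>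
  ∑ r ∈ nq, ((if r - j.castSucc = k.castSucc then 1 else 0) - (if r - j.castSucc = Fin.last 10 then 1 else 0))

theorem dz_sq : dz * dz = (3 : ℤ) • (1 : Matrix (Fin 10) (Fin 10) ℤ) := by (set_option synthInstance.maxSize 100000 in exact Cfsg.Agent.Lib.Refl.of (by decide +kernel))

theorem dz_u : ∀ x : ZMod 11, dz * mz (xp x) = mz (xp (-x)) * dz := by (set_option synthInstance.maxSize 100000 in exact Cfsg.Agent.Lib.Refl.of (by decide +kernel))

theorem dz_h : ∀ a : ZMod 11, a ≠ 0 → dz * mz (hp a) = mz (hp a) * dz := by (set_option synthInstance.maxSize 100000 in exact Cfsg.Agent.Lib.Refl.of (by decide +kernel))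

theorem dz_w : dz * mz wp = mz wp * dz := by (set_option synthInstance.maxSize 100000 in exact Cfsg.Agent.Lib.Refl.of (by decide +kernel))

theorem dz_col : ∀ k : Fin 10, dz k 0 = ∑ r ∈ nq, ((if r = k.castSucc then 1 else 0) - (if r = Fin.last 10 then 1 else 0)) := by
  decide +kernel

section model

variable (F : Type u) [Field F]

def dF : Matrix (Fin 10) (Fin 10) F := dz.map (Int.castRingHom F)

theorem dF_sq : dF F * dF F = (3 : F) • (1 : Matrix (Fin 10) (Fin 10) F) := by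
  rw [dF, ← Matrix.map_mul, dz_sq]
  ext i j
  rw [Matrix.map_apply, Matrix.smul_apply, Matrix.smul_apply, Matrix.one_apply, Matrix.one_apply]
  split <;> simp

theorem dF_mul {σ τ : Equiv.Perm (Fin 11)} (h : dz * mz σ = mz τ * dz) : dF F * mf F σ = mf F τ * dF F := by
  rw [dF, mf, mf, ← Matrix.map_mul, ← Matrix.map_mul, h]

theorem dF_vs : dF F *ᵥ vs F 0 = ∑ r ∈ nq, vs F r := by
  have h0 : vs F 0 = Pi.single 0 1 := vs_castSucc F 0
  rw [h0, Matrix.mulVec_single_one]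
  funext k
  rw [Matrix.col_apply, dF, Matrix.map_apply, dz_col, Finset.sum_apply, map_sum]
  refine Finset.sum_congr rfl fun r _ => ?_
  rw [vs]
  simp

/-- the outer element -/
def dE (h3 : (3 : F) ≠ 0) : GL (Fin 10) F where
  val := dF F
  inv := (3 : F)⁻¹ • dF F
  val_inv := by rw [Matrix.mul_smul, dF_sq, smul_smul, inv_mul_cancel₀ h3, one_smul]
  inv_val := by rw [Matrix.smul_mul, dF_sq, smul_smul, inv_mul_cancel₀ h3, one_smul]

theorem dE_twist (h3 : (3 : F) ≠ 0) (g : _root_.Matrix.SpecialLinearGroup (Fin 2) (ZMod 11)) :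
    dE F h3 * rhoE F g * (dE F h3)⁻¹ = rhoE F (cj dd g) := by
  refine twist_of_gen rhoE_neg ?_ ?_ ?_ g
  · intro x
    rw [mul_inv_eq_iff_eq_mul, rhoE, MonoidHom.comp_apply, MonoidHom.comp_apply, phi_u, phi_u]
    exact Units.ext (dF_mul F (dz_u x))
  · intro a
    rw [mul_inv_eq_iff_eq_mul, rhoE, MonoidHom.comp_apply, phi_t]
    exact Units.ext (dF_mul F (dz_h a a.ne_zero))
  · rw [mul_inv_eq_iff_eq_mul, rhoE, MonoidHom.comp_apply, phi_w]
    exact Units.ext (dF_mul F dz_w)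

def A2 : Matrix (Fin 10) (Fin 5) (ZMod 2) := !![0, 0, 1, 0, 0; 1, 0, 0, 0, 1; 0, 0, 1, 1, 1; 1, 0, 0, 1, 1; 1, 0, 1, 0, 0; 1, 1, 1, 0, 0; 0, 1, 1, 1, 0; 0, 1, 0, 0, 0; 0, 0, 1, 0, 1; 1, 1, 0, 1, 0]
def B2 : Matrix (Fin 5) (Fin 10) (ZMod 2) := !![1, 0, 0, 1, 0, 0, 0, 1, 1, 1; 0, 1, 0, 0, 0, 0, 1, 0, 1, 1; 0, 0, 1, 1, 0, 0, 1, 0, 0, 1; 0, 0, 0, 0, 1, 0, 1, 0, 0, 1; 0, 0, 0, 0, 0, 1, 1, 1, 0, 1]
def L2 : Matrix (Fin 5) (Fin 10) (ZMod 2) := !![1, 0, 1, 1, 0, 0, 0, 0, 0, 0; 0, 0, 1, 1, 0, 1, 0, 0, 0, 0; 1, 0, 0, 0, 0, 0, 0, 0, 0, 0; 0, 1, 0, 1, 0, 0, 0, 0, 0, 0; 1, 1, 1, 1, 0, 0, 0, 0, 0, 0]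
def R2 : Matrix (Fin 10) (Fin 5) (ZMod 2) := !![1, 0, 0, 0, 0; 0, 1, 0, 0, 0; 0, 0, 1, 0, 0; 0, 0, 0, 0, 0; 0, 0, 0, 1, 0; 0, 0, 0, 0, 1; 0, 0, 0, 0, 0; 0, 0, 0, 0, 0; 0, 0, 0, 0, 0; 0, 0, 0, 0, 0]

theorem fac2 : A2 * B2 = dz.map (Int.castRingHom (ZMod 2)) - 1 := by (delta Cfsg.Agent.H830.O10.dz; set_option synthInstance.maxSize 100000 in exact Cfsg.Agent.Lib.Refl.of (by decide +kernel))

theorem lac2 : L2 * A2 = 1 := by decide +kernel

theorem rac2 : B2 * R2 = 1 := by decide +kernel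

theorem rank_dF [CharP F 2] : (dF F - 1).rank = 5 := by
  let f : ZMod 2 →+* F := ZMod.castHom (dvd_refl 2) F
  have h1 : dF F - 1 = A2.map f * B2.map f := by
    rw [← Matrix.map_mul, fac2, dF]
    ext i j
    simp [Matrix.one_apply]
  have h2 : L2.map f * A2.map f = 1 := by
    rw [← Matrix.map_mul, lac2, Matrix.map_one f (map_zero f) (map_one f)]
  have h3 : B2.map f * R2.map f = 1 := by
    rw [← Matrix.map_mul, rac2, Matrix.map_one f (map_zero f) (map_one f)]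
  rw [h1]
  apply le_antisymm
  · exact (Matrix.rank_mul_le_left _ _).trans (Matrix.rank_le_width _)
  · have h4 : L2.map f * (A2.map f * B2.map f) * R2.map f = 1 := by
      rw [← Matrix.mul_assoc, h2, Matrix.one_mul, h3]
    have h5 : (1 : Matrix (Fin 5) (Fin 5) F).rank = 5 := by rw [Matrix.rank_one, Fintype.card_fin]
    calc 5 = (L2.map f * (A2.map f * B2.map f) * R2.map f).rank := by rw [h4, h5]
      _ ≤ (A2.map f * B2.map f).rank := (Matrix.rank_mul_le_left _ _).trans (Matrix.rank_mul_le_right _ _)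

end model

/-! ### The kill -/

variable {F : Type u} [Field F] [Fintype F] {p : ℕ} {Q : (Fin 10 → F) → F} {H P : Subgroup (GL (Fin 10) F)}

/-- the setting of the eleven-point model -/
structure Ctx (ρ : _root_.Matrix.SpecialLinearGroup (Fin 2) (ZMod 11) →* GL (Fin 10) F) (J : GL (Fin 10) F) : Prop where
  conj : ∀ g, rhoE F g = J * ρ g * J⁻¹

namespace Ctx

variable {ρ : _root_.Matrix.SpecialLinearGroup (Fin 2) (ZMod 11) →* GL (Fin 10) F} {J : GL (Fin 10) F} (c : Ctx ρ J)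

/-- the eleven vectors -/
def vv (J : GL (Fin 10) F) (i : Fin 11) : Fin 10 → F := ((J⁻¹ : GL (Fin 10) F) : Matrix (Fin 10) (Fin 10) F) *ᵥ vs F i

include c in
theorem rho_eq (g : _root_.Matrix.SpecialLinearGroup (Fin 2) (ZMod 11)) : ρ g = J⁻¹ * rhoE F g * J := by
  rw [c.conj]
  group

include c in
theorem rho_vv (g : _root_.Matrix.SpecialLinearGroup (Fin 2) (ZMod 11)) (i : Fin 11) :
    (ρ g : Matrix (Fin 10) (Fin 10) F) *ᵥ vv J i = vv J (phi g i) := by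
  rw [c.rho_eq, vv, Matrix.mulVec_mulVec, ← Units.val_mul, mul_assoc, mul_inv_cancel, mul_one, Units.val_mul,
    ← Matrix.mulVec_mulVec, vv, rhoE]
  exact congrArg _ (mg_mulVec F (phi g) i)

theorem vv_injective : Function.Injective (vv J) := fun _ _ h => vs_injective F (mulVec_inj _ h)

theorem vv_sum : ∑ i, vv J i = 0 := by
  rw [← Matrix.mulVec_zero ((J⁻¹ : GL (Fin 10) F) : Matrix (Fin 10) (Fin 10) F), ← vs_sum F, Matrix.mulVec_sum]
  rfl

theorem vv_ne (i : Fin 11) : vv J i ≠ 0 := by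
  intro h
  obtain ⟨j, hj⟩ : ∃ j : Fin 11, j ≠ i := exists_ne i
  have h1 : ∀ k : Fin 11, k.val < 10 → vs F k ≠ 0 := by
    intro k hk h2
    obtain ⟨k', rfl⟩ : ∃ k' : Fin 10, k = k'.castSucc := ⟨⟨k.val, hk⟩, rfl⟩
    rw [vs_castSucc] at h2
    have h3 := congrFun h2 k'
    rw [Pi.single_eq_same] at h3
    exact one_ne_zero h3
  have h2 : vs F i = 0 := by
    apply mulVec_inj J⁻¹
    rw [Matrix.mulVec_zero]
    exact h
  by_cases hi : i.val < 10
  · exact h1 i hi h2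
  · have hi' : i = Fin.last 10 := by
      apply Fin.ext
      rw [Fin.val_last]
      omega
    rw [hi'] at h2
    have h3 := congrFun h2 0
    rw [vs, if_neg (by decide), if_pos rfl, Pi.zero_apply] at h3
    exact one_ne_zero (by linear_combination -h3)

theorem trans_cases : ∀ i j : Fin 11, i ≠ 0 → j ≠ 0 → ∃ a b : ZMod 11, a ≠ 0 ∧ b ≠ 0 ∧
    (hp a (hp b i) = j ∨ hp a ((xp (-4) * wp * xp 3 : Equiv.Perm (Fin 11)) (hp b i)) = j ∨
      hp a ((xp (-4) * wp * xp 3 : Equiv.Perm (Fin 11))⁻¹ (hp b i)) = j) := by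
  (set_option synthInstance.maxSize 100000 in exact Cfsg.Agent.Lib.Refl.of (by decide +kernel))

theorem hp_zero (a : ZMod 11) : hp a 0 = 0 := by
  revert a
  decide +kernel

theorem k0_zero : (xp (-4) * wp * xp 3 : Equiv.Perm (Fin 11)) 0 = 0 := by decide +kernel

/-- 2-transitivity -/
theorem exists_trans {i j : Fin 11} (hi : i ≠ 0) (hj : j ≠ 0) : ∃ g, phi g 0 = 0 ∧ phi g i = j := by
  obtain ⟨a, b, ha, hb, h⟩ := trans_cases i j hi hj
  have hk : phi (u (-4) * w 1 * u 3) = xp (-4) * wp * xp 3 := by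
    rw [map_mul, map_mul, phi_u, phi_u, phi_w]
  have ht : ∀ a : ZMod 11, a ≠ 0 → ∃ g, phi g = hp a := fun a ha => ⟨t (Units.mk0 a ha), phi_t _⟩
  obtain ⟨ga, hga⟩ := ht a ha
  obtain ⟨gb, hgb⟩ := ht b hb
  have hk0 := k0_zero
  rw [← hk] at hk0
  have hk0' : (phi (u (-4) * w 1 * u 3))⁻¹ 0 = 0 := by
    rw [Equiv.Perm.inv_eq_iff_eq]
    exact hk0.symm
  rcases h with h | h | h
  · refine ⟨ga * gb, ?_, ?_⟩
    · rw [map_mul, hga, hgb, Equiv.Perm.mul_apply, hp_zero, hp_zero]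
    · rw [map_mul, hga, hgb, Equiv.Perm.mul_apply, h]
  · rw [← hk] at h
    refine ⟨ga * (u (-4) * w 1 * u 3) * gb, ?_, ?_⟩
    · rw [map_mul, map_mul, hga, hgb, Equiv.Perm.mul_apply, Equiv.Perm.mul_apply, hp_zero, hk0, hp_zero]
    · rw [map_mul, map_mul, hga, hgb, Equiv.Perm.mul_apply, Equiv.Perm.mul_apply, h]
  · rw [← hk] at h
    refine ⟨ga * (u (-4) * w 1 * u 3)⁻¹ * gb, ?_, ?_⟩
    · rw [map_mul, map_mul, map_inv, hga, hgb, Equiv.Perm.mul_apply, Equiv.Perm.mul_apply, hp_zero, hk0', hp_zero]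
    · rw [map_mul, map_mul, map_inv, hga, hgb, Equiv.Perm.mul_apply, Equiv.Perm.mul_apply, h]

/-- transitivity -/
theorem exists_to (i : Fin 11) : ∃ g, phi g 0 = i := by
  refine ⟨u (show ZMod 11 from i), ?_⟩
  exact (congrArg (fun σ : Equiv.Perm (Fin 11) => σ 0) (phi_u (show ZMod 11 from i))).trans
    (zero_add (show ZMod 11 from i))

include c in
/-- **The kill, from the triviality of the normaliser.** -/
theorem kill (h : Cx p Q H P) (hρ : ρ.range = P)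
    (hN : ∀ x ∈ H, ∃ (s : _root_.Matrix.SpecialLinearGroup (Fin 2) (ZMod 11)) (a : F),
      (x : Matrix (Fin 10) (Fin 10) F) = a • (ρ s : Matrix (Fin 10) (Fin 10) F)) :
    Nonempty (Soc P ≃* alternatingGroup (Fin 11)) ∧ (11 : F) ≠ 0 ∧ (2 : F) ≠ 0 ∧ (3 : F) ≠ 0 := by
  have hmem : ∀ g, ρ g ∈ P := fun g => hρ ▸ ⟨g, rfl⟩
  have hP : ∀ g ∈ P, ∃ s, ρ s = g := fun g hg => by rwa [← hρ] at hg
  refine Cx.eleven h (K := K0 P (vv J 0)) (v0 := vv J 0) ?_ (vv_ne 0) (fun k hk => hk) ?_ ?_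
  · refine index_K0 vv_injective 0 ?_ ?_
    · intro g hg
      obtain ⟨s, rfl⟩ := hP g hg
      exact ⟨_, c.rho_vv s 0⟩
    · intro i
      obtain ⟨s, hs⟩ := exists_to i
      exact ⟨ρ s, hmem s, by rw [c.rho_vv, hs]⟩
  · rintro ⟨g, hg⟩ hgK ⟨g', hg'⟩ hgK'
    obtain ⟨s, rfl⟩ := hP g hg
    obtain ⟨s', rfl⟩ := hP g' hg'
    rw [mem_K0, c.rho_vv] at hgK hgK'
    have h1 : phi s 0 ≠ 0 := fun h => hgK (by rw [h])
    have h2 : phi s' 0 ≠ 0 := fun h => hgK' (by rw [h])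
    obtain ⟨k, hk0, hk⟩ := exists_trans h1 h2
    refine ⟨⟨ρ k, hmem k⟩, by rw [mem_K0, c.rho_vv, hk0], ⟨ρ (s⁻¹ * k⁻¹ * s'), hmem _⟩, ?_, ?_⟩
    · rw [mem_K0, c.rho_vv, map_mul, map_mul, Equiv.Perm.mul_apply, Equiv.Perm.mul_apply, map_inv, map_inv, ← hk]
      simp only [_root_.Fin.isValue, _root_.Equiv.Perm.coe_inv, _root_.Equiv.symm_apply_apply]
    · apply Subtype.ext
      change ρ s' = ρ k * ρ s * ρ (s⁻¹ * k⁻¹ * s')
      rw [← map_mul, ← map_mul]
      congr 1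
      group
  · intro x hx
    obtain ⟨s, a, ha⟩ := hN x hx
    exact ⟨ρ s, hmem s, a, by rw [ha, Matrix.smul_mulVec]⟩

end Ctx

end Cfsg.Agent.H830.O10
end

-- part: H830/O10/EleKill
section
/-!
# `L₂(11) < A₁₁` in dimension 10: `|F| = 2`, and `|F| = 7` with the characters of the eleven points (helper830)
-/

set_option autoImplicit false
set_option linter.unusedSectionVars false

namespace Cfsg.Agent.H830.O10

open Matrix Module Cfsg Cfsg.Geo Cfsg.Agent.H915.LD Cfsg.Agent.H464.Sl2 Cfsg.Agent.H910.Aut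
open Cfsg.Agent.H933.O10 (Cx fix_of_mem_omegaGL)
open Cfsg.Agent.ClassicalGeometry.AutPSL.Auto (cj)

universe u

variable {F : Type u} [Field F] [Fintype F] {p : ℕ} {Q : (Fin 10 → F) → F} {H P : Subgroup (GL (Fin 10) F)}

theorem char_of_card (h : Cx p Q H P) {q : ℕ} (hq : q.Prime) (hF : Fintype.card F = q) : p = q := by
  have := h.char
  have h1 : ((Fintype.card F : ℕ) : F) = 0 := Nat.cast_card_eq_zero F
  rw [hF] at h1
  exact (Nat.prime_dvd_prime_iff_eq h.prime hq).1 ((CharP.cast_eq_zero_iff F p q).1 h1)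

/-- the outer element acts as an outer automorphism on `ρ` -/
theorem twist_conj {ρ ρ' : _root_.Matrix.SpecialLinearGroup (Fin 2) (ZMod 11) →* GL (Fin 10) F} {J D : GL (Fin 10) F}
    (hJ : ∀ g, ρ' g = J * ρ g * J⁻¹) (hD : ∀ g, D * ρ' g * D⁻¹ = ρ' (cj dd g))
    (g : _root_.Matrix.SpecialLinearGroup (Fin 2) (ZMod 11)) : (J⁻¹ * D * J) * ρ g * (J⁻¹ * D * J)⁻¹ = ρ (cj dd g) := by
  have h1 := hD g
  rw [hJ, hJ] at h1
  calc (J⁻¹ * D * J) * ρ g * (J⁻¹ * D * J)⁻¹ = J⁻¹ * (D * (J * ρ g * J⁻¹) * D⁻¹) * J := by group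
    _ = ρ (cj dd g) := by rw [h1]; group

theorem scalar_mul_ne {x y : GL (Fin 10) F} {c : F} (h : (x : Matrix (Fin 10) (Fin 10) F) = c • (y : Matrix (Fin 10) (Fin 10) F)) :
    c ≠ 0 := by
  rintro rfl
  rw [zero_smul] at h
  have h1 := x.isUnit
  rw [h] at h1
  exact not_isUnit_zero h1

/-- **`|F| = 2`.** -/
theorem kill_two (h : Cx p Q H P) (hF : Fintype.card F = 2)
    (e : Soc P ≃* ProjectiveSpecialLinearGroup (Fin 2) (ZMod 11)) : False := by
  obtain rfl := char_of_card h Nat.prime_two hF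
  have hch := h.char
  have h20 : (2 : F) = 0 := by exact_mod_cast CharP.cast_eq_zero F 2
  obtain ⟨ρ, hρ, hρe, hz, hu, s, hs, -, hZ⟩ := exists_rho h (by norm_num) e
  obtain ⟨J, hJ⟩ := exists_J h.core hρ hz hu hZ (rhoE_neg (F := F)) rhoE_u (by
    intro τ hτ
    rw [rhoE_Zt τ hτ]
    rcases hs with rfl | rfl
    · rfl
    · unfold fz
      split_ifs
      · push_cast
        linear_combination 2 * h20
      · rfl
      · push_cast
        linear_combination -h20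
      · rfl)
  have c : Ctx ρ J := ⟨hJ⟩
  have h3 : (3 : F) ≠ 0 := by
    intro h3
    exact one_ne_zero (show (1 : F) = 0 by linear_combination h3 - h20)
  refine (c.kill h hρ ?_).2.2.1 h20
  intro x hx
  obtain ⟨g, a, hg | hg⟩ := nrm_cases h.core e ρ hρ hρe (twist_conj hJ (dE_twist F h3)) (Nrm.of_core h.hc hx)
  · exact ⟨g, a, hg⟩
  · exfalso
    have ha : a = 1 := by
      have h1 := FiniteField.pow_card_sub_one_eq_one a (scalar_mul_ne hg)
      rwa [hF, pow_one] at h1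
    rw [ha, one_smul] at hg
    have hx' : x = ρ g * (J⁻¹ * dE F h3 * J) := Units.ext hg
    have hD : J⁻¹ * dE F h3 * J ∈ omegaGL Q := by
      have h1 : J⁻¹ * dE F h3 * J = (ρ g)⁻¹ * x := by rw [hx']; group
      rw [h1]
      exact (omegaGL Q).mul_mem ((omegaGL Q).inv_mem (h.le_omega (hρ ▸ ⟨g, rfl⟩))) (h.hH.1.le hx)
    obtain ⟨y, hy, hy2⟩ := hD
    obtain ⟨R, hR, hRn⟩ := H883.Bridge.exists_quadraticForm h.hQ
    have h1 := (H80.mem_Omega_iff h20 hR (by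
      intro v hv
      by_contra hne
      obtain ⟨-, z, hz⟩ := h.hQ.nondegenerate v hne
      rw [← hR] at hz
      exact hz (hv z)) (by rw [Fintype.card_fin]; norm_num) y).1 hy
    have h2 : H80.mat y - 1 = ((J⁻¹ : GL (Fin 10) F) : Matrix (Fin 10) (Fin 10) F) * (dF F - 1) *
        (J : Matrix (Fin 10) (Fin 10) F) := by
      have h4 : H80.mat y = ((J⁻¹ : GL (Fin 10) F) : Matrix (Fin 10) (Fin 10) F) * dF F *
          (J : Matrix (Fin 10) (Fin 10) F) := by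
        change ((y : GL (Fin 10) F) : Matrix (Fin 10) (Fin 10) F) = _
        have h5 : ((isometryGroup F Q).subtype y : GL (Fin 10) F) = (y : GL (Fin 10) F) := rfl
        rw [← h5, hy2, Units.val_mul, Units.val_mul]
        rfl
      rw [h4, Matrix.mul_sub, Matrix.sub_mul, Matrix.mul_one, ← Units.val_mul J⁻¹ J, inv_mul_cancel, Units.val_one]
    have h3 : (H80.mat y - 1).rank = 5 := by
      rw [h2, Matrix.rank_mul_eq_left_of_isUnit_det _ _ ((Matrix.isUnit_iff_isUnit_det _).1 J.isUnit),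
        Matrix.rank_mul_eq_right_of_isUnit_det _ _ ((Matrix.isUnit_iff_isUnit_det _).1 J⁻¹.isUnit), rank_dF]
    rw [h3] at h1
    exact absurd h1 (by decide)

/-- **`|F| = 7`, the characters of the eleven points.** -/
theorem kill_seven_one (h : Cx p Q H P) (hF : Fintype.card F = 7)
    (e : Soc P ≃* ProjectiveSpecialLinearGroup (Fin 2) (ZMod 11))
    {ρ : _root_.Matrix.SpecialLinearGroup (Fin 2) (ZMod 11) →* GL (Fin 10) F} (hρ : ρ.range = P)
    (hρe : ∀ (g : _root_.Matrix.SpecialLinearGroup (Fin 2) (ZMod 11)) (h : ρ g ∈ P), e (toSoc P ⟨ρ g, h⟩) = QuotientGroup.mk g)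
    (hz : ρ (t (-1)) = 1) (hu : ∀ x : ZMod 11, x ≠ 0 → tr (ρ (u x)) = -1)
    (hZ : ∀ τ : ZMod 11, τ ^ 2 - 4 ≠ 0 → tr (ρ (Zt τ)) = ((fz 1 τ : ℤ) : F)) : False := by
  obtain rfl := char_of_card h (by norm_num) hF
  have hch := h.char
  have h70 : (7 : F) = 0 := by exact_mod_cast CharP.cast_eq_zero F 7
  obtain ⟨J, hJ⟩ := exists_J h.core hρ hz hu hZ (rhoE_neg (F := F)) rhoE_u rhoE_Zt
  have c : Ctx ρ J := ⟨hJ⟩
  have h3 : (3 : F) ≠ 0 := by
    intro h3
    exact one_ne_zero (show (1 : F) = 0 by linear_combination h70 - 2 * h3)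
  refine no_alt (Or.inl rfl) ⟨e⟩ (c.kill h hρ ?_).1
  intro x hx
  obtain ⟨g, a, hg | hg⟩ := nrm_cases h.core e ρ hρ hρe (twist_conj hJ (dE_twist F h3)) (Nrm.of_core h.hc hx)
  · exact ⟨g, a, hg⟩
  · exfalso
    have ha := FiniteField.pow_card_sub_one_eq_one a (scalar_mul_ne hg)
    rw [hF] at ha
    obtain ⟨R, hR, hRn⟩ := H883.Bridge.exists_quadraticForm h.hQ
    have hfix : ∀ (s : _root_.Matrix.SpecialLinearGroup (Fin 2) (ZMod 11)) (v : Fin 10 → F),
        R ((ρ s : Matrix (Fin 10) (Fin 10) F) *ᵥ v) = R v := by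
      intro s v
      rw [hR]
      exact fix_of_mem_omegaGL (h.le_omega (hρ ▸ ⟨s, rfl⟩)) v
    have hpol : ∀ (s : _root_.Matrix.SpecialLinearGroup (Fin 2) (ZMod 11)) (v w : Fin 10 → F),
        QuadraticMap.polar R ((ρ s : Matrix (Fin 10) (Fin 10) F) *ᵥ v) ((ρ s : Matrix (Fin 10) (Fin 10) F) *ᵥ w) =
          QuadraticMap.polar R v w := by
      intro s v w
      rw [QuadraticMap.polar, ← mulVec_add, hfix, hfix, hfix]
      rfl
    have hb : ∀ i, R (Ctx.vv J i) = R (Ctx.vv J 0) := by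
      intro i
      obtain ⟨s, hs⟩ := Ctx.exists_to i
      rw [← hs, ← c.rho_vv, hfix]
    have hg0 : ∀ j, j ≠ 0 → QuadraticMap.polar R (Ctx.vv J 0) (Ctx.vv J j) =
        QuadraticMap.polar R (Ctx.vv J 0) (Ctx.vv J 1) := by
      intro j hj
      obtain ⟨s, hs0, hs⟩ := Ctx.exists_trans (i := 1) (j := j) (by decide) hj
      rw [← hpol s (Ctx.vv J 0) (Ctx.vv J 1), c.rho_vv, c.rho_vv, hs0, hs]
    have hgr : H882.Del.Gr R (Ctx.vv J) (QuadraticMap.polar R (Ctx.vv J 0) (Ctx.vv J 1)) := by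
      intro i j hij
      obtain ⟨s, hs⟩ := Ctx.exists_to i
      have h1 := hpol s (Ctx.vv J 0) (Ctx.vv J (phi s⁻¹ j))
      rw [c.rho_vv, c.rho_vv, hs, ← Equiv.Perm.mul_apply, ← map_mul, mul_inv_cancel, map_one, Equiv.Perm.one_apply] at h1
      rw [h1]
      apply hg0
      intro h2
      apply hij
      rw [← hs, ← h2, ← Equiv.Perm.mul_apply, ← map_mul, mul_inv_cancel, map_one, Equiv.Perm.one_apply]
    have hsum := H933.O10.map_sum_gr hgr hb Finset.univ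
    rw [Ctx.vv_sum, QuadraticMap.map_zero, Finset.card_univ, Fintype.card_fin, show (11 : ℕ).choose 2 = 55 by decide] at hsum
    have hsum5 := H933.O10.map_sum_gr hgr hb nq
    rw [show nq.card = 5 from rfl, show (5 : ℕ).choose 2 = 10 by decide] at hsum5
    push_cast at hsum hsum5
    -- the image of `vv 0`
    have hx0 : R ((x : Matrix (Fin 10) (Fin 10) F) *ᵥ Ctx.vv J 0) = R (Ctx.vv J 0) := by
      rw [hR]
      exact fix_of_mem_omegaGL (h.hH.1.le hx) _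
    have hDv : ((J⁻¹ * dE F h3 * J : GL (Fin 10) F) : Matrix (Fin 10) (Fin 10) F) *ᵥ Ctx.vv J 0 =
        ∑ r ∈ nq, Ctx.vv J r := by
      rw [Ctx.vv, Matrix.mulVec_mulVec, ← Units.val_mul, mul_assoc, mul_inv_cancel, mul_one, Units.val_mul,
        ← Matrix.mulVec_mulVec]
      change ((J⁻¹ : GL (Fin 10) F) : Matrix (Fin 10) (Fin 10) F) *ᵥ (dF F *ᵥ vs F 0) = _
      rw [dF_vs, Matrix.mulVec_sum]
      rfl
    rw [hg, Matrix.smul_mulVec, Units.val_mul, ← Matrix.mulVec_mulVec, hDv, QuadraticMap.map_smul, hfix, hsum5,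
      smul_eq_mul] at hx0
    have hb0 : R (Ctx.vv J 0) ≠ 0 := by
      intro hb0
      have ha0 : QuadraticMap.polar R (Ctx.vv J 0) (Ctx.vv J 1) = 0 := by
        rw [hb0] at hsum
        linear_combination hsum + 8 * QuadraticMap.polar R (Ctx.vv J 0) (Ctx.vv J 1) * h70
      obtain ⟨-, z, hz⟩ := h.hQ.nondegenerate (Ctx.vv J 0) (Ctx.vv_ne 0)
      apply hz
      rw [← hR]
      have hzz : z = ∑ k : Fin 10, ((J : Matrix (Fin 10) (Fin 10) F) *ᵥ z) k • Ctx.vv J k.castSucc := by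
        have h1 : (J : Matrix (Fin 10) (Fin 10) F) *ᵥ z =
            ∑ k : Fin 10, ((J : Matrix (Fin 10) (Fin 10) F) *ᵥ z) k • vs F k.castSucc := by
          simp only [vs_castSucc]
          exact pi_eq_sum_univ' _
        apply mulVec_inj J
        rw [Matrix.mulVec_sum]
        conv_lhs => rw [h1]
        refine Finset.sum_congr rfl fun k _ => ?_
        rw [Matrix.mulVec_smul, Ctx.vv, Matrix.mulVec_mulVec, ← Units.val_mul, mul_inv_cancel, Units.val_one,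
          Matrix.one_mulVec]
      have hlin : ∀ j, QuadraticMap.polarBilin R (Ctx.vv J 0) (Ctx.vv J j) = 0 := by
        intro j
        change QuadraticMap.polar R (Ctx.vv J 0) (Ctx.vv J j) = 0
        by_cases hj : j = 0
        · rw [hj, QuadraticMap.polar_self, hb0, smul_zero]
        · rw [hg0 j hj, ha0]
      change QuadraticMap.polarBilin R (Ctx.vv J 0) z = 0
      rw [hzz, map_sum]
      exact Finset.sum_eq_zero fun k _ => by rw [map_smul, hlin, smul_zero]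
    have h1 : (3 * a ^ 2 - 1) * R (Ctx.vv J 0) = 0 := by
      linear_combination hx0 + 4 * a ^ 2 * hsum + a ^ 2 * (6 * R (Ctx.vv J 0) +
        30 * QuadraticMap.polar R (Ctx.vv J 0) (Ctx.vv J 1)) * h70
    have h2 : 3 * a ^ 2 - 1 = 0 := (mul_eq_zero.1 h1).resolve_right hb0
    have h4 : (5 : F) = 0 := by
      linear_combination (9 * a ^ 4 + 3 * a ^ 2 + 1) * h2 - 27 * ha - 3 * h70
    exact one_ne_zero (show (1 : F) = 0 by linear_combination 3 * h4 - 2 * h70)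

end Cfsg.Agent.H830.O10
end

-- part: H830/O10/Sev/Data
section
/-!
# Data for `2.M₂₂ < Ω₁₀⁻(7)` (helper830)

Vectors of `F₇^11` are coded by natural numbers in base 8.
-/

set_option autoImplicit false

namespace Cfsg.Agent.H830.O10.Sev

/-- search trees -/
inductive Tr
  | l : Tr
  | n : Tr → ℕ → Tr → Tr

/-- membership -/
def Tr.mem : Tr → ℕ → Bool
  | .l, _ => false
  | .n a c b, x => bif Nat.beq x c then true else bif Nat.ble x c then a.mem x else b.mem x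

/-- all elements -/
def Tr.all : Tr → (ℕ → Bool) → Bool
  | .l, _ => true
  | .n a c b, f => f c && (a.all f && b.all f)

theorem Tr.of_all {t : Tr} {f : ℕ → Bool} (h : t.all f = true) {x : ℕ} (hx : t.mem x = true) : f x = true := by
  induction t with
  | l => exact absurd hx (by simp [Tr.mem])
  | n a c b ha hb =>
    rw [Tr.all, Bool.and_eq_true, Bool.and_eq_true] at h
    rw [Tr.mem] at hx
    cases h1 : Nat.beq x c with
    | true =>
      rw [Nat.eq_of_beq_eq_true h1]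
      exact h.1
    | false =>
      rw [h1, cond_false] at hx
      cases h2 : Nat.ble x c with
      | true =>
        rw [h2, cond_true] at hx
        exact ha h.2.1 hx
      | false =>
        rw [h2, cond_false] at hx
        exact hb h.2.2 hx

/-- `∑ i < n, r_i c_i` -/
def rd : ℕ → ℕ → ℕ → ℕ
  | 0, _, _ => 0
  | n + 1, r, c => Nat.add (Nat.mul (Nat.mod r 8) (Nat.mod c 8)) (rd n (Nat.div r 8) (Nat.div c 8))

/-- matrix times vector, modulo 7 -/
def mulM : List ℕ → ℕ → ℕ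
  | [], _ => 0
  | r :: rs, c => Nat.add (Nat.mod (rd 11 r c) 7) (Nat.mul 8 (mulM rs c))

/-- the involution `w` -/
def Wr : List ℕ := [2454267025, 6275997770, 6442904202, 6469786946, 94831506, 5506622786, 717426794, 2971195906, 774394418, 1439989810, 1212321194]

/-- the shift -/
def Xr : List ℕ := [1073741824, 1, 8, 64, 512, 4096, 32768, 262144, 2097152, 16777216, 134217728]

/-- the multiplication by 4 -/
def Hr : List ℕ := [1, 512, 262144, 134217728, 8, 4096, 2097152, 1073741824, 64, 32768, 16777216]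

/-- minus one -/
def Nr : List ℕ := [6, 48, 384, 3072, 24576, 196608, 1572864, 12582912, 100663296, 805306368, 6442450944]

/-- the product of the four reflections -/
def Yr : List ℕ := [6859308149, 1261716366, 2798736305, 4768967246, 3358700899, 834056833, 5185388846, 2189596046, 2606008728, 6897211147, 7286569102]

/-- the 1540 vectors -/
def S : Tr :=
  (.n (.n (.n (.n (.n (.n (.n (.n (.n (.n (.n .l 2925657 .l) 13851558 (.n .l 17225411 .l)) 20295723 (.n (.n .l 23405256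
  .l) 23909893 .l)) 24400075 (.n (.n (.n .l 33697062 .l) 33769876 .l) 41970852 (.n (.n .l 42587748 .l) 44936626 .l)))
  45267754 (.n (.n (.n (.n .l 47916778 .l) 51239489 .l) 53236057 (.n (.n .l 54821459 .l) 57970717 .l)) 58337629 (.n (.n
  (.n .l 60831561 .l) 61190661 .l) 68298118 (.n (.n .l 71321782 .l) 73026562 .l)))) 75880098 (.n (.n (.n (.n (.n .l
  76242978 .l) 79367596 .l) 80748710 (.n (.n .l 83932779 .l) 84005593 .l)) 86300949 (.n (.n (.n .l 88949973 .l) 89281101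
  .l) 90182491 (.n (.n .l 91629979 .l) 102312196 .l))) 109584692 (.n (.n (.n (.n .l 110307330 .l) 110812464 .l)
  113917972 (.n (.n .l 135018345 .l) 137803288 .l)) 151335121 (.n (.n (.n .l 155977353 .l) 158109826 .l) 159929189 (.n
  (.n .l 161040817 .l) 162365784 .l))))) 164947867 (.n (.n (.n (.n (.n (.n .l 168708771 .l) 174170633 .l) 179738636 (.n
  (.n .l 185111577 .l) 185866947 .l)) 187242048 (.n (.n (.n .l 189899052 .l) 190227814 .l) 191279144 (.n (.n .l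
  195200600 .l) 196043470 .l))) 201677644 (.n (.n (.n (.n .l 213172330 .l) 220777221 .l) 222350156 (.n (.n .l 224494277
  .l) 229475841 .l)) 229725846 (.n (.n (.n .l 232365147 .l) 244881574 .l) 248655113 (.n (.n .l 269576496 .l) 270159008
  .l)))) 270905922 (.n (.n (.n (.n (.n .l 272668361 .l) 273875252 .l) 275377046 (.n (.n .l 277788588 .l) 278345564 .l))
  278413590 (.n (.n (.n .l 278528418 .l) 281675828 .l) 281763027 (.n (.n .l 286141219 .l) 287846923 .l))) 290367861 (.n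
  (.n (.n (.n .l 299524876 .l) 306730781 .l) 310815981 (.n (.n .l 312871132 .l) 313697307 .l)) 314163885 (.n (.n (.n .l
  315214445 .l) 324330853 .l) 324602614 (.n (.n .l 327782700 .l) 335766816 .l)))))) 337926477 (.n (.n (.n (.n (.n (.n
  (.n .l 339848019 .l) 340701984 .l) 342952813 (.n (.n .l 348146946 .l) 354556769 .l)) 359217796 (.n (.n (.n .l
  359493008 .l) 362142032 .l) 374148509 (.n (.n .l 378186445 .l) 383334224 .l))) 402922331 (.n (.n (.n (.n .l 405557355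
  .l) 409915912 .l) 410290713 (.n (.n .l 413817621 .l) 419791946 .l)) 420231749 (.n (.n (.n .l 425727813 .l) 425888456
  .l) 438341715 (.n (.n .l 438571672 .l) 439494853 .l)))) 442681190 (.n (.n (.n (.n (.n .l 442714853 .l) 444261762 .l)
  448082082 (.n (.n .l 453597522 .l) 456703401 .l)) 463765736 (.n (.n (.n .l 464814595 .l) 466557833 .l) 466701032 (.n
  (.n .l 475141317 .l) 475416081 .l))) 478952621 (.n (.n (.n (.n .l 478960307 .l) 479544842 .l) 486652488 (.n (.n .l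
  488801859 .l) 489525288 .l)) 492246356 (.n (.n (.n .l 500606036 .l) 504308910 .l) 508124190 (.n (.n .l 508158294 .l)
  508987171 .l))))) 511226485 (.n (.n (.n (.n (.n (.n .l 538469540 .l) 542483690 .l) 545981478 (.n (.n .l 546384944 .l)
  550510996 .l)) 554752849 (.n (.n (.n .l 562515338 .l) 564725980 .l) 565579945 (.n (.n .l 565617185 .l) 570574256 .l)))
  573135787 (.n (.n (.n (.n .l 581495467 .l) 583076228 .l) 584212496 (.n (.n .l 594196533 .l) 594552140 .l)) 594559826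
  (.n (.n (.n .l 598325294 .l) 598600450 .l) 605464237 (.n (.n .l 607040784 .l) 607183990 .l)))) 608898052 (.n (.n (.n
  (.n (.n .l 609943824 .l) 617038422 .l) 625656157 (.n (.n .l 629191962 .l) 629225625 .l)) 629480005 (.n (.n (.n .l
  633561516 .l) 634246914 .l) 634940768 (.n (.n .l 638600578 .l) 639241141 .l))) 645949570 (.n (.n (.n (.n .l 645989680
  .l) 671462232 .l) 672044744 (.n (.n .l 674538284 .l) 674596363 .l)) 677654761 (.n (.n (.n .l 677740637 .l) 677955747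
  .l) 678512723 (.n (.n .l 680924265 .l) 681797942 .l))))))) 682393803 (.n (.n (.n (.n (.n (.n (.n (.n .l 685395333 .l)
  690407592 (.n .l 695555378 .l)) 699564642 (.n (.n .l 711599784 .l) 714248808 .l)) 714523971 (.n (.n (.n .l 717350046
  .l) 721459928 .l) 723530437 (.n (.n .l 730760338 .l) 732058796 .l))) 733039832 (.n (.n (.n (.n .l 735585970 .l)
  745955539 .l) 749110537 (.n (.n .l 749410970 .l) 758527378 .l)) 759577938 (.n (.n (.n .l 760044068 .l) 760842019 .l)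
  762925842 (.n (.n .l 766781666 .l) 772920540 .l)))) 774216947 (.n (.n (.n (.n (.n .l 783373962 .l) 785665076 .l)
  806373526 (.n (.n .l 818497568 .l) 825086710 .l)) 828860249 (.n (.n (.n .l 841376676 .l) 844015977 .l) 844236806 (.n
  (.n .l 847383810 .l) 849556659 .l))) 852964546 (.n (.n (.n (.n .l 857384115 .l) 860565909 .l) 872965380 (.n (.n .l
  873949734 .l) 876677536 .l)) 877698353 (.n (.n (.n .l 882458640 .l) 883514009 .l) 883839187 (.n (.n .l 886499712 .l)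
  890352988 .l))))) 894002739 (.n (.n (.n (.n (.n (.n .l 897735734 .l) 907723054 .l) 908793956 (.n (.n .l 911343776 .l)
  912701006 .l)) 913583258 (.n (.n (.n .l 915628357 .l) 917506422 .l) 1074107531 (.n (.n .l 1080146760 .l) 1080396331
  .l))) 1081345769 (.n (.n (.n (.n .l 1084242523 .l) 1090619117 .l) 1092658714 (.n (.n .l 1093238993 .l) 1093871926 .l))
  1095513153 (.n (.n (.n .l 1096880771 .l) 1102426304 .l) 1104823713 (.n (.n .l 1107825369 .l) 1118061420 .l))))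
  1125028163 (.n (.n (.n (.n (.n .l 1130829749 .l) 1132061553 .l) 1133168834 (.n (.n .l 1143085930 .l) 1144439317 .l))
  1144443972 (.n (.n (.n .l 1152395027 .l) 1158448669 .l) 1158857357 (.n (.n .l 1167380641 .l) 1177349355 .l)))
  1179243821 (.n (.n (.n (.n .l 1183454118 .l) 1184181075 .l) 1208910045 (.n (.n .l 1210396698 .l) 1210680968 .l))
  1211844788 (.n (.n (.n .l 1212219995 .l) 1215249518 .l) 1219664404 (.n (.n .l 1235244325 .l) 1236412933 .l))))))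
  1242333890 (.n (.n (.n (.n (.n (.n (.n .l 1247818824 .l) 1254247540 .l) 1262085678 (.n (.n .l 1264878608 .l)
  1265941894 .l)) 1279433512 (.n (.n (.n .l 1280508838 .l) 1288128562 .l) 1288326536 (.n (.n .l 1292020009 .l)
  1298926272 .l))) 1301368873 (.n (.n (.n (.n .l 1310405467 .l) 1318620436 .l) 1319233419 (.n (.n .l 1319582936 .l)
  1348736529 .l)) 1349670168 (.n (.n (.n .l 1350966582 .l) 1354417498 .l) 1368787469 (.n (.n .l 1369723180 .l)
  1378648075 .l)))) 1380931307 (.n (.n (.n (.n (.n .l 1387746850 .l) 1392616001 .l) 1393365064 (.n (.n .l 1393834148 .l)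
  1403673922 .l)) 1403889053 (.n (.n (.n .l 1410263890 .l) 1418357612 .l) 1431321262 (.n (.n .l 1431489829 .l)
  1436625820 .l))) 1437185715 (.n (.n (.n (.n .l 1437909088 .l) 1444045729 .l) 1446037558 (.n (.n .l 1476776259 .l)
  1480892616 .l)) 1486935576 (.n (.n (.n .l 1487057411 .l) 1493177938 .l) 1497008030 (.n (.n .l 1497936384 .l)
  1505802998 .l))))) 1506750833 (.n (.n (.n (.n (.n (.n .l 1507448390 .l) 1517640859 .l) 1519192416 (.n (.n .l
  1521822512 .l) 1527180494 .l)) 1528844317 (.n (.n (.n .l 1529094273 .l) 1530233152 .l) 1532668627 (.n (.n .l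
  1537600561 .l) 1561604800 .l))) 1565871237 (.n (.n (.n (.n .l 1567236132 .l) 1567549074 .l) 1568347760 (.n (.n .l
  1582151018 .l) 1589842653 .l)) 1590986446 (.n (.n (.n .l 1613421152 .l) 1613763949 .l) 1614086957 (.n (.n .l
  1615292812 .l) 1619902613 .l)))) 1635851686 (.n (.n (.n (.n (.n .l 1636854870 .l) 1640557604 .l) 1641243268 (.n (.n .l
  1645533505 .l) 1648547733 .l)) 1654136113 (.n (.n (.n .l 1658202413 .l) 1674912106 .l) 1677804779 (.n (.n .l
  1679496588 .l) 1683065370 .l))) 1683380566 (.n (.n (.n (.n .l 1703052106 .l) 1705378640 .l) 1706509602 (.n (.n .l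
  1715093905 .l) 1716677697 .l)) 1722374437 (.n (.n (.n .l 1746225481 .l) 1750110565 .l) 1750739627 (.n (.n .l
  1762937610 .l) 1766217768 .l)))))))) 1778801248 (.n (.n (.n (.n (.n (.n (.n (.n (.n .l 1782724356 .l) 1785223510 (.n
  .l 1785309918 .l)) 1791938708 (.n (.n .l 1795326043 .l) 1795954216 .l)) 1801475585 (.n (.n (.n .l 1801773491 .l)
  1808349018 .l) 1818960941 (.n (.n .l 1821016393 .l) 1821549940 .l))) 1822054570 (.n (.n (.n (.n .l 1822464133 .l)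
  1829332197 .l) 1835806728 (.n (.n .l 1837378116 .l) 1837806768 .l)) 1838238612 (.n (.n (.n .l 1839761476 .l)
  1847867294 .l) 1858921176 (.n (.n .l 1882111371 .l) 1893309145 .l)))) 1902910387 (.n (.n (.n (.n (.n .l 1903907355 .l)
  1916471564 .l) 1924302037 (.n (.n .l 1924319908 .l) 1937061077 .l)) 1942772811 (.n (.n (.n .l 1942848117 .l)
  1948606758 .l) 1954751078 (.n (.n .l 1959028897 .l) 1959052592 .l))) 1960354060 (.n (.n (.n (.n .l 1963932761 .l)
  1966728897 .l) 1968539818 (.n (.n .l 1980897394 .l) 1987416459 .l)) 1989240904 (.n (.n (.n .l 1989722882 .l)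
  2153100726 .l) 2153142117 (.n (.n .l 2153473245 .l) 2156611968 .l))))) 2156968660 (.n (.n (.n (.n (.n (.n .l
  2157014020 .l) 2161272064 .l) 2167247376 (.n (.n .l 2174130189 .l) 2181346888 .l)) 2182299700 (.n (.n (.n .l
  2191002016 .l) 2199957641 .l) 2203016368 (.n (.n .l 2203493908 .l) 2204183338 .l))) 2207426753 (.n (.n (.n (.n .l
  2215294109 .l) 2217798065 .l) 2221803626 (.n (.n .l 2222308704 .l) 2226132643 .l)) 2226764512 (.n (.n (.n .l
  2227308720 .l) 2228227344 .l) 2234428070 (.n (.n .l 2234929228 .l) 2238828690 .l)))) 2239431894 (.n (.n (.n (.n (.n .l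
  2241160019 .l) 2242299570 .l) 2242430890 (.n (.n .l 2242849378 .l) 2243331356 .l)) 2245405393 (.n (.n (.n .l
  2253406624 .l) 2254104216 .l) 2261681555 (.n (.n .l 2284065987 .l) 2289129752 .l))) 2290369389 (.n (.n (.n (.n .l
  2298783235 .l) 2302775384 .l) 2308499718 (.n (.n .l 2316785835 .l) 2320952004 .l)) 2322942888 (.n (.n (.n .l
  2323766634 .l) 2334130890 .l) 2343427282 (.n (.n .l 2345252525 .l) 2356847661 .l)))))) 2357866819 (.n (.n (.n (.n (.n
  (.n (.n .l 2360365161 .l) 2360797348 .l) 2367850849 (.n (.n .l 2373527275 .l) 2375240469 .l)) 2393551125 (.n (.n (.n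
  .l 2395095822 .l) 2396199008 .l) 2423006565 (.n (.n .l 2425209101 .l) 2427337234 .l))) 2427771094 (.n (.n (.n (.n .l
  2427787509 .l) 2427839820 .l) 2437954477 (.n (.n .l 2439250009 .l) 2440412058 .l)) 2450900802 (.n (.n (.n .l
  2452535155 .l) 2453846248 .l) 2457515865 (.n (.n .l 2461547550 .l) 2462869045 .l)))) 2473960286 (.n (.n (.n (.n (.n .l
  2477277355 .l) 2477414982 .l) 2479008798 (.n (.n .l 2480257738 .l) 2486527848 .l)) 2491548038 (.n (.n (.n .l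
  2502969056 .l) 2508372517 .l) 2509394741 (.n (.n .l 2509578456 .l) 2509772461 .l))) 2510918053 (.n (.n (.n (.n .l
  2512040209 .l) 2512511218 .l) 2513311080 (.n (.n .l 2513492261 .l) 2517031083 .l)) 2518157348 (.n (.n (.n .l
  2521715560 .l) 2523081267 .l) 2523083178 (.n (.n .l 2524227419 .l) 2550993417 .l))))) 2554539379 (.n (.n (.n (.n (.n
  (.n .l 2555446957 .l) 2556985921 .l) 2560738593 (.n (.n .l 2561792387 .l) 2563946819 .l)) 2568143004 (.n (.n (.n .l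
  2568639661 .l) 2574084779 .l) 2585154957 (.n (.n .l 2585475606 .l) 2590678237 .l))) 2590685069 (.n (.n (.n (.n .l
  2592713221 .l) 2594198740 .l) 2594646824 (.n (.n .l 2594649939 .l) 2595087187 .l)) 2595506221 (.n (.n (.n .l
  2596820912 .l) 2603432622 .l) 2607469662 (.n (.n .l 2607493805 .l) 2609045789 .l)))) 2611479990 (.n (.n (.n (.n (.n .l
  2611813106 .l) 2622261600 .l) 2628178070 (.n (.n .l 2638349658 .l) 2639450674 .l)) 2639456785 (.n (.n (.n .l
  2639734475 .l) 2640723988 .l) 2641177833 (.n (.n .l 2652201202 .l) 2662192722 .l))) 2662948995 (.n (.n (.n (.n .l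
  2684882214 .l) 2686134528 .l) 2692045909 (.n (.n .l 2692176529 .l) 2692956294 .l)) 2703411816 (.n (.n (.n .l
  2704958004 .l) 2712353602 .l) 2713077038 (.n (.n .l 2718057195 .l) 2718784152 .l))))))) 2724888915 (.n (.n (.n (.n (.n
  (.n (.n (.n .l 2725615872 .l) 2735015717 .l) 2736010340 (.n (.n .l 2739034123 .l) 2743622504 .l)) 2751545398 (.n (.n
  (.n .l 2752515122 .l) 2754185756 .l) 2755221861 (.n (.n .l 2756074356 .l) 2756926305 .l))) 2762250757 (.n (.n (.n (.n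
  .l 2763310508 .l) 2765652582 .l) 2775844596 (.n (.n .l 2778352213 .l) 2779014301 .l)) 2779861189 (.n (.n (.n .l
  2781485924 .l) 2782143133 .l) 2785175568 (.n (.n .l 2785496140 .l) 2789381973 .l)))) 2792098540 (.n (.n (.n (.n (.n .l
  2796995236 .l) 2819920740 .l) 2819962131 (.n (.n .l 2825038188 .l) 2832018630 .l)) 2836454152 (.n (.n (.n .l
  2843883266 .l) 2844330846 .l) 2848639507 (.n (.n .l 2848838867 .l) 2855685420 .l))) 2855971524 (.n (.n (.n (.n .l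
  2860635505 .l) 2861984041 .l) 2862156381 (.n (.n .l 2863452340 .l) 2870039669 .l)) 2872323349 (.n (.n (.n .l
  2873428908 .l) 2873742368 .l) 2873820012 (.n (.n .l 2873931445 .l) 2875944064 .l))))) 2876822739 (.n (.n (.n (.n (.n
  (.n .l 2877509915 .l) 2887110954 .l) 2894864924 (.n (.n .l 2895288746 .l) 2896246094 .l)) 2896758466 (.n (.n (.n .l
  2897136256 .l) 2897389838 .l) 2897390692 (.n (.n .l 2898310506 .l) 2903071969 .l))) 2903393822 (.n (.n (.n (.n .l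
  2903640915 .l) 2907038939 .l) 2907360267 (.n (.n .l 2907449475 .l) 2907475242 .l)) 2907551129 (.n (.n (.n .l
  2913338113 .l) 2916452490 .l) 2920220562 (.n (.n .l 2922031133 .l) 2924320413 .l)))) 2926619458 (.n (.n (.n (.n (.n .l
  2928068906 .l) 2956379482 .l) 2957092782 (.n (.n .l 2957140228 .l) 2960729989 .l)) 2962431241 (.n (.n (.n .l
  2965389602 .l) 2978365873 .l) 2979092837 (.n (.n .l 2980684133 .l) 2987781139 .l))) 2990723939 (.n (.n (.n (.n .l
  2993188072 .l) 2993855298 .l) 3004057133 (.n (.n .l 3004780954 .l) 3004796242 .l)) 3005928667 (.n (.n (.n .l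
  3013950170 .l) 3014927629 .l) 3022265764 (.n (.n .l 3025491560 .l) 3029861380 .l)))))) 3042289243 (.n (.n (.n (.n (.n
  (.n (.n .l 3045739340 .l) 3050123398 .l) 3053592612 (.n (.n .l 3066561883 .l) 3066673792 .l)) 3223378648 (.n (.n (.n
  .l 3223762437 .l) 3224275481 .l) 3228078154 (.n (.n .l 3231717069 .l) 3232498283 .l))) 3232679219 (.n (.n (.n (.n .l
  3241843955 .l) 3242314068 .l) 3244458840 (.n (.n .l 3250271115 .l) 3256445850 .l)) 3256993124 (.n (.n (.n .l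
  3257206337 .l) 3260437635 .l) 3263706474 (.n (.n .l 3271590763 .l) 3271920141 .l)))) 3276018186 (.n (.n (.n (.n (.n .l
  3279327296 .l) 3281095510 .l) 3282325704 (.n (.n .l 3284848868 .l) 3292867445 .l)) 3293912405 (.n (.n (.n .l
  3305550017 .l) 3305969940 .l) 3306039562 (.n (.n .l 3306524697 .l) 3310540968 .l))) 3314469914 (.n (.n (.n (.n .l
  3316330724 .l) 3318002590 .l) 3327420054 (.n (.n .l 3328398486 .l) 3331705370 .l)) 3332975814 (.n (.n (.n .l
  3355488913 .l) 3356275013 .l) 3356755787 (.n (.n .l 3358335568 .l) 3361853992 .l))))) 3365274850 (.n (.n (.n (.n (.n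
  (.n .l 3368394141 .l) 3369248106 .l) 3372752971 (.n (.n .l 3385026155 .l) 3386129649 .l)) 3393556481 (.n (.n (.n .l
  3393841885 .l) 3400873686 .l) 3405822504 (.n (.n .l 3407107648 .l) 3410930579 .l))) 3412809050 (.n (.n (.n (.n .l
  3430951069 .l) 3440067925 .l) 3445641227 (.n (.n .l 3446447158 .l) 3456489393 .l)) 3459089270 (.n (.n (.n .l
  3459213891 .l) 3464072073 .l) 3469652529 (.n (.n .l 3499492052 .l) 3501370474 .l)))) 3503935666 (.n (.n (.n (.n (.n .l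
  3506733720 .l) 3508573376 .l) 3510823701 (.n (.n .l 3515958824 .l) 3517916381 .l)) 3527792366 (.n (.n (.n .l
  3530885141 .l) 3535854357 .l) 3536610630 (.n (.n .l 3536753899 .l) 3540542894 .l))) 3541449520 (.n (.n (.n (.n .l
  3541718824 .l) 3542986069 .l) 3545556714 (.n (.n .l 3545611370 .l) 3551192281 .l)) 3554094096 (.n (.n (.n .l
  3560982621 .l) 3561836586 .l) 3563604737 (.n (.n .l 3573720738 .l) 3577305410 .l))))))))) 3577330330 (.n (.n (.n (.n
  (.n (.n (.n (.n (.n (.n .l 3580828314 .l) 3580914211 (.n .l 3584180586 .l)) 3584605339 (.n (.n .l 3584645505 .l)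
  3584656656 .l)) 3594698114 (.n (.n (.n .l 3595065964 .l) 3596966555 .l) 3601511627 (.n (.n .l 3604545707 .l)
  3625287757 .l))) 3625310374 (.n (.n (.n (.n .l 3626455966 .l) 3627509361 .l) 3628780176 (.n (.n .l 3630174317 .l)
  3640819945 .l)) 3642819593 (.n (.n (.n .l 3644353741 .l) 3647591794 .l) 3651930625 (.n (.n .l 3653627208 .l)
  3663319709 .l)))) 3668839748 (.n (.n (.n (.n (.n .l 3669301139 .l) 3670846291 .l) 3671414425 (.n (.n .l 3671793685 .l)
  3679888114 .l)) 3680081258 (.n (.n (.n .l 3691598596 .l) 3692090500 .l) 3692497130 (.n (.n .l 3710125888 .l)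
  3710869897 .l))) 3711970738 (.n (.n (.n (.n .l 3712824654 .l) 3714393333 .l) 3714635666 (.n (.n .l 3715113262 .l)
  3718516760 .l)) 3721208925 (.n (.n (.n .l 3728028885 .l) 3732462664 .l) 3733608256 (.n (.n .l 3736084765 .l)
  3762445533 .l))))) 3762984995 (.n (.n (.n (.n (.n (.n .l 3766920227 .l) 3770173267 .l) 3772008149 (.n (.n .l
  3780543662 .l) 3793148436 .l)) 3798223618 (.n (.n (.n .l 3801130536 .l) 3803328648 .l) 3818988677 (.n (.n .l
  3831620968 .l) 3831682456 .l))) 3836358736 (.n (.n (.n (.n .l 3842847141 .l) 3845555378 .l) 3893219904 (.n (.n .l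
  3893225637 .l) 3897106780 .l)) 3898160182 (.n (.n (.n .l 3902089989 .l) 3902903809 .l) 3910414872 (.n (.n .l
  3911203331 .l) 3914249878 .l)))) 3916202304 (.n (.n (.n (.n (.n .l 3917155403 .l) 3925962131 .l) 3926928082 (.n (.n .l
  3932793459 .l) 3933080452 .l)) 3935736210 (.n (.n (.n .l 3935785098 .l) 3937035305 .l) 3937970848 (.n (.n .l
  3938006618 .l) 3944945270 .l))) 3945342891 (.n (.n (.n (.n .l 3945922722 .l) 3947281555 .l) 3947954465 (.n (.n .l
  3949553482 .l) 3950458001 .l)) 3950690436 (.n (.n (.n .l 3951102323 .l) 3956847489 .l) 3964876293 (.n (.n .l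
  3970434405 .l) 3972113964 .l)))))) 3976807254 (.n (.n (.n (.n (.n (.n (.n .l 3978330307 .l) 3999867627 .l) 4004848288
  (.n (.n .l 4034471280 .l) 4037740434 .l)) 4049922590 (.n (.n (.n .l 4054427307 .l) 4055404766 .l) 4064993520 (.n (.n
  .l 4065187469 .l) 4065266352 .l))) 4067273553 (.n (.n (.n (.n .l 4070974509 .l) 4071897368 .l) 4078375630 (.n (.n .l
  4083195214 .l) 4089811880 .l)) 4089897539 (.n (.n (.n .l 4099062275 .l) 4115159692 .l) 4117672594 (.n (.n .l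
  4118874347 .l) 4123722778 .l)))) 4127829125 (.n (.n (.n (.n (.n .l 4128806633 .l) 4130136157 .l) 4137956977 (.n (.n .l
  4299188530 .l) 4300213652 .l)) 4300290764 (.n (.n (.n .l 4304888245 .l) 4307756320 .l) 4308665382 (.n (.n .l
  4309207042 .l) 4317434625 .l))) 4318704677 (.n (.n (.n (.n .l 4320177001 .l) 4322761065 .l) 4329201702 (.n (.n .l
  4329690869 .l) 4329760491 .l)) 4330176774 (.n (.n (.n .l 4332407905 .l) 4334076187 .l) 4335940133 (.n (.n .l
  4339869520 .l) 4356498090 .l))))) 4357543050 (.n (.n (.n (.n (.n (.n .l 4362275988 .l) 4363781170 .l) 4365558043 (.n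
  (.n .l 4367851824 .l) 4369286313 .l)) 4371079552 (.n (.n (.n .l 4374162485 .l) 4379284581 .l) 4386474645 (.n (.n .l
  4389972804 .l) 4391582363 .l))) 4393175430 (.n (.n (.n (.n .l 4400139380 .l) 4404087968 .l) 4406261419 (.n (.n .l
  4408566540 .l) 4434724973 .l)) 4438022792 (.n (.n (.n .l 4446447894 .l) 4447425346 .l) 4451748238 (.n (.n .l
  4459794850 .l) 4466182693 .l)))) 4469196564 (.n (.n (.n (.n (.n .l 4472261997 .l) 4474545523 .l) 4490871812 (.n (.n .l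
  4496878897 .l) 4500036996 .l)) 4500122704 (.n (.n (.n .l 4504904369 .l) 4517807840 .l) 4518959634 (.n (.n .l
  4522661038 .l) 4524639560 .l))) 4524747122 (.n (.n (.n (.n .l 4524937480 .l) 4534526241 .l) 4535507284 (.n (.n .l
  4540011553 .l) 4564588378 .l)) 4564594048 (.n (.n (.n .l 4567754758 .l) 4570404034 .l) 4574333449 (.n (.n .l
  4575383715 .l) 4585086296 .l))))))) 4590066964 (.n (.n (.n (.n (.n (.n (.n (.n .l 4598447273 .l) 4609736964 .l)
  4615985171 (.n (.n .l 4619242138 .l) 4625057794 .l)) 4633087046 (.n (.n (.n .l 4636968588 .l) 4639240515 .l)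
  4639476590 (.n (.n .l 4640381109 .l) 4641947870 .l))) 4642653036 (.n (.n (.n (.n .l 4643154313 .l) 4643979613 .l)
  4644591700 (.n (.n .l 4647457388 .l) 4648097069 .l)) 4651927973 (.n (.n (.n .l 4651963736 .l) 4652898838 .l)
  4654145909 (.n (.n .l 4654194797 .l) 4656825411 .l)))) 4657141132 (.n (.n (.n (.n (.n .l 4664609824 .l) 4672750516 .l)
  4673699968 (.n (.n .l 4675684713 .l) 4676666372 .l)) 4700256554 (.n (.n (.n .l 4702091436 .l) 4705573404 .l)
  4708213538 (.n (.n .l 4709508636 .l) 4732403802 .l))) 4744350541 (.n (.n (.n (.n .l 4753572264 .l) 4756417120 .l)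
  4756478608 (.n (.n .l 4769110850 .l) 4782105643 .l)) 4786602352 (.n (.n (.n .l 4788803600 .l) 4791481541 .l)
  4809362257 (.n (.n .l 4832494002 .l) 4832503641 .l))))) 4840251794 (.n (.n (.n (.n (.n (.n .l 4843713896 .l)
  4844984718 .l) 4846038113 (.n (.n .l 4853616866 .l) 4856326272 .l)) 4857471920 (.n (.n (.n .l 4861905706 .l)
  4868725666 .l) 4871184416 (.n (.n .l 4874588369 .l) 4875298925 .l))) 4875541258 (.n (.n (.n (.n .l 4875899469 .l)
  4877109937 .l) 4879061110 (.n (.n .l 4879550592 .l) 4882728725 .l)) 4883163971 (.n (.n (.n .l 4883655875 .l)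
  4909853333 .l) 4910046477 (.n (.n .l 4918136874 .l) 4918520166 .l)))) 4919088300 (.n (.n (.n (.n (.n .l 4920633452 .l)
  4921066115 .l) 4926614882 (.n (.n .l 4932567318 .l) 4936307376 .l)) 4937745414 (.n (.n (.n .l 4942342797 .l)
  4945250870 .l) 4945351474 (.n (.n .l 4968554829 .l) 4971123605 .l))) 4972973355 (.n (.n (.n (.n .l 4985356628 .l)
  4988422964 .l) 4992968036 (.n (.n .l 4993401413 .l) 4994639251 .l)) 4999698781 (.n (.n (.n .l 5003915413 .l)
  5005249256 .l) 5005289030 (.n (.n .l 5005329252 .l) 5008790556 .l)))))) 5009106277 (.n (.n (.n (.n (.n (.n (.n .l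
  5012604261 .l) 5012629125 .l) 5026100422 (.n (.n .l 5026887586 .l) 5028093973 .l)) 5033535696 (.n (.n (.n .l
  5033805000 .l) 5034482257 .l) 5035840040 (.n (.n .l 5038742310 .l) 5044323221 .l))) 5044377877 (.n (.n (.n (.n .l
  5046948522 .l) 5052245226 .l) 5053094529 (.n (.n .l 5053180692 .l) 5059020330 .l)) 5062142225 (.n (.n (.n .l
  5068492128 .l) 5072018210 .l) 5073975312 (.n (.n .l 5077275882 .l) 5079526144 .l)))) 5100490094 (.n (.n (.n (.n (.n .l
  5100800180 .l) 5101535362 .l) 5103245973 (.n (.n .l 5104099938 .l) 5107190557 .l)) 5108804624 (.n (.n (.n .l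
  5113929128 .l) 5118765134 .l) 5120281614 (.n (.n .l 5125833846 .l) 5130720644 .l))) 5130816649 (.n (.n (.n (.n .l
  5135186602 .l) 5142224948 .l) 5143486985 (.n (.n .l 5156919138 .l) 5167596560 .l)) 5167917440 (.n (.n (.n .l
  5177125541 .l) 5179004012 .l) 5189060905 (.n (.n .l 5196092706 .l) 5196374022 .l))))) 5202268596 (.n (.n (.n (.n (.n
  (.n .l 5203073428 .l) 5203575566 .l) 5371697856 (.n (.n .l 5375955459 .l) 5376001323 .l)) 5376357952 (.n (.n (.n .l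
  5379496738 .l) 5379827866 .l) 5379869257 (.n (.n .l 5388700268 .l) 5396306272 .l))) 5396770904 (.n (.n (.n (.n .l
  5405005102 .l) 5407050467 .l) 5407561117 (.n (.n .l 5407979605 .l) 5408110925 .l)) 5409250476 (.n (.n (.n .l
  5410949929 .l) 5411578221 .l) 5415477683 (.n (.n .l 5415982425 .l) 5420436322 .l)))) 5421238088 (.n (.n (.n (.n (.n .l
  5421925096 .l) 5423645976 .l) 5424048476 (.n (.n .l 5428101784 .l) 5428578197 .l)) 5432612430 (.n (.n (.n .l
  5442983686 .l) 5444392149 .l) 5446916139 (.n (.n .l 5447394120 .l) 5448614262 .l))) 5453426699 (.n (.n (.n (.n .l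
  5454383536 .l) 5459150424 .l) 5476279858 (.n (.n .l 5483162664 .l) 5505036509 .l)) 5510062838 (.n (.n (.n .l
  5511764034 .l) 5513515203 .l) 5513566289 (.n (.n .l 5516114597 .l) 5519822875 .l)))))))) 5523114660 (.n (.n (.n (.n
  (.n (.n (.n (.n (.n .l 5523260736 .l) 5539807553 (.n .l 5544195251 .l)) 5547645348 (.n (.n .l 5559814659 .l)
  5564443024 .l)) 5567439451 (.n (.n (.n .l 5570429613 .l) 5570469989 .l) 5571196946 (.n (.n .l 5574777586 .l)
  5575984421 .l))) 5584005924 (.n (.n (.n (.n .l 5587472940 .l) 5596079237 .l) 5596517136 (.n (.n .l 5597375644 .l)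
  5609246874 .l)) 5610841754 (.n (.n (.n .l 5611565134 .l) 5637851884 .l) 5637893275 (.n (.n .l 5640475393 .l)
  5645620883 .l)))) 5655005293 (.n (.n (.n (.n (.n .l 5661865685 .l) 5663315077 .l) 5665614178 (.n (.n .l 5667903010 .l)
  5671584940 .l)) 5671860257 (.n (.n (.n .l 5672182558 .l) 5673453429 .l) 5676567750 (.n (.n .l 5682255684 .l)
  5682383462 .l))) 5682430677 (.n (.n (.n (.n .l 5682573876 .l) 5682895652 .l) 5688139989 (.n (.n .l 5689789077 .l)
  5691853489 .l)) 5692543899 (.n (.n (.n .l 5692544753 .l) 5692798272 .l) 5693147397 (.n (.n .l 5694645845 .l)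
  5694839843 .l))))) 5705214858 (.n (.n (.n (.n (.n (.n .l 5710586084 .l) 5713111852 .l) 5713990464 (.n (.n .l
  5716003146 .l) 5716085907 .l)) 5716191768 (.n (.n (.n .l 5716477011 .l) 5717381866 .l) 5726478667 (.n (.n .l
  5727464078 .l) 5727749538 .l))) 5727950550 (.n (.n (.n (.n .l 5733963011 .l) 5734249171 .l) 5738800368 (.n (.n .l
  5741095724 .l) 5741294636 .l)) 5744216261 (.n (.n (.n .l 5745575073 .l) 5771679424 .l) 5772673753 (.n (.n .l
  5777699137 .l) 5780317550 .l)))) 5780448170 (.n (.n (.n (.n (.n .l 5788243496 .l) 5789758387 .l) 5792939355 (.n (.n .l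
  5797578003 .l) 5798717610 .l)) 5807562082 (.n (.n (.n .l 5808448667 .l) 5810069762 .l) 5810690914 (.n (.n .l
  5811582378 .l) 5813831947 .l))) 5821870089 (.n (.n (.n (.n .l 5822480909 .l) 5824253337 .l) 5826624083 (.n (.n .l
  5827683330 .l) 5833008286 .l)) 5833860235 (.n (.n (.n .l 5834712730 .l) 5835719715 .l) 5839014811 (.n (.n .l
  5840210138 .l) 5846082704 .l)))))) 5849065012 (.n (.n (.n (.n (.n (.n (.n .l 5855362324 .l) 5856470368 .l) 5864318656
  (.n (.n .l 5865013420 .l) 5876857553 .l)) 5877580933 (.n (.n (.n .l 5884687760 .l) 5884976139 .l) 5906820150 (.n (.n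
  .l 5908547204 .l) 5909920478 .l))) 5910701636 (.n (.n (.n (.n .l 5915479430 .l) 5916119692 .l) 5917018450 (.n (.n .l
  5923049741 .l) 5926981956 .l)) 5927741869 (.n (.n (.n .l 5948756758 .l) 5949206571 .l) 5949721253 (.n (.n .l
  5950200116 .l) 5950477358 .l)))) 5950483469 (.n (.n (.n (.n (.n .l 5961752937 .l) 5967644312 .l) 5978121485 (.n (.n .l
  5978196553 .l) 5979050210 .l)) 5982440786 (.n (.n (.n .l 5982464929 .l) 5986501969 .l) 5989778473 (.n (.n .l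
  5990099570 .l) 5992884296 .l))) 5993671467 (.n (.n (.n (.n .l 5994198546 .l) 5994847404 .l) 5995284652 (.n (.n .l
  5995287760 .l) 5997220866 .l)) 5999249522 (.n (.n (.n .l 5999256354 .l) 6006614866 .l) 6007107939 (.n (.n .l
  6015849812 .l) 6044654259 .l))))) 6044706570 (.n (.n (.n (.n (.n (.n .l 6044722985 .l) 6045156397 .l) 6047281394 (.n
  (.n .l 6049258138 .l) 6056838683 .l)) 6058223444 (.n (.n (.n .l 6065012821 .l) 6065017868 .l) 6065707172 (.n (.n .l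
  6068219024 .l) 6075584781 .l))) 6076442330 (.n (.n (.n (.n .l 6076623504 .l) 6077890798 .l) 6079012954 (.n (.n .l
  6079726618 .l) 6079932754 .l)) 6080352544 (.n (.n (.n .l 6080539850 .l) 6086736152 .l) 6096519233 (.n (.n .l
  6103406736 .l) 6109090337 .l)))) 6109676853 (.n (.n (.n (.n (.n .l 6112424276 .l) 6112519553 .l) 6115974305 (.n (.n .l
  6124353669 .l) 6126835722 .l)) 6128157217 (.n (.n (.n .l 6132418726 .l) 6134253328 .l) 6137399436 (.n (.n .l
  6149522533 .l) 6150422950 .l))) 6151750738 (.n (.n (.n (.n .l 6181895314 .l) 6183364320 .l) 6188198660 (.n (.n .l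
  6193003761 .l) 6193735576 .l)) 6196379882 (.n (.n (.n .l 6214694122 .l) 6216407316 .l) 6220220062 (.n (.n .l
  6229137243 .l) 6229336470 .l))))))) 6232064132 (.n (.n (.n (.n (.n (.n (.n (.n .l 6233086482 .l) 6244682066 .l)
  6246507309 (.n (.n .l 6253710645 .l) 6258468692 .l)) 6264332949 (.n (.n (.n .l 6266991696 .l) 6268982531 .l)
  6276470788 (.n (.n .l 6281434817 .l) 6285320608 .l))) 6444182388 (.n (.n (.n (.n .l 6446663076 .l) 6450988208 .l)
  6451366166 (.n (.n .l 6452544532 .l) 6466229420 .l)) 6466956377 (.n (.n (.n .l 6471166674 .l) 6473061140 .l)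
  6476873074 (.n (.n .l 6477252642 .l) 6483026270 .l)))) 6497786092 (.n (.n (.n (.n (.n .l 6505489557 .l) 6505966467 .l)
  6505970730 (.n (.n .l 6510698628 .l) 6517241605 .l)) 6518348942 (.n (.n (.n .l 6519580746 .l) 6527675686 .l)
  6532119699 (.n (.n .l 6543247634 .l) 6545586782 .l))) 6547980544 (.n (.n (.n (.n .l 6551694660 .l) 6554667910 .l)
  6555916325 (.n (.n .l 6556538569 .l) 6557139246 .l)) 6579184934 (.n (.n (.n .l 6590382708 .l) 6594357133 .l)
  6600211653 (.n (.n .l 6600693680 .l) 6602514548 .l))))) 6611321766 (.n (.n (.n (.n (.n (.n .l 6621366101 .l)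
  6623205638 .l) 6629576947 (.n (.n .l 6630676318 .l) 6630881992 .l)) 6633348505 (.n (.n (.n .l 6641324249 .l)
  6646932404 .l) 6647057802 (.n (.n .l 6652873514 .l) 6665603882 .l))) 6665614683 (.n (.n (.n (.n .l 6673434355 .l)
  6686026788 .l) 6686794828 (.n (.n .l 6711588534 .l) 6721754452 .l)) 6722379930 (.n (.n (.n .l 6731013408 .l)
  6741837921 .l) 6745922330 (.n (.n .l 6750144387 .l) 6751695979 .l)))) 6752127816 (.n (.n (.n (.n (.n .l 6752327043 .l)
  6753894448 .l) 6765635394 (.n (.n .l 6767880021 .l) 6768384651 .l)) 6768885942 (.n (.n (.n .l 6770973202 .l)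
  6778061220 .l) 6779070480 (.n (.n .l 6781585573 .l) 6786394118 .l))) 6788157516 (.n (.n (.n (.n .l 6796453272 .l)
  6797992299 .l) 6804481705 (.n (.n .l 6804624673 .l) 6805375171 .l)) 6812087541 (.n (.n (.n .l 6823716368 .l)
  6852587882 .l) 6857201267 (.n (.n .l 6858378450 .l) 6858500754 .l)))))) 6859072920 (.n (.n (.n (.n (.n (.n (.n .l
  6867560154 .l) 6873256838 .l) 6874837102 (.n (.n .l 6883424989 .l) 6884527272 .l)) 6885018805 (.n (.n (.n .l
  6895614740 .l) 6895757939 .l) 6906554025 (.n (.n .l 6906840101 .l) 6915018901 .l))) 6929720966 (.n (.n (.n (.n .l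
  6931732178 .l) 6935569102 .l) 6939551850 (.n (.n .l 6948691267 .l) 6949376539 .l)) 6952247897 (.n (.n (.n .l
  6952850345 .l) 6981034116 .l) 6983601156 (.n (.n .l 6983723040 .l) 6991597872 .l)))) 6998256930 (.n (.n (.n (.n (.n .l
  6998919473 .l) 7007783573 .l) 7013420288 (.n (.n .l 7021586824 .l) 7022385517 .l)) 7022694427 (.n (.n (.n .l
  7024063298 .l) 7048074033 .l) 7052333582 (.n (.n .l 7057265964 .l) 7059021858 .l))) 7059669120 (.n (.n (.n (.n .l
  7060607302 .l) 7068112072 .l) 7070713496 (.n (.n .l 7072293732 .l) 7080012205 .l)) 7082296585 (.n (.n (.n .l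
  7082486145 .l) 7083180174 .l) 7091997696 (.n (.n .l 7092897889 .l) 7118076581 .l))))) 7121527497 (.n (.n (.n (.n (.n
  (.n .l 7122823904 .l) 7123527726 .l) 7131208798 (.n (.n .l 7143896585 .l) 7151473763 .l)) 7152021912 (.n (.n (.n .l
  7152748876 .l) 7158383953 .l) 7158444762 (.n (.n .l 7164990637 .l) 7171576979 .l))) 7180803462 (.n (.n (.n (.n .l
  7181191003 .l) 7181885872 .l) 7186045538 (.n (.n .l 7186260613 .l) 7202187293 .l)) 7209003284 (.n (.n (.n .l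
  7211253812 .l) 7219978451 .l) 7221118002 (.n (.n .l 7248871714 .l) 7252829227 .l)))) 7257244561 (.n (.n (.n (.n (.n .l
  7258410404 .l) 7260649291 .l) 7261784432 (.n (.n .l 7262093349 .l) 7264849060 .l)) 7268866164 (.n (.n (.n .l
  7270351648 .l) 7271285483 .l) 7281399510 (.n (.n .l 7288561686 .l) 7290750208 .l))) 7301608048 (.n (.n (.n (.n .l
  7301805581 .l) 7308666064 .l) 7309397081 (.n (.n .l 7323992641 .l) 7325026856 .l)) 7327848465 (.n (.n (.n .l
  7332891909 .l) 7333852043 .l) 7340051376 (.n (.n .l 7352625882 .l) 7353521154 .l))))))))))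

/-- the smallest orbit -/
def S0 : Tr :=
  (.n (.n (.n (.n (.n (.n (.n .l 229725846 .l) 314163885 (.n .l 324330853 .l)) 378186445 (.n (.n .l 500606036 .l)
  573135787 .l)) 695555378 (.n (.n (.n .l 749410970 .l) 759577938 (.n .l 844015977 .l)) 1179243821 (.n (.n .l 1387746850
  .l) 1410263890 .l))) 1436625820 (.n (.n (.n (.n .l 1565871237 .l) 1674912106 (.n .l 1750739627 .l)) 1785223510 (.n (.n
  .l 1837806768 .l) 1924302037 .l)) 2234428070 (.n (.n (.n .l 2241160019 .l) 2242430890 (.n .l 2320952004 .l))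
  2323766634 (.n (.n .l 2356847661 .l) 2427787509 .l)))) 2437954477 (.n (.n (.n (.n (.n .l 2477414982 .l) 2512040209 (.n
  .l 2513311080 .l)) 2517031083 (.n (.n .l 2585154957 .l) 2594646824 .l)) 2639450674 (.n (.n (.n .l 2692176529 .l)
  2779014301 (.n .l 2789381973 .l)) 2848639507 (.n (.n .l 2862156381 .l) 2863452340 .l))) 2872323349 (.n (.n (.n (.n .l
  2873820012 .l) 2896246094 (.n .l 2903071969 .l)) 2916452490 (.n (.n .l 2926619458 .l) 2956379482 .l)) 2980684133 (.n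
  (.n (.n .l 3025491560 .l) 3292867445 (.n .l 3440067925 .l)) 3501370474 (.n (.n .l 3535854357 .l) 3577305410 .l)))))
  3780543662 (.n (.n (.n (.n (.n (.n .l 3935736210 .l) 3937035305 (.n .l 4004848288 .l)) 4115159692 (.n (.n .l
  4357543050 .l) 4474545523 .l)) 4585086296 (.n (.n (.n .l 4652898838 .l) 4654194797 (.n .l 4809362257 .l)) 4971123605
  (.n (.n .l 5012629125 .l) 5052245226 .l))) 5135186602 (.n (.n (.n (.n .l 5407979605 .l) 5409250476 (.n .l 5415982425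
  .l)) 5516114597 (.n (.n .l 5564443024 .l) 5609246874 .l)) 5663315077 (.n (.n (.n .l 5672182558 .l) 5673453429 (.n .l
  5691853489 .l)) 5716085907 (.n (.n .l 5717381866 .l) 5726478667 .l)))) 5727749538 (.n (.n (.n (.n (.n .l 5741294636
  .l) 5780317550 (.n .l 5798717610 .l)) 5810690914 (.n (.n .l 5950483469 .l) 5990099570 .l)) 5995287760 (.n (.n (.n .l
  6044706570 .l) 6058223444 (.n .l 6076623504 .l)) 6077890798 (.n (.n .l 6112519553 .l) 6151750738 .l))) 6233086482 (.n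
  (.n (.n (.n .l 6264332949 .l) 6268982531 (.n .l 6471166674 .l)) 6665603882 (.n (.n .l 6721754452 .l) 6752127816 .l))
  6804481705 (.n (.n (.n .l 6915018901 .l) 7024063298 .l) 7151473763 (.n (.n .l 7164990637 .l) 7202187293 .l))))))

end Cfsg.Agent.H830.O10.Sev
end

-- part: H830/O10/Sev/Vec
section
/-!
# Coded vectors (helper830)
-/

set_option autoImplicit false
set_option linter.unusedSectionVars false

namespace Cfsg.Agent.H830.O10.Sev

/-- digits -/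
def dg (c i : ℕ) : ℕ := c / 8 ^ i % 8

theorem dg_zero (c : ℕ) : dg c 0 = c % 8 := by
  rw [dg, pow_zero, Nat.div_one]

theorem dg_succ (c i : ℕ) : dg c (i + 1) = dg (c / 8) i := by
  rw [dg, dg, pow_succ', Nat.div_div_eq_div_mul]

theorem rd_eq (n : ℕ) : ∀ r c : ℕ, rd n r c = ∑ i : Fin n, dg r i * dg c i := by
  induction n with
  | zero => intro r c; rfl
  | succ n ih =>
    intro r c
    rw [Fin.sum_univ_succ]
    change (r % 8) * (c % 8) + rd n (r / 8) (c / 8) = _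
    rw [ih]
    simp only [Fin.val_zero, dg_zero, Fin.val_succ, dg_succ]

theorem dg_mulM (rows : List ℕ) : ∀ (c i : ℕ), i < rows.length → dg (mulM rows c) i = rd 11 (rows.getD i 0) c % 7 := by
  induction rows with
  | nil => intro c i hi; exact absurd hi (Nat.not_lt_zero _)
  | cons r rs ih =>
    intro c i hi
    change dg (rd 11 r c % 7 + 8 * mulM rs c) i = _
    have h7 : rd 11 r c % 7 < 7 := Nat.mod_lt _ (by norm_num)
    cases i with
    | zero =>
      rw [dg_zero, Nat.add_mul_mod_self_left, Nat.mod_eq_of_lt (by omega)]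
      rfl
    | succ i =>
      rw [dg_succ, Nat.add_mul_div_left _ _ (by norm_num), Nat.div_eq_of_lt (by omega), Nat.zero_add,
        ih c i (by simpa using hi)]
      rfl

/-- digits below 7, at most `n` of them -/
def okd : ℕ → ℕ → Bool
  | 0, c => Nat.beq c 0
  | n + 1, c => Nat.blt (Nat.mod c 8) 7 && okd n (Nat.div c 8)

theorem okd_lt {n : ℕ} : ∀ {c : ℕ}, okd n c = true → ∀ i, dg c i < 7 := by
  induction n with
  | zero =>
    intro c h i
    rw [Nat.eq_of_beq_eq_true h, dg, Nat.zero_div]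
    norm_num
  | succ n ih =>
    intro c h i
    rw [okd, Bool.and_eq_true] at h
    cases i with
    | zero =>
      rw [dg_zero]
      have := h.1
      rw [Nat.blt_eq] at this
      exact this
    | succ i =>
      rw [dg_succ]
      exact ih h.2 i

theorem okd_ext {n : ℕ} : ∀ {c c' : ℕ}, okd n c = true → okd n c' = true → (∀ i < n, dg c i = dg c' i) → c = c' := by
  induction n with
  | zero =>
    intro c c' h h' _
    rw [Nat.eq_of_beq_eq_true h, Nat.eq_of_beq_eq_true h']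
  | succ n ih =>
    intro c c' h h' heq
    rw [okd, Bool.and_eq_true] at h h'
    have h1 := ih h.2 h'.2 (fun i hi => by
      have := heq (i + 1) (by omega)
      rwa [dg_succ, dg_succ] at this)
    have h2 := heq 0 (by omega)
    rw [dg_zero, dg_zero] at h2
    change c / 8 = c' / 8 at h1
    omega

/-- sum-zero codes -/
def ok (c : ℕ) : Bool := okd 11 c && Nat.beq (Nat.mod (rd 11 1227133513 c) 7) 0

variable {F : Type*} [Field F] {V : Type*} [AddCommGroup V] [Module F V] (v : Fin 11 → V)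

/-- coded vectors -/
def vec (c : ℕ) : V := ∑ i : Fin 11, ((dg c i : ℕ) : F) • v i

theorem cast_mod (h7 : (7 : F) = 0) (n : ℕ) : ((n % 7 : ℕ) : F) = (n : F) := by
  conv_rhs => rw [← Nat.div_add_mod n 7]
  push_cast
  rw [h7, zero_mul, zero_add]

/-- images of coded vectors -/
theorem map_vec (h7 : (7 : F) = 0) (g : V →ₗ[F] V) {rows : List ℕ} (hl : rows.length = 11)
    (hg : ∀ j : Fin 11, g (v j) = ∑ i : Fin 11, ((dg (rows.getD i 0) j : ℕ) : F) • v i) (c : ℕ) :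
    g (vec (F := F) v c) = vec (F := F) v (mulM rows c) := by
  rw [vec, vec, map_sum]
  simp only [map_smul, hg, Finset.smul_sum, smul_smul]
  rw [Finset.sum_comm]
  refine Finset.sum_congr rfl fun i _ => ?_
  rw [← Finset.sum_smul, dg_mulM rows c i (by rw [hl]; exact i.2), cast_mod h7, rd_eq]
  congr 1
  push_cast
  exact Finset.sum_congr rfl fun j _ => mul_comm _ _

theorem vec_pow (j : Fin 11) : vec (F := F) v (8 ^ (j : ℕ)) = v j := by
  have h : ∀ i j : Fin 11, dg (8 ^ (j : ℕ)) i = if i = j then 1 else 0 := by decide +kernel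
  rw [vec]
  simp only [h, Nat.cast_ite, Nat.cast_one, Nat.cast_zero, ite_smul, one_smul, zero_smul]
  rw [Finset.sum_ite_eq', if_pos (Finset.mem_univ _)]

theorem sum_dg (h7 : (7 : F) = 0) {c : ℕ} (hc : ok c = true) : ∑ i : Fin 11, ((dg c i : ℕ) : F) = 0 := by
  rw [ok, Bool.and_eq_true] at hc
  have h1 := Nat.eq_of_beq_eq_true hc.2
  have h2 : ∀ i : Fin 11, dg 1227133513 i = 1 := by decide +kernel
  have h3 : ((rd 11 1227133513 c % 7 : ℕ) : F) = 0 := by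
    have h4 : rd 11 1227133513 c % 7 = 0 := h1
    rw [h4, Nat.cast_zero]
  rw [cast_mod h7, rd_eq] at h3
  simpa only [h2, _root_.one_mul, _root_.Nat.cast_sum] using h3

/-- **Injectivity.** -/
theorem vec_inj [CharP F 7] (hind : ∀ α : Fin 11 → F, ∑ i, α i • v i = 0 → ∀ i j, α i = α j) {c c' : ℕ}
    (hc : ok c = true) (hc' : ok c' = true) (h : vec (F := F) v c = vec (F := F) v c') : c = c' := by
  have h7 : (7 : F) = 0 := by exact_mod_cast CharP.cast_eq_zero F 7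
  have h1 : ∑ i : Fin 11, (((dg c i : ℕ) : F) - ((dg c' i : ℕ) : F)) • v i = 0 := by
    simp only [sub_smul, Finset.sum_sub_distrib]
    exact sub_eq_zero.2 h
  have h2 := hind _ h1
  have h3 : (11 : F) * (((dg c (0 : Fin 11) : ℕ) : F) - ((dg c' (0 : Fin 11) : ℕ) : F)) = 0 := by
    have h4 : ∑ i : Fin 11, (((dg c i : ℕ) : F) - ((dg c' i : ℕ) : F)) = 0 := by
      rw [Finset.sum_sub_distrib, sum_dg h7 hc, sum_dg h7 hc', sub_zero]
    rw [Finset.sum_congr rfl fun i _ => h2 i 0, Finset.sum_const, Finset.card_univ, Fintype.card_fin, nsmul_eq_mul] at h4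
    exact_mod_cast h4
  have h5 : (((dg c (0 : Fin 11) : ℕ) : F) - ((dg c' (0 : Fin 11) : ℕ) : F)) = 0 := by
    linear_combination 2 * h3 - 3 * (((dg c (0 : Fin 11) : ℕ) : F) - ((dg c' (0 : Fin 11) : ℕ) : F)) * h7
  rw [ok, Bool.and_eq_true] at hc hc'
  refine okd_ext hc.1 hc'.1 fun i hi => ?_
  have h6 := h2 ⟨i, hi⟩ 0
  rw [h5, sub_eq_zero] at h6
  have h8 := (CharP.natCast_eq_natCast F 7 (a := dg c i) (b := dg c' i)).1 h6
  have h9 := okd_lt hc.1 i
  have h10 := okd_lt hc'.1 i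
  rw [Nat.ModEq, Nat.mod_eq_of_lt h9, Nat.mod_eq_of_lt h10] at h8
  exact h8

end Cfsg.Agent.H830.O10.Sev
end

private theorem dce_54b248a50015 : _root_.True := by
  try have : _root_.True := by simp only [_root_.Cfsg.Agent.H830.O10.vs.eq_1]
  try have : _root_.True := by simp only [_root_.Cfsg.Agent.H830.O10.mz.eq_1]
  try have : _root_.True := by simp only [_root_.Cfsg.Agent.H830.O10.Sev.okd.eq_def]
  try have : _root_.True := by simp only [_root_.Cfsg.Agent.H830.O10.Sev.ok.eq_1]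
  try have : _root_.True := by simp only [_root_.Cfsg.Agent.H830.O10.Sev.Tr.mem.eq_def]
  try have : _root_.True := by simp only [_root_.Cfsg.Agent.H830.O10.mf.eq_1]
  try have : _root_.True := by simp only [_root_.Cfsg.Agent.H464.Sl2.Zt.eq_1]
  try have : _root_.True := by simp only [_root_.Cfsg.Agent.H830.O10.rhoE.eq_1]
  try have : _root_.True := by simp only [_root_.Cfsg.Agent.H830.O10.Sev.Tr.all.eq_2]
  try have : _root_.True := by simp only [_root_.Cfsg.Agent.H830.O10.Sev.okd.eq_2]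
  try have : _root_.True := by simp only [_root_.Cfsg.Agent.H830.O10.Sev.vec.eq_1]
  try have : _root_.True := by simp only [_root_.Cfsg.Agent.H830.O10.dF.eq_1]
  try have : _root_.True := by simp only [_root_.Cfsg.Agent.H830.O10.Sev.okd.eq_1]
  try have : _root_.True := by simp only [_root_.Cfsg.Agent.H830.O10.Sev.dg.eq_1]
  try have : _root_.True := by simp only [_root_.Matrix.eq_1]
  try have : _root_.True := by simp only [_root_.Cfsg.Agent.H830.O10.Sev.Tr.all.eq_1]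
  try have : _root_.True := by simp only [_root_.Cfsg.Agent.H830.O10.Sev.Tr.all.eq_def]
  try have : _root_.True := by simp only [_root_.Cfsg.Agent.H830.O10.Sev.Tr.mem.eq_1]
  try have : _root_.True := by simp only [_root_.Cfsg.Agent.H830.O10.dE.congr_simp]
  try have : _root_.True := by simp only [_root_.Cfsg.Agent.H830.O10.Sev.Tr.mem.eq_2]
  try have : _root_.True := by simp only [_root_.Cfsg.Agent.H830.O10.Ctx.vv.eq_1]
  exact _root_.True.intro
end

section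
prune_inst 0xfffdfbfffc7fffffff7e7fa6dfcffdffbb3fffe6dff9cbffe865ffab9feb86c9c56bad8fe812fe1ef6e21c10fc7b53fffffeffe06ffc7ffffdfff41ffbffcffdf7b508719d88b40fbc2fff83f07f8e7f000000000000000000000000000000000200000000

-- part: H830/O10/Sev/Rep_mg
section
prune_inst 0x38000000081800800100000048000102000000001880000000479062294520017280081000821c5028000000001000000000000000000800000100000000100421408100000000000000000000000000000000000000000000041000000000000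
set_option linter.all false
open scoped Cfsg.Agent.FastGrp

-- part: H830/O10/Sev/Model
section
/-!
# The other representation of degree 10 of `L₂(11)` in characteristic 7 (helper830)
-/

set_option autoImplicit false
set_option linter.unusedSectionVars false

namespace Cfsg.Agent.H830.O10.Sev

open Matrix Module Cfsg Cfsg.Geo Cfsg.Agent.H915.LD Cfsg.Agent.H464.Sl2 Cfsg.Agent.H910.Aut
open Cfsg.Agent.H933.O10 (Cx fix_of_mem_omegaGL)
open Cfsg.Agent.ClassicalGeometry.AutPSL.Auto (cj)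
open Cfsg.Agent.H830.O10

universe u

/-- the involution -/
def W7 : Matrix (Fin 10) (Fin 10) (ZMod 7) := !![6, 4, 3, 3, 2, 4, 2, 0, 2, 1; 0, 3, 2, 1, 2, 2, 5, 5, 6, 5; 0, 3, 3, 6, 6, 0, 1, 5, 0, 6; 0, 2, 6, 0, 1, 4, 0, 3, 1, 6; 0, 4, 0, 2, 0, 1, 1, 3, 5, 6; 0, 2, 6, 3, 6, 2, 6, 6, 0, 0; 0, 0, 2, 1, 1, 1, 0, 4, 2, 4; 0, 2, 1, 6, 5, 3, 6, 5, 1, 5; 0, 1, 1, 2, 5, 2, 2, 6, 6, 4; 0, 1, 1, 1, 0, 3, 5, 4, 5, 1]

/-- permutations -/
def pm (σ : Equiv.Perm (Fin 11)) : Matrix (Fin 10) (Fin 10) (ZMod 7) := fun i j => ((mz σ i j : ℤ) : ZMod 7)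

theorem W7_sq : W7 * W7 = 1 := by decide +kernel

private noncomputable def _root_.Cfsg.Agent.LsF.f6b07cf_0 : {f // @Cfsg.Agent.H830.O10.Sev.W7 = f} := ⟨_, by first | (delta Cfsg.Agent.H830.O10.Sev.W7; rewrite [Cfsg.Agent.LsF.mof_pat, Cfsg.Agent.LsF.vecCons_eq]; exact rfl) | exact rfl⟩
private noncomputable def _root_.Cfsg.Agent.LsF.f6b07cf_1 : {f // @Cfsg.Agent.H830.O10.mz = f} := ⟨_, by first | (delta Cfsg.Agent.H830.O10.mz; rewrite [Cfsg.Agent.LsF.isub_pat, Cfsg.Agent.LsF.dFinEq_eq, Cfsg.Agent.LsF.ite_eq]; exact rfl) | exact rfl⟩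
private noncomputable def _root_.Cfsg.Agent.LsF.f6b07cf_2 : {f // @Cfsg.Agent.H830.O10.Sev.pm = f} := ⟨_, by first | (delta Cfsg.Agent.H830.O10.Sev.pm; rewrite [Cfsg.Agent.LsF.f6b07cf_1.2]; exact rfl) | exact rfl⟩
theorem W7_h : ∀ a : ZMod 11, a ≠ 0 → W7 * pm (hp a) = pm (hp a⁻¹) * W7 := by (refine of_decide_eq_true ?_; (try (rewrite [Cfsg.Agent.LsF.mmulF_pat, Cfsg.Agent.LsF.f6b07cf_0.2, Cfsg.Agent.LsF.f6b07cf_2.2, Cfsg.Agent.LsF.zadd_pat, Cfsg.Agent.LsF.zmul_pat, Cfsg.Agent.LsF.zdecEq_eq, Cfsg.Agent.LsF.finFintype_eq, Cfsg.Agent.LsF.zFintype_eq, Cfsg.Agent.LsF.dForall_eq, Cfsg.Agent.LsF.dMat_eq, Cfsg.Agent.LsF.zACM_pat, Cfsg.Agent.LsF.dNot_eq, Cfsg.Agent.LsF.dAllP_eq, Cfsg.Agent.LsF.decide_eq])); decide +kernel)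

/-- `z ↦ -z` -/
def np : Equiv.Perm (Fin 11) :=
  (⟨fun i => -i, fun i => -i, fun i => by ring, fun i => by ring⟩ : Equiv.Perm (ZMod 11))

theorem W7_n : W7 * pm np = pm np * W7 := by (refine of_decide_eq_true ?_; (try (rewrite [Cfsg.Agent.LsF.mmulF_pat, Cfsg.Agent.LsF.f6b07cf_0.2, Cfsg.Agent.LsF.f6b07cf_2.2, Cfsg.Agent.LsF.zadd_pat, Cfsg.Agent.LsF.zmul_pat, Cfsg.Agent.LsF.zdecEq_eq, Cfsg.Agent.LsF.finFintype_eq, Cfsg.Agent.LsF.dMat_eq, Cfsg.Agent.LsF.zACM_pat, Cfsg.Agent.LsF.decide_eq])); decide +kernel)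

theorem trz_Zt : ∀ τ : ZMod 11, τ ^ 2 - 4 ≠ 0 → (pm (xp τ) * W7).trace = ((fz (-1) τ : ℤ) : ZMod 7) := by decide +kernel

end Cfsg.Agent.H830.O10.Sev
end

-- part: H830/O10/Sev/Wx
section
/-! # The braid relations (helper830) -/

set_option autoImplicit false

namespace Cfsg.Agent.H830.O10.Sev

open Cfsg.Agent.H830.O10

theorem W7_x : ∀ t : ZMod 11, t ≠ 0 → W7 * (pm (xp t) * W7) = pm (xp (-t⁻¹) * hp (-t⁻¹)) * (W7 * pm (xp (-t⁻¹))) := by
  (refine of_decide_eq_true ?_; (try (rewrite [Cfsg.Agent.LsF.mmulF_pat, Cfsg.Agent.LsF.f6b07cf_0.2, Cfsg.Agent.LsF.f6b07cf_2.2, Cfsg.Agent.LsF.zadd_pat, Cfsg.Agent.LsF.zmul_pat, Cfsg.Agent.LsF.zneg_pat, Cfsg.Agent.LsF.zdecEq_eq, Cfsg.Agent.LsF.finFintype_eq, Cfsg.Agent.LsF.zFintype_eq, Cfsg.Agent.LsF.dForall_eq, Cfsg.Agent.LsF.dMat_eq, Cfsg.Agent.LsF.zACM_pat, Cfsg.Agent.LsF.dNot_eq, Cfsg.Agent.LsF.dAllP_eq, Cfsg.Agent.LsF.decide_eq])); decide +kernel)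

end Cfsg.Agent.H830.O10.Sev
end

-- part: H830/O10/Sev/Rep
section
/-!
# The representation (helper830)
-/

set_option autoImplicit false
set_option linter.unusedSectionVars false

namespace Cfsg.Agent.H830.O10.Sev

open Matrix Module Cfsg Cfsg.Geo Cfsg.Agent.H915.LD Cfsg.Agent.H464.Sl2 Cfsg.Agent.H910.Aut
open Cfsg.Agent.H933.O10 (Cx fix_of_mem_omegaGL)
open Cfsg.Agent.ClassicalGeometry.AutPSL.Auto (cj)
open Cfsg.Agent.H830.O10

universe u

instance fact7 : Fact (Nat.Prime 7) := ⟨by norm_num⟩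

/-- the involution as a unit -/
def wu : GL (Fin 10) (ZMod 7) := ⟨W7, W7, W7_sq, W7_sq⟩

theorem rel7 : Lib.SL2Lift.Rel (fun t : ZMod 11 => mg (ZMod 7) (xp t)) (fun a => mg (ZMod 7) (hp a)) wu where
  add s t := by rw [relp.add, map_mul]
  mul a b ha hb := by rw [relp.mul a b ha hb, map_mul]
  conj a t ha := by rw [← map_mul, relp.conj a t ha, map_mul]
  wh a ha := Units.ext (W7_h a ha)
  ww := by
    have h1 : hp (-1 : ZMod 11) = 1 := by decide +kernel
    rw [h1, map_one]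
    exact Units.ext W7_sq
  wx t ht := by
    rw [mul_assoc, ← map_mul, mul_assoc]
    exact Units.ext (W7_x t ht)

/-- the representation over the prime field -/
noncomputable def rho0 : SpecialLinearGroup (Fin 2) (ZMod 11) →* GL (Fin 10) (ZMod 7) := Lib.SL2Lift.hom rel7

theorem rho0_u (x : ZMod 11) : rho0 (u x) = mg (ZMod 7) (xp x) := Lib.SL2Lift.hom_X rel7 x

theorem rho0_t (a : (ZMod 11)ˣ) : rho0 (t a) = mg (ZMod 7) (hp a) := by
  rw [t_eq]
  exact Lib.SL2Lift.hom_H rel7 _ _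

theorem rho0_w : rho0 (w 1) = wu := by
  rw [w_one_eq, map_mul, rho0_t]
  have h : rho0 Lib.SL2Lift.W = wu := Lib.SL2Lift.hom_W rel7
  have h1 : hp (((-1 : (ZMod 11)ˣ) : ZMod 11)) = 1 := by decide +kernel
  rw [h, h1, map_one, one_mul]

section

variable {F : Type u} [Field F] (f : ZMod 7 →+* F)

/-- base change -/
noncomputable def rho : SpecialLinearGroup (Fin 2) (ZMod 11) →* GL (Fin 10) F := (GeneralLinearGroup.map f).comp rho0

theorem map_mg (σ : Equiv.Perm (Fin 11)) : GeneralLinearGroup.map f (mg (ZMod 7) σ) = mg F σ := by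
  apply Units.ext
  ext i j
  change f ((mz σ i j : ℤ) : ZMod 7) = ((mz σ i j : ℤ) : F)
  rw [map_intCast]

theorem rho_u (x : ZMod 11) : rho f (u x) = mg F (xp x) := by
  rw [rho, MonoidHom.comp_apply, rho0_u, map_mg]

theorem rho_t (a : (ZMod 11)ˣ) : rho f (t a) = mg F (hp a) := by
  rw [rho, MonoidHom.comp_apply, rho0_t, map_mg]

theorem rho_w : rho f (w 1) = GeneralLinearGroup.map f wu := by
  rw [rho, MonoidHom.comp_apply, rho0_w]

theorem rho_neg : rho f (t (-1)) = 1 := by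
  rw [rho_t]
  have h1 : hp (((-1 : (ZMod 11)ˣ) : ZMod 11)) = 1 := by decide +kernel
  rw [h1, map_one]

theorem tr_rho_u (x : ZMod 11) (hx : x ≠ 0) : tr (rho f (u x)) = -1 := by
  rw [rho_u, tr_mg, trz_u x hx]
  norm_num

theorem tr_rho_Zt (τ : ZMod 11) (hτ : τ ^ 2 - 4 ≠ 0) : tr (rho f (Zt τ)) = ((fz (-1) τ : ℤ) : F) := by
  have h1 : (rho0 (Zt τ) : Matrix (Fin 10) (Fin 10) (ZMod 7)).trace = ((fz (-1) τ : ℤ) : ZMod 7) := by
    rw [Zt, map_mul, rho0_u, rho0_w]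
    exact trz_Zt τ hτ
  have h2 : tr (rho f (Zt τ)) = f (rho0 (Zt τ) : Matrix (Fin 10) (Fin 10) (ZMod 7)).trace := by
    rw [tr, Matrix.trace, Matrix.trace, map_sum]
    rfl
  rw [h2, h1, map_intCast]

theorem np_u : ∀ x : ZMod 11, np * xp x = xp (-x) * np := by decide +kernel

theorem np_h : ∀ a : ZMod 11, np * hp a = hp a * np := by decide +kernel

theorem np_twist (g : SpecialLinearGroup (Fin 2) (ZMod 11)) :
    mg F np * rho f g * (mg F np)⁻¹ = rho f (cj dd g) := by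
  refine twist_of_gen (rho_neg f) ?_ ?_ ?_ g
  · intro x
    rw [mul_inv_eq_iff_eq_mul, rho_u, rho_u, ← map_mul, ← map_mul, np_u]
  · intro a
    rw [mul_inv_eq_iff_eq_mul, rho_t, ← map_mul, ← map_mul, np_h]
  · rw [mul_inv_eq_iff_eq_mul, rho_w, ← map_mg f, ← map_mul, ← map_mul]
    exact congrArg (GeneralLinearGroup.map f) (Units.ext W7_n.symm)

/-- the reversal of the ten basis vectors -/
def rv : Equiv.Perm (Fin 10) := ⟨fun i => 9 - i, fun i => 9 - i, by unfold Function.LeftInverse; decide,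
  by unfold Function.RightInverse Function.LeftInverse; decide⟩

theorem mz_rv (k j : Fin 10) : mz (xp 10 * np * (xp 10)⁻¹ : Equiv.Perm (Fin 11)) k j = if rv j = k then 1 else 0 := by
  have h : ∀ x : Fin 10 × Fin 10, (mz (xp 10 * np * (xp 10)⁻¹ : Equiv.Perm (Fin 11)) x.1 x.2 : ℤ) =
    if rv x.2 = x.1 then 1 else 0 := by decide +kernel
  exact h (k, j)

theorem sign_rv : Equiv.Perm.sign rv = -1 := by decide +kernel

theorem det_np : (mg F np : Matrix (Fin 10) (Fin 10) F).det = -1 := by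
  have h1 : (mg F (xp 10 * np * (xp 10)⁻¹) : Matrix (Fin 10) (Fin 10) F) = (Equiv.Perm.permMatrix F rv)ᵀ := by
    ext k j
    change ((mz (xp 10 * np * (xp 10)⁻¹ : Equiv.Perm (Fin 11)) k j : ℤ) : F) = _
    rw [mz_rv, Matrix.transpose_apply, Equiv.Perm.permMatrix, PEquiv.toMatrix_apply]
    by_cases h : rv j = k
    · rw [if_pos h, h.symm]
      simp
    · rw [if_neg h, if_neg (by simpa [eq_comm] using h)]
      simp
  have h2 := congrArg Matrix.det h1
  rw [Matrix.det_transpose, Matrix.det_permutation, sign_rv, map_mul, map_mul, Units.val_mul, Units.val_mul,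
    Matrix.det_mul, Matrix.det_mul, mul_right_comm, ← Matrix.det_mul, ← Units.val_mul, map_inv, mul_inv_cancel,
    Units.val_one, Matrix.det_one, one_mul] at h2
  rw [h2]
  simp

end

end Cfsg.Agent.H830.O10.Sev
end

-- part: H830/O10/Sev/Abs
section
/-!
# Reflections in coded vectors; the overgroup argument (helper830)
-/

set_option autoImplicit false
set_option linter.unusedSectionVars false

namespace Cfsg.Agent.H830.O10.Sev

open QuadraticMap
open Cfsg.Agent.LieClassical.OrthCore Cfsg.Agent.LieClassical.OrthTrans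

section ovg

variable {F : Type*} [Field F] {V : Type*} [AddCommGroup V] [Module F V] {Q : QuadraticForm F V}

/-- **A maximal subgroup of `E Q` cannot preserve two sets, one of them preserved by a further element `y`.** -/
theorem no_maximal (hG : Good Q) {H : Subgroup (V ≃ₗ[F] V)} (hH : Cfsg.Geo.IsMaximalIn (E Q) H) {𝒮 𝒯 : Set V}
    (hS : ∀ g ∈ H, ∀ x ∈ 𝒮, g x ∈ 𝒮) (hT : ∀ g ∈ H, ∀ x ∈ 𝒯, g x ∈ 𝒯) {y : V ≃ₗ[F] V} (hy : y ∈ E Q)
    (hyS : ∀ x ∈ 𝒮, y x ∈ 𝒮) (hyS' : ∀ x ∈ 𝒮, y⁻¹ x ∈ 𝒮) {a : V} (ha : a ∈ 𝒯) (hya : y a ∉ 𝒯) {b c : V} (hb : b ∈ 𝒮)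
    (hc : c ∉ 𝒮) (hb0 : b ≠ 0) (hc0 : c ≠ 0) (hbc : Q b = Q c) : False := by
  let W : Subgroup (V ≃ₗ[F] V) :=
    { carrier := {g | g ∈ E Q ∧ (∀ x ∈ 𝒮, g x ∈ 𝒮) ∧ ∀ x ∈ 𝒮, g⁻¹ x ∈ 𝒮}
      one_mem' := ⟨(E Q).one_mem, fun x hx => hx, fun x hx => hx⟩
      mul_mem' := by
        rintro g k ⟨h1, h2, h3⟩ ⟨h4, h5, h6⟩
        refine ⟨(E Q).mul_mem h1 h4, fun x hx => h2 _ (h5 x hx), fun x hx => ?_⟩
        rw [mul_inv_rev]
        exact h6 _ (h3 x hx)
      inv_mem' := by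
        rintro g ⟨h1, h2, h3⟩
        refine ⟨(E Q).inv_mem h1, h3, ?_⟩
        rw [inv_inv]
        exact h2 }
  have h1 : H ≤ W := fun g hg => ⟨hH.1.le hg, hS g hg, hS g⁻¹ (H.inv_mem hg)⟩
  rcases hH.2 W h1 (fun g hg => hg.1) with h2 | h2
  · have h3 : y ∈ W := ⟨hy, hyS, hyS'⟩
    rw [h2] at h3
    exact hya (hT y h3 a ha)
  · obtain ⟨g, hg, e⟩ := hG.trans_norm hb0 hc0 hbc
    have h3 : g ∈ W := by rw [h2]; exact hg
    exact hc (e ▸ h3.2.1 b hb)

end ovg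

section form

variable {F : Type*} [Field F] {V : Type*} [AddCommGroup V] [Module F V] {Q : QuadraticForm F V} {v : Fin 11 → V}
variable {b c : F} (hb : ∀ i, Q (v i) = b) (hc : ∀ i j, i ≠ j → polar Q (v i) (v j) = c) (h7 : (7 : F) = 0)

include hb hc h7

theorem polar_vec {a : ℕ} (ha : ok a = true) (j : Fin 11) :
    polar Q (vec (F := F) v a) (v j) = (2 * b - c) * ((dg a j : ℕ) : F) := by
  have h1 : ∀ i, polar Q (v i) (v j) = c + if i = j then (2 * b - c) else 0 := by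
    intro i
    by_cases h : i = j
    · rw [h, if_pos rfl, polar_self', hb]
      ring
    · rw [if_neg h, hc i j h, add_zero]
  have h2 : polarBilin Q (vec (F := F) v a) (v j) = ∑ i : Fin 11, ((dg a i : ℕ) : F) * polar Q (v i) (v j) := by
    rw [vec, map_sum, LinearMap.sum_apply]
    refine Finset.sum_congr rfl fun i _ => ?_
    rw [map_smul, LinearMap.smul_apply, smul_eq_mul]
    rfl
  change polarBilin Q (vec (F := F) v a) (v j) = _
  rw [h2]
  simp only [h1, mul_add, Finset.sum_add_distrib, mul_ite, mul_zero]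
  rw [← Finset.sum_mul, sum_dg h7 ha, zero_mul, zero_add, Finset.sum_ite_eq', if_pos (Finset.mem_univ _)]
  ring

theorem polar_vec_vec {a : ℕ} (ha : ok a = true) (x : ℕ) :
    polar Q (vec (F := F) v a) (vec (F := F) v x) = (2 * b - c) * ((rd 11 a x : ℕ) : F) := by
  have h2 : polarBilin Q (vec (F := F) v a) (vec (F := F) v x) =
      ∑ j : Fin 11, ((dg x j : ℕ) : F) * polar Q (vec (F := F) v a) (v j) := by
    rw [show vec (F := F) v x = ∑ j : Fin 11, ((dg x j : ℕ) : F) • v j from rfl, map_sum]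
    refine Finset.sum_congr rfl fun i _ => ?_
    rw [map_smul, smul_eq_mul]
    rfl
  change polarBilin Q (vec (F := F) v a) (vec (F := F) v x) = _
  rw [h2, rd_eq]
  push_cast
  rw [Finset.mul_sum]
  refine Finset.sum_congr rfl fun j _ => ?_
  rw [polar_vec hb hc h7 ha]
  ring

theorem Q_vec {a : ℕ} (ha : ok a = true) (hn : rd 11 a a % 7 = 2) : Q (vec (F := F) v a) = 2 * b - c := by
  have h1 := polar_vec_vec hb hc h7 ha a
  rw [polar_self', ← cast_mod h7, hn] at h1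
  push_cast at h1
  linear_combination 4 * h1 - (Q (vec (F := F) v a) - (2 * b - c)) * h7

theorem refl_vec {a : ℕ} (ha : ok a = true) (hn : rd 11 a a % 7 = 2) (hk : 2 * b - c ≠ 0)
    (h0 : Q (vec (F := F) v a) ≠ 0) {rows : List ℕ} (hl : rows.length = 11)
    (hr : ∀ i j : Fin 11, (dg (rows.getD i 0) j + dg a i * dg a j) % 7 = if i = j then 1 else 0) (x : ℕ) :
    refl Q (vec (F := F) v a) h0 (vec (F := F) v x) = vec (F := F) v (mulM rows x) := by
  refine map_vec v h7 (refl Q (vec (F := F) v a) h0 : V →ₗ[F] V) hl ?_ x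
  intro j
  change refl Q (vec (F := F) v a) h0 (v j) = _
  rw [refl_apply, polar_vec hb hc h7 ha, Q_vec hb hc h7 ha hn, inv_mul_cancel_left₀ hk]
  have h1 : ∀ i : Fin 11, ((dg (rows.getD i 0) j : ℕ) : F) = (if i = j then 1 else 0) -
      ((dg a j : ℕ) : F) * ((dg a i : ℕ) : F) := by
    intro i
    have h2 := congrArg (Nat.cast : ℕ → F) (hr i j)
    rw [cast_mod h7] at h2
    push_cast at h2
    linear_combination h2
  simp only [h1, sub_smul, ite_smul, one_smul, zero_smul, Finset.sum_sub_distrib]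
  rw [Finset.sum_ite_eq', if_pos (Finset.mem_univ _), vec, Finset.smul_sum]
  simp only [smul_smul]

end form

end Cfsg.Agent.H830.O10.Sev
end

private theorem dce_53fb987e38d1 : _root_.True := by
  try have : _root_.True := by simp only [_root_.Cfsg.Agent.H830.O10.Sev.rho.eq_1]
  exact _root_.True.intro
end

-- part: H830/O10/Sev/Kill
section
prune_inst 0x40003800000000000500000000000000000200000000000000040141004000400001321010100000000020080000000000200000000000000800000000208000400002000000240001000000000000000000000000000000000000000000000000000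
set_option linter.all false
open scoped Cfsg.Agent.FastGrp

-- part: H830/O10/Sev/Chk
section
/-!
# The checks (helper830)
-/

set_option autoImplicit false

namespace Cfsg.Agent.H830.O10.Sev

open Cfsg.Agent.H830.O10

/-- reflection vector -/
def a0 : ℕ := 6804624673

def R0 : List ℕ := [1785309912, 5127970163, 5127970219, 2631092661, 5958846538, 5128002923, 5959104586, 5130067307, 5975619658, 2765309877, 362173729]

theorem R0_eq : ∀ i j : Fin 11, (dg (R0.getD i 0) j + dg a0 i * dg a0 j) % 7 = if i = j then 1 else 0 := by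
  decide +kernel

theorem a0_ok : ok a0 = true := by decide +kernel

theorem a0_nn : rd 11 a0 a0 % 7 = 2 := by decide +kernel

/-- reflection vector -/
def a1 : ℕ := 5062142225

def R1 : List ℕ := [3527792360, 7055556005, 5523041203, 5523041651, 7055560093, 5523073907, 5060569361, 1536475746, 1551155810, 1668596322, 6596782963]

theorem R1_eq : ∀ i j : Fin 11, (dg (R1.getD i 0) j + dg a1 i * dg a1 j) % 7 = if i = j then 1 else 0 := by
  decide +kernel

theorem a1_ok : ok a1 = true := by decide +kernel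

theorem a1_nn : rd 11 a1 a1 % 7 = 2 := by decide +kernel

/-- reflection vector -/
def a2 : ℕ := 5986501969

def R2 : List ℕ := [2603432616, 5206861605, 3383073058, 5206862109, 1838476403, 3383105762, 1838734451, 5973919057, 1855249523, 1972690035, 4456814818]

theorem R2_eq : ∀ i j : Fin 11, (dg (R2.getD i 0) j + dg a2 i * dg a2 j) % 7 = if i = j then 1 else 0 := by
  decide +kernel

theorem a2_ok : ok a2 = true := by decide +kernel

theorem a2_nn : rd 11 a2 a2 % 7 = 2 := by decide +kernel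

/-- reflection vector -/
def a3 : ℕ := 3836358736

def R3 : List ℕ := [1, 1989087584, 4753571880, 512, 5683634440, 2906333424, 1989349720, 6602940576, 2923077872, 3040518384, 6757372168]

theorem R3_eq : ∀ i j : Fin 11, (dg (R3.getD i 0) j + dg a3 i * dg a3 j) % 7 = if i = j then 1 else 0 := by
  decide +kernel

theorem a3_ok : ok a3 = true := by decide +kernel

theorem a3_nn : rd 11 a3 a3 % 7 = 2 := by decide +kernel

private noncomputable def _root_.Cfsg.Agent.KOb2d657f.k0 : ((x0 : Prop) → ((@Decidable @x0) → @Bool)) := @(fun (x0 : Prop) (x1 : @Decidable @x0) => @Decidable.rec.{1} @x0 @(fun (x2 : @Decidable @x0) => @Bool) @(fun (x2 : @Not @x0) => @Bool.false) @(fun (x2 : x0) => @Bool.true) @x1)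
private theorem _root_.Cfsg.Agent.KOb2d657f.e0 : @Decidable.decide = @_root_.Cfsg.Agent.KOb2d657f.k0 := by delta _root_.Cfsg.Agent.KOb2d657f.k0; rfl'
private noncomputable def _root_.Cfsg.Agent.KOb2d657f.k1l (n : Nat) (P : ∀ k, k < n → Prop) (H : ∀ k h, Decidable (P k h)) (m : Nat) : m ≤ n → Bool := @Nat.rec (fun m => m ≤ n → Bool) (fun _ => true) (fun k ih h => @Decidable.rec (P k h) (fun _ => Bool) (fun _ => false) (fun _ => ih (Nat.le_of_succ_le h)) (H k h)) m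
private theorem _root_.Cfsg.Agent.KOb2d657f.k1ls (n : Nat) (P : ∀ k, k < n → Prop) (H : ∀ k h, Decidable (P k h)) (m : Nat) : ∀ h : m ≤ n, _root_.Cfsg.Agent.KOb2d657f.k1l n P H m h = true ↔ ∀ k (g : k < m), P k (Nat.lt_of_lt_of_le g h) := by induction m with | zero => exact fun _ => ⟨fun _ _ g => absurd g (Nat.not_lt_zero _), fun _ => rfl⟩ | succ m ih => intro h; show @Decidable.rec (P m h) (fun _ => Bool) (fun _ => false) (fun _ => _root_.Cfsg.Agent.KOb2d657f.k1l n P H m (Nat.le_of_succ_le h)) (H m h) = true ↔ _; cases H m h with | isFalse q => exact ⟨fun g => absurd g Bool.false_ne_true, fun g => absurd (g m (Nat.lt_succ_self m)) q⟩ | isTrue q => exact ⟨fun g k hk => (Nat.lt_succ_iff_lt_or_eq.1 hk).elim ((ih _).1 g k) fun e => by subst e; exact q, fun g => (ih _).2 fun k hk => g k (Nat.lt_succ_of_lt hk)⟩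
private noncomputable def _root_.Cfsg.Agent.KOb2d657f.k1 (n : Nat) (P : ∀ k, k < n → Prop) (H : ∀ k h, Decidable (P k h)) : Decidable (∀ k h, P k h) := @Bool.rec (fun b => _root_.Cfsg.Agent.KOb2d657f.k1l n P H n (Nat.le_refl n) = b → Decidable (∀ k h, P k h)) (fun g => isFalse fun q => Bool.false_ne_true (g.symm.trans ((_root_.Cfsg.Agent.KOb2d657f.k1ls n P H n _).2 fun k h => q k h))) (fun g => isTrue fun k h => (_root_.Cfsg.Agent.KOb2d657f.k1ls n P H n _).1 g k h) (_root_.Cfsg.Agent.KOb2d657f.k1l n P H n (Nat.le_refl n)) rfl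
private theorem _root_.Cfsg.Agent.KOb2d657f.e1 : @Nat.decidableBallLT = @_root_.Cfsg.Agent.KOb2d657f.k1 := funext fun _ => funext fun _ => funext fun _ => Subsingleton.elim _ _
private noncomputable def _root_.Cfsg.Agent.KOb2d657f.k2 : ((x0 : @Nat) → ((x1 : ((@Fin @x0) → Prop)) → ((@DecidablePred.{1} (@Fin @x0) @x1) → @Decidable ((x3 : @Fin @x0) → @x1 @x3)))) := @(fun (x0 : @Nat) (x1 : ((@Fin @x0) → Prop)) (x2 : @DecidablePred.{1} (@Fin @x0) @x1) => @Decidable.rec.{1} ((x3 : @Nat) → ((x4 : @LT.lt.{0} @Nat @instLTNat @x3 @x0) → @x1 (@Fin.mk @x0 @x3 @x4))) @(fun (x3 : @Decidable ((x3 : @Nat) → ((x4 : @LT.lt.{0} @Nat @instLTNat @x3 @x0) → @x1 (@Fin.mk @x0 @x3 @x4)))) => @Decidable ((x4 : @Fin @x0) → @x1 @x4)) @(fun (x3 : @Not ((x3 : @Nat) → ((x4 : @LT.lt.{0} @Nat @instLTNat @x3 @x0) → @x1 (@Fin.mk @x0 @x3 @x4)))) => @Decidable.isFalse ((x4 : @Fin @x0) → @x1 @x4) (@decidable_of_decidable_of_iff._proof_1 ((x4 :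 @Nat) → ((x5 : @LT.lt.{0} @Nat @instLTNat @x4 @x0) → @x1 (@Fin.mk @x0 @x4 @x5))) ((x4 : @Fin @x0) → @x1 @x4) (@Nat.decidableForallFin._proof_1 @x0 @x1) @x3)) @(fun (x3 : ((x3 : @Nat) → ((x4 : @LT.lt.{0} @Nat @instLTNat @x3 @x0) → @x1 (@Fin.mk @x0 @x3 @x4)))) => @Decidable.isTrue ((x4 : @Fin @x0) → @x1 @x4) (@Iff.mp ((x4 : @Nat) → ((x5 : @LT.lt.{0} @Nat @instLTNat @x4 @x0) → @x1 (@Fin.mk @x0 @x4 @x5))) ((x4 : @Fin @x0) → @x1 @x4) (@Nat.decidableForallFin._proof_1 @x0 @x1) @x3)) (@Cfsg.Agent.KOb2d657f.k1 @x0 @(fun (x3 : @Nat) (x4 : @LT.lt.{0} @Nat @instLTNat @x3 @x0) => @x1 (@Fin.mk @x0 @x3 @x4)) @(fun (x3 : @Nat) (x4 : @LT.lt.{0} @Nat @instLTNat @x3 @x0) => @x2 (@Fin.mk @x0 @x3 @x4))))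
private theorem _root_.Cfsg.Agent.KOb2d657f.e2 : @Nat.decidableForallFin = @_root_.Cfsg.Agent.KOb2d657f.k2 := by delta _root_.Cfsg.Agent.KOb2d657f.k2; rewrite [← Cfsg.Agent.KOb2d657f.e1]; rfl'
private noncomputable def _root_.Cfsg.Agent.KOb2d657f.k3 : ((x0 : @Nat) → ((x1 : @Nat) → @Decidable (@Eq.{1} @Nat @x0 @x1))) := @(fun (x0 : @Nat) (x1 : @Nat) => @Bool.rec.{1} @(fun (x2 : @Bool) => ((@Eq.{1} @Bool (@Nat.beq @x0 @x1) @x2) → @Decidable (@Eq.{1} @Nat @x0 @x1))) @(fun (x2 : @Eq.{1} @Bool (@Nat.beq @x0 @x1) @Bool.false) => @Decidable.isFalse (@Eq.{1} @Nat @x0 @x1) (@Nat.ne_of_beq_eq_false @x0 @x1 @x2)) @(fun (x2 : @Eq.{1} @Bool (@Nat.beq @x0 @x1) @Bool.true) => @Decidable.isTrue (@Eq.{1} @Nat @x0 @x1) (@Nat.eq_of_beq_eq_true @x0 @x1 @x2)) (@Nat.beq @x0 @x1) (@Eq.refl.{1} @Bool (@Nat.beq @x0 @x1)))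
private theorem _root_.Cfsg.Agent.KOb2d657f.e3 : @Nat.decEq = @_root_.Cfsg.Agent.KOb2d657f.k3 := by delta _root_.Cfsg.Agent.KOb2d657f.k3; rfl'
private noncomputable def _root_.Cfsg.Agent.KOb2d657f.k4 : @DecidableEq.{1} @Nat := @Cfsg.Agent.KOb2d657f.k3
private theorem _root_.Cfsg.Agent.KOb2d657f.e4 : @instDecidableEqNat = @_root_.Cfsg.Agent.KOb2d657f.k4 := by delta _root_.Cfsg.Agent.KOb2d657f.k4; rewrite [← Cfsg.Agent.KOb2d657f.e3]; rfl'
private noncomputable def _root_.Cfsg.Agent.KOb2d657f.k5 : (by first | exact type_of% @Cfsg.Agent.H830.O10.Sev.dg | exact Unit : Sort _) := by first | (refine @Subtype.val _ (fun g => @Cfsg.Agent.H830.O10.Sev.dg = @g) (@Subtype.mk _ _ (@(fun (x0 : @Nat) (x1 : @Nat) => @Nat.mod (@Nat.div @x0 (@Nat.pow (nat_lit 8) @x1)) (nat_lit 8))) ?_); rfl') | exact @Cfsg.Agent.H830.O10.Sev.dg | exact ()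
private theorem _root_.Cfsg.Agent.KOb2d657f.e5 : (by first | exact @Cfsg.Agent.H830.O10.Sev.dg = @_root_.Cfsg.Agent.KOb2d657f.k5 | exact True : Prop) := by first | (delta _root_.Cfsg.Agent.KOb2d657f.k5; exact @Subtype.property _ (fun g => @Cfsg.Agent.H830.O10.Sev.dg = @g) _) | rfl | trivial
private theorem _root_.Cfsg.Agent.KOb2d657f.e6.{ku, kv} {α : Type kv} {M : List α → Sort ku} (φ : ∀ l, M l) {z : M List.nil} {s : ∀ a l, M l → M (List.cons a l)} (h0 : φ List.nil = z) (hs : ∀ a l, φ (List.cons a l) = s a l (φ l)) (l : List α) : φ l = @List.rec α M z s l := List.rec h0 (fun a l ih => (hs a l).trans (congrArg (s a l) ih)) l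
private theorem _root_.Cfsg.Agent.KOb2d657f.e7.{ku} {M : Nat → Sort ku} (φ : ∀ n, M n) {z : M Nat.zero} {s : ∀ n, M n → M (Nat.succ n)} (h0 : φ Nat.zero = z) (hs : ∀ n, φ (Nat.succ n) = s n (φ n)) (n : Nat) : φ n = @Nat.rec M z s n := Nat.rec h0 (fun n ih => (hs n).trans (congrArg (s n) ih)) n
private noncomputable def _root_.Cfsg.Agent.KOb2d657f.k8 : (by first | exact type_of% @Cfsg.Agent.H830.O10.Sev.rd | exact Unit : Sort _) := by first | (refine @Subtype.val _ (fun g => @Cfsg.Agent.H830.O10.Sev.rd = @g) (@Subtype.mk _ _ (@(fun (x0 : @Nat) (x1 : @Nat) (x2 : @Nat) => @Nat.rec.{1} @(fun (x3 : @Nat) => (@Nat → (@Nat → @Nat))) @(fun (x3 : @Nat) (x4 : @Nat) => nat_lit 0) @(fun (x3 : @Nat) (x4 : (@Nat → (@Nat → @Nat))) (x5 : @Nat) (x6 : @Nat) => @Nat.add (@Nat.mul (@Nat.mod @x5 (nat_lit 8)) (@Nat.mod @x6 (nat_lit 8))) (@x4 (@Nat.div @x5 (nat_lit 8)) (@Nat.div @x6 (nat_lit 8)))) @x0 @x1 @x2)) ?_); funext a0 a1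 a2; refine (congrFun (congrFun (_root_.Cfsg.Agent.KOb2d657f.e7 (fun a0 a1 a2 => @Cfsg.Agent.H830.O10.Sev.rd a0 a1 a2) ?_ (fun c0 => ?_) a0) a1) a2 :) <;> (rfl')) | exact @Cfsg.Agent.H830.O10.Sev.rd | exact ()
private theorem _root_.Cfsg.Agent.KOb2d657f.e8 : (by first | exact @Cfsg.Agent.H830.O10.Sev.rd = @_root_.Cfsg.Agent.KOb2d657f.k8 | exact True : Prop) := by first | (delta _root_.Cfsg.Agent.KOb2d657f.k8; exact @Subtype.property _ (fun g => @Cfsg.Agent.H830.O10.Sev.rd = @g) _) | rfl | trivial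
private noncomputable def _root_.Cfsg.Agent.KOb2d657f.k9 : (by first | exact type_of% @Cfsg.Agent.H830.O10.Sev.mulM | exact Unit : Sort _) := by first | (refine @Subtype.val _ (fun g => @Cfsg.Agent.H830.O10.Sev.mulM = @g) (@Subtype.mk _ _ (@(fun (x0 : @List.{0} @Nat) (x1 : @Nat) => @List.rec.{1, 0} @Nat @(fun (x2 : @List.{0} @Nat) => (@Nat → @Nat)) @(fun (x2 : @Nat) => nat_lit 0) @(fun (x2 : @Nat) (x3 : @List.{0} @Nat) (x4 : (@Nat → @Nat)) (x5 : @Nat) => @Nat.add (@Nat.mod (@Cfsg.Agent.KOb2d657f.k8 (nat_lit 11) @x2 @x5) (nat_lit 7)) (@Nat.mul (nat_lit 8) (@x4 @x5))) @x0 @x1)) ?_); rewrite [← Cfsg.Agent.KOb2d657f.e8]; funext a0 a1; refine (congrFun (_root_.Cfsg.Agent.KOb2d657f.e6 (fun a0 a1 => @Cfsg.Agent.H830.O10.Sev.mulM a0 a1) ?_ (fun c0 c1 => ?_) a0) a1 :) <;> ((try delta Cfsg.Agent.H830.O10.Sev.mulM Cfsg.Agent.H830.O10.Sev.mulM._f); (try generalize @Cfsg.Agent.H830.O10.Sev.rd = g0); rfl')) | exact @Cfsg.Agent.H830.O10.Sev.mulM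 | exact ()
private theorem _root_.Cfsg.Agent.KOb2d657f.e9 : (by first | exact @Cfsg.Agent.H830.O10.Sev.mulM = @_root_.Cfsg.Agent.KOb2d657f.k9 | exact True : Prop) := by first | (delta _root_.Cfsg.Agent.KOb2d657f.k9; exact @Subtype.property _ (fun g => @Cfsg.Agent.H830.O10.Sev.mulM = @g) _) | rfl | trivial
private noncomputable def _root_.Cfsg.Agent.KOb2d657f.k11.{ku0} : ((x0 : Sort (ku0+1)) → ((@List.{ku0} @x0) → (@Nat → @Option.{ku0} @x0))) := @(fun (x0 : Sort (ku0+1)) (x1 : @List.{ku0} @x0) (x2 : @Nat) => @List.rec.{(ku0+1), ku0} @x0 @(fun (x3 : @List.{ku0} @x0) => (@Nat → @Option.{ku0} @x0)) @(fun (x3 : @Nat) => @Option.none.{ku0} @x0) @(fun (x3 : x0) (x4 : @List.{ku0} @x0) (x5 : (@Nat → @Option.{ku0} @x0)) (x6 : @Nat) => @Nat.rec.{(ku0+1)} @(fun (x7 : @Nat) => @Option.{ku0} @x0) (@Option.some.{ku0} @x0 @x3) @(fun (x7 : @Nat) (x8 : @Option.{ku0} @x0) => @x5 @x7) @x6) @x1 @x2)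
private theorem _root_.Cfsg.Agent.KOb2d657f.e11.{ku0} : @List.get?Internal.{ku0} = @_root_.Cfsg.Agent.KOb2d657f.k11.{ku0} := by delta _root_.Cfsg.Agent.KOb2d657f.k11; funext a0 a1 a2; refine (congrFun (_root_.Cfsg.Agent.KOb2d657f.e6 (fun a1 a2 => @List.get?Internal.{ku0} a0 a1 a2) ?_ (fun c0 c1 => ?_) a1) a2 :) <;> [(funext b0; (rfl')); (funext b0; (cases b0 with | @zero  => (rfl') | @succ b0_0 => (rfl')))]
private noncomputable def _root_.Cfsg.Agent.KOb2d657f.k12.{ku0} : ((x0 : Sort (ku0+1)) → ((@List.{ku0} @x0) → (@Nat → (x0 → x0)))) := @(fun (x0 : Sort (ku0+1)) (x1 : @List.{ku0} @x0) (x2 : @Nat) (x3 : x0) => @Option.rec.{(ku0+1), ku0} @x0 @(fun (x4 : @Option.{ku0} @x0) => x0) @x3 @(fun (x4 : x0) => x4) (@Cfsg.Agent.KOb2d657f.k11.{ku0} @x0 @x1 @x2))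
private theorem _root_.Cfsg.Agent.KOb2d657f.e12.{ku0} : @List.getD.{ku0} = @_root_.Cfsg.Agent.KOb2d657f.k12.{ku0} := by delta _root_.Cfsg.Agent.KOb2d657f.k12; rewrite [← Cfsg.Agent.KOb2d657f.e11.{ku0}]; rfl'

theorem Y_eq : ∀ i j : Fin 11, dg (mulM R0 (mulM R1 (mulM R2 (mulM R3 (8 ^ (j : ℕ)))))) i = dg (Yr.getD i 0) j := by
  (first | (refine of_decide_eq_true ?_; rewrite [Cfsg.Agent.KOb2d657f.e0, Cfsg.Agent.KOb2d657f.e2, Cfsg.Agent.KOb2d657f.e4, Cfsg.Agent.KOb2d657f.e5, Cfsg.Agent.KOb2d657f.e9, Cfsg.Agent.KOb2d657f.e12.{0}]; decide +kernel) | decide +kernel)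

theorem Y_sq : ∀ i j : Fin 11, dg (mulM Yr (mulM Yr (8 ^ (j : ℕ)))) i = if i = j then 1 else 0 := by
  decide +kernel

theorem X_eq : ∀ i j : Fin 11, dg (Xr.getD i 0) j = if i = xp 1 j then 1 else 0 := by decide +kernel

theorem H_eq : ∀ i j : Fin 11, dg (Hr.getD i 0) j = if i = hp 2 j then 1 else 0 := by decide +kernel

theorem N_eq : ∀ i j : Fin 11, dg (Nr.getD i 0) j = if i = j then 6 else 0 := by decide +kernel

private noncomputable def _root_.Cfsg.Agent.KOb2d657f.k13 : (by first | exact type_of% @Cfsg.Agent.H830.O10.Sev.okd | exact Unit : Sort _) := by first | (refine @Subtype.val _ (fun g => @Cfsg.Agent.H830.O10.Sev.okd = @g) (@Subtype.mk _ _ (@(fun (x0 : @Nat) (x1 : @Nat) => @Nat.rec.{1} @(fun (x2 : @Nat) => (@Nat → @Bool)) @(fun (x2 : @Nat) => @Nat.beq @x2 (nat_lit 0)) @(fun (x2 : @Nat) (x3 : (@Nat → @Bool)) (x4 : @Nat) => @Bool.rec.{1} @(fun (x5 : @Bool) => @Bool) @Bool.false (@x3 (@Nat.div @x4 (nat_lit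 8))) (@Nat.ble (@Nat.succ (@Nat.mod @x4 (nat_lit 8))) (nat_lit 7))) @x0 @x1)) ?_); funext a0 a1; refine (congrFun (_root_.Cfsg.Agent.KOb2d657f.e7 (fun a0 a1 => @Cfsg.Agent.H830.O10.Sev.okd a0 a1) ?_ (fun c0 => ?_) a0) a1 :) <;> (rfl')) | exact @Cfsg.Agent.H830.O10.Sev.okd | exact ()
private theorem _root_.Cfsg.Agent.KOb2d657f.e13 : (by first | exact @Cfsg.Agent.H830.O10.Sev.okd = @_root_.Cfsg.Agent.KOb2d657f.k13 | exact True : Prop) := by first | (delta _root_.Cfsg.Agent.KOb2d657f.k13; exact @Subtype.property _ (fun g => @Cfsg.Agent.H830.O10.Sev.okd = @g) _) | rfl | trivial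
private noncomputable def _root_.Cfsg.Agent.KOb2d657f.k14 : (by first | exact type_of% @Cfsg.Agent.H830.O10.Sev.ok | exact Unit : Sort _) := by first | (refine @Subtype.val _ (fun g => @Cfsg.Agent.H830.O10.Sev.ok = @g) (@Subtype.mk _ _ (@(fun (x0 : @Nat) => @Bool.rec.{1} @(fun (x1 : @Bool) => @Bool) @Bool.false (@Nat.beq (@Nat.mod (@Cfsg.Agent.KOb2d657f.k8 (nat_lit 11) (nat_lit 1227133513) @x0) (nat_lit 7)) (nat_lit 0)) (@Cfsg.Agent.KOb2d657f.k13 (nat_lit 11) @x0))) ?_); rewrite [← Cfsg.Agent.KOb2d657f.e13, ← Cfsg.Agent.KOb2d657f.e8]; (try delta Cfsg.Agent.H830.O10.Sev.ok); (try generalize @Cfsg.Agent.H830.O10.Sev.rd = g0); (try generalize @Cfsg.Agent.H830.O10.Sev.okd = g1); rfl') | exact @Cfsg.Agent.H830.O10.Sev.ok | exact ()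
private theorem _root_.Cfsg.Agent.KOb2d657f.e14 : (by first | exact @Cfsg.Agent.H830.O10.Sev.ok = @_root_.Cfsg.Agent.KOb2d657f.k14 | exact True : Prop) := by first | (delta _root_.Cfsg.Agent.KOb2d657f.k14; exact @Subtype.property _ (fun g => @Cfsg.Agent.H830.O10.Sev.ok = @g) _) | rfl | trivial

theorem S_ok : (S.all ok) = true := by (first | (rewrite [Cfsg.Agent.KOb2d657f.e14]; decide +kernel) | decide +kernel)

theorem S0_ok : (S0.all ok) = true := by decide +kernel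

theorem S0_w : (S0.all fun c => S0.mem (mulM Wr c)) = true := by (first | (rewrite [Cfsg.Agent.KOb2d657f.e9]; decide +kernel) | decide +kernel)

theorem S0_x : (S0.all fun c => S0.mem (mulM Xr c)) = true := by (first | (rewrite [Cfsg.Agent.KOb2d657f.e9]; decide +kernel) | decide +kernel)

theorem S0_h : (S0.all fun c => S0.mem (mulM Hr c)) = true := by (first | (rewrite [Cfsg.Agent.KOb2d657f.e9]; decide +kernel) | decide +kernel)

theorem S0_n : (S0.all fun c => S0.mem (mulM Nr c)) = true := by (first | (rewrite [Cfsg.Agent.KOb2d657f.e9]; decide +kernel) | decide +kernel)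

/-- a vector moved out of `S0` by `y` -/
def s1 : ℕ := 6752127816

theorem s1_mem : S0.mem s1 = true := by decide +kernel

theorem s1_ok : ok (mulM Yr s1) = true := by decide +kernel

theorem s1_y : S0.mem (mulM Yr s1) = false := by decide +kernel

/-- a vector in `S` and one of the same norm outside -/
def s2 : ℕ := 1497936384

def s3 : ℕ := 1497935873

theorem s2_mem : S.mem s2 = true := by decide +kernel

theorem s2_nn : rd 11 s2 s2 % 7 = 2 := by decide +kernel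

theorem s3_ok : ok s3 = true := by decide +kernel

theorem s3_nn : rd 11 s3 s3 % 7 = 2 := by decide +kernel

theorem s3_mem : S.mem s3 = false := by decide +kernel

end Cfsg.Agent.H830.O10.Sev
end

-- part: H830/O10/Sev/ChkA
section
/-!
# The checks on the 1540 vectors (helper830)
-/

set_option autoImplicit false

namespace Cfsg.Agent.H830.O10.Sev

theorem S_w : (S.all fun c => S.mem (mulM Wr c)) = true := by (first | (rewrite [Cfsg.Agent.KOb2d657f.e9]; decide +kernel) | decide +kernel)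

theorem S_x : (S.all fun c => S.mem (mulM Xr c)) = true := by (first | (rewrite [Cfsg.Agent.KOb2d657f.e9]; decide +kernel) | decide +kernel)

end Cfsg.Agent.H830.O10.Sev
end

-- part: H830/O10/Sev/ChkB
section
/-!
# The checks on the 1540 vectors (helper830)
-/

set_option autoImplicit false

namespace Cfsg.Agent.H830.O10.Sev

theorem S_y : (S.all fun c => S.mem (mulM Yr c)) = true := by (first | (rewrite [Cfsg.Agent.KOb2d657f.e9]; decide +kernel) | decide +kernel)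

theorem S_h : (S.all fun c => S.mem (mulM Hr c)) = true := by (first | (rewrite [Cfsg.Agent.KOb2d657f.e9]; decide +kernel) | decide +kernel)

theorem S_n : (S.all fun c => S.mem (mulM Nr c)) = true := by (first | (rewrite [Cfsg.Agent.KOb2d657f.e9]; decide +kernel) | decide +kernel)

end Cfsg.Agent.H830.O10.Sev
end

-- part: H830/O10/Sev/Kill
section
/-!
# `L₂(11) < 2.M₂₂ < Ω₁₀⁻(7)` (helper830)
-/

set_option autoImplicit false
set_option linter.unusedSectionVars false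

namespace Cfsg.Agent.H830.O10.Sev

open Matrix Module Cfsg Cfsg.Geo Cfsg.Agent.H915.LD Cfsg.Agent.H464.Sl2 Cfsg.Agent.H910.Aut
open Cfsg.Agent.H933.O10 (Cx fix_of_mem_omegaGL)
open Cfsg.Agent.ClassicalGeometry.AutPSL.Auto (cj)
open Cfsg.Agent.H830.O10

universe u

theorem W7_vs (x : Fin 11 × Fin 10) : (W7 *ᵥ vs (ZMod 7) x.1) x.2 =
    ∑ i : Fin 11, ((dg (Wr.getD i 0) x.1 : ℕ) : ZMod 7) * vs (ZMod 7) i x.2 := by
  revert x
  decide +kernel

section

variable {F : Type u} [Field F] (f : ZMod 7 →+* F)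

theorem vs_map (i : Fin 11) (k : Fin 10) : f (vs (ZMod 7) i k) = vs F i k := by
  rw [vs, vs, map_sub]
  split_ifs <;> simp

theorem w_vs (j : Fin 11) : (rho f (w 1) : Matrix (Fin 10) (Fin 10) F) *ᵥ vs F j =
    ∑ i : Fin 11, ((dg (Wr.getD i 0) j : ℕ) : F) • vs F i := by
  rw [rho_w]
  funext k
  have h1 := congrArg f (W7_vs (j, k))
  rw [map_sum] at h1
  have h2 : f ((W7 *ᵥ vs (ZMod 7) j) k) =
      ((GeneralLinearGroup.map f wu : GL (Fin 10) F) : Matrix (Fin 10) (Fin 10) F).mulVec (vs F j) k := by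
    rw [Matrix.mulVec, Matrix.mulVec, dotProduct, dotProduct, map_sum]
    refine Finset.sum_congr rfl fun l _ => ?_
    rw [map_mul, vs_map]
    rfl
  rw [← h2, h1, Finset.sum_apply]
  refine Finset.sum_congr rfl fun i _ => ?_
  rw [map_mul, map_natCast, vs_map, Pi.smul_apply, smul_eq_mul]

theorem vs_ind (α : Fin 11 → F) (h : ∑ i, α i • vs F i = 0) (i j : Fin 11) : α i = α j := by
  have key : ∀ i : Fin 11, α i = α (Fin.last 10) := by
    intro i
    rcases Fin.eq_castSucc_or_eq_last i with ⟨k, rfl⟩ | rfl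
    · rw [Fin.sum_univ_castSucc] at h
      have h1 := congrFun h k
      rw [Pi.add_apply, Finset.sum_apply, Pi.zero_apply] at h1
      simp only [Pi.smul_apply, vs_castSucc, Pi.single_apply, smul_eq_mul, mul_ite, mul_one, mul_zero] at h1
      rw [Finset.sum_ite_eq, if_pos (Finset.mem_univ _), vs, if_neg (Fin.castSucc_lt_last k).ne', if_pos rfl] at h1
      linear_combination h1
    · rfl
  rw [key i, key j]

end

private noncomputable def _root_.Cfsg.Agent.KOb2d657f.k15.{ku0, ku1} : ((x0 : Sort ku0) → ((x1 : (x0 → (x0 → Prop))) → ((x2 : ((@Quot.{ku0} @x0 @x1) → Sort ku1)) → ((x3 : ((x3 : x0) → @x2 (@Quot.mk.{ku0} @x0 @x1 @x3))) → (((x4 : x0) → ((x5 : x0) → ((x6 : @x1 @x4 @x5) → @Eq.{ku1} (@x2 (@Quot.mk.{ku0} @x0 @x1 @x5)) (@Eq.ndrec.{ku1, ku0} (@Quot.{ku0} @x0 @x1) (@Quot.mk.{ku0} @x0 @x1 @x4) @x2 (@x3 @x4) (@Quot.mk.{ku0} @x0 @x1 @x5) (@Quot.sound.{ku0} @x0 @x1 @x4 @x5 @x6)) (@x3 @x5)))) → ((x5 : @Quot.{ku0}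 @x0 @x1) → @x2 @x5)))))) := @(fun (x0 : Sort ku0) (x1 : (x0 → (x0 → Prop))) (x2 : ((@Quot.{ku0} @x0 @x1) → Sort ku1)) (x3 : ((x3 : x0) → @x2 (@Quot.mk.{ku0} @x0 @x1 @x3))) (x4 : ((x4 : x0) → ((x5 : x0) → ((x6 : @x1 @x4 @x5) → @Eq.{ku1} (@x2 (@Quot.mk.{ku0} @x0 @x1 @x5)) (@Eq.ndrec.{ku1, ku0} (@Quot.{ku0} @x0 @x1) (@Quot.mk.{ku0} @x0 @x1 @x4) @x2 (@x3 @x4) (@Quot.mk.{ku0} @x0 @x1 @x5) (@Quot.sound.{ku0} @x0 @x1 @x4 @x5 @x6)) (@x3 @x5))))) (x5 : @Quot.{ku0} @x0 @x1) => @Eq.rec.{ku1, ku0} (@Quot.{ku0} @x0 @x1) (@PSigma.fst.{ku0, ku1} (@Quot.{ku0} @x0 @x1) @x2 (@Quot.lift.{ku0, (max (max 1 ku1) ku0)} @x0 @x1 (@PSigma.{ku0, ku1} (@Quot.{ku0} @x0 @x1) @x2) (@Quot.indep.{ku0, ku1} @x0 @x1 @x2 @x3) (@Quot.indepCoherent.{ku0, ku1} @x0 @x1 @x2 @x3 @x4) @x5)) @(fun (x6 : @Quot.{ku0} @x0 @x1) (x7 : @Eq.{ku0} (@Quot.{ku0} @x0 @x1) (@PSigma.fst.{ku0, ku1} (@Quot.{ku0} @x0 @x1) @x2 (@Quot.lift.{ku0, (max (max 1 ku1) ku0)}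 @x0 @x1 (@PSigma.{ku0, ku1} (@Quot.{ku0} @x0 @x1) @x2) (@Quot.indep.{ku0, ku1} @x0 @x1 @x2 @x3) (@Quot.indepCoherent.{ku0, ku1} @x0 @x1 @x2 @x3 @x4) @x5)) @x6) => @x2 @x6) (@PSigma.snd.{ku0, ku1} (@Quot.{ku0} @x0 @x1) @x2 (@Quot.lift.{ku0, (max (max 1 ku1) ku0)} @x0 @x1 (@PSigma.{ku0, ku1} (@Quot.{ku0} @x0 @x1) @x2) (@Quot.indep.{ku0, ku1} @x0 @x1 @x2 @x3) (@Quot.indepCoherent.{ku0, ku1} @x0 @x1 @x2 @x3 @x4) @x5)) @x5 (@Quot.liftIndepPr1.{ku0, ku1} @x0 @x1 @x2 @x3 @x4 @x5))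
private theorem _root_.Cfsg.Agent.KOb2d657f.e15.{ku0, ku1} : @Quot.rec.{ku0, ku1} = @_root_.Cfsg.Agent.KOb2d657f.k15.{ku0, ku1} := by delta _root_.Cfsg.Agent.KOb2d657f.k15; rfl'
private noncomputable def _root_.Cfsg.Agent.KOb2d657f.k16.{ku0, ku1} : ((x0 : Sort ku0) → ((x1 : (x0 → (x0 → Prop))) → ((x2 : ((@Quot.{ku0} @x0 @x1) → Sort ku1)) → (((x3 : x0) → @Subsingleton.{ku1} (@x2 (@Quot.mk.{ku0} @x0 @x1 @x3))) → ((x4 : @Quot.{ku0} @x0 @x1) → (((x5 : x0) → @x2 (@Quot.mk.{ku0} @x0 @x1 @x5)) → @x2 @x4)))))) := @(fun (x0 : Sort ku0) (x1 : (x0 → (x0 → Prop))) (x2 : ((@Quot.{ku0} @x0 @x1) → Sort ku1)) (x3 : ((x3 : x0) → @Subsingleton.{ku1} (@x2 (@Quot.mk.{ku0} @x0 @x1 @x3)))) (x4 : @Quot.{ku0} @x0 @x1) (x5 : ((x5 : x0) → @x2 (@Quot.mk.{ku0} @x0 @x1 @x5))) => @Cfsg.Agent.KOb2d657f.k15.{ku0, ku1} @x0 @x1 @(fun (x6 : @Quot.{ku0} @x0 @x1) => @x2 @x6) @(fun (x6 : x0) => @x5 @x6) (@Quot.recOnSubsingleton._proof_1.{ku1, ku0}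 @x0 @x1 @x2 @x3 @x5) @x4)
private theorem _root_.Cfsg.Agent.KOb2d657f.e16.{ku0, ku1} : @Quot.recOnSubsingleton.{ku0, ku1} = @_root_.Cfsg.Agent.KOb2d657f.k16.{ku0, ku1} := by delta _root_.Cfsg.Agent.KOb2d657f.k16; rewrite [← Cfsg.Agent.KOb2d657f.e15.{ku0, ku1}]; rfl'
private noncomputable def _root_.Cfsg.Agent.KOb2d657f.k25 : ((x0 : @Int) → ((x1 : @Int) → @Decidable (@Eq.{1} @Int @x0 @x1))) := @(fun (x0 : @Int) (x1 : @Int) => @Int.rec.{1} @(fun (x2 : @Int) => @Decidable (@Eq.{1} @Int @x2 @x1)) @(fun (x2 : @Nat) => @Int.rec.{1} @(fun (x3 : @Int) => @Decidable (@Eq.{1} @Int (@Int.ofNat @x2) @x3)) @(fun (x3 : @Nat) => @Decidable.rec.{1} (@Eq.{1} @Nat @x2 @x3) @(fun (x4 : @Decidable (@Eq.{1} @Nat @x2 @x3)) => @Decidable (@Eq.{1} @Int (@Int.ofNat @x2) (@Int.ofNat @x3))) @(fun (x4 : @Not (@Eq.{1} @Nat @x2 @x3)) => @Decidable.isFalse (@Eq.{1} @Int (@Int.ofNat @x2) (@Int.ofNat @x3)) (@Int.decEq._proof_2 @x2 @x3 @x4))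 @(fun (x4 : @Eq.{1} @Nat @x2 @x3) => @Decidable.isTrue (@Eq.{1} @Int (@Int.ofNat @x2) (@Int.ofNat @x3)) (@Int.decEq._proof_1 @x2 @x3 @x4)) (@Cfsg.Agent.KOb2d657f.k3 @x2 @x3)) @(fun (x3 : @Nat) => @Decidable.isFalse (@Eq.{1} @Int (@Int.ofNat @x2) (@Int.negSucc @x3)) (@Int.decEq._proof_3 @x2 @x3)) @x1) @(fun (x2 : @Nat) => @Int.rec.{1} @(fun (x3 : @Int) => @Decidable (@Eq.{1} @Int (@Int.negSucc @x2) @x3)) @(fun (x3 : @Nat) => @Decidable.isFalse (@Eq.{1} @Int (@Int.negSucc @x2) (@Int.ofNat @x3)) (@Int.decEq._proof_4 @x2 @x3)) @(fun (x3 : @Nat) => @Decidable.rec.{1} (@Eq.{1} @Nat @x2 @x3) @(fun (x4 : @Decidable (@Eq.{1} @Nat @x2 @x3)) => @Decidable (@Eq.{1} @Int (@Int.negSucc @x2) (@Int.negSucc @x3))) @(fun (x4 : @Not (@Eq.{1} @Nat @x2 @x3)) => @Decidable.isFalse (@Eq.{1} @Int (@Int.negSucc @x2) (@Int.negSucc @x3)) (@Int.decEq._proof_6 @x2 @x3 @x4)) @(fun (x4 : @Eq.{1} @Nat @x2 @x3) => @Decidable.isTrue (@Eq.{1}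 @Int (@Int.negSucc @x2) (@Int.negSucc @x3)) (@Int.decEq._proof_5 @x2 @x3 @x4)) (@Cfsg.Agent.KOb2d657f.k3 @x2 @x3)) @x1) @x0)
private theorem _root_.Cfsg.Agent.KOb2d657f.e25 : @Int.decEq = @_root_.Cfsg.Agent.KOb2d657f.k25 := by delta _root_.Cfsg.Agent.KOb2d657f.k25; rewrite [← Cfsg.Agent.KOb2d657f.e3]; rfl'
private noncomputable def _root_.Cfsg.Agent.KOb2d657f.k26 : ((x0 : @Nat) → @DecidableEq.{1} (@Fin @x0)) := @(fun (x0 : @Nat) (x1 : @Fin @x0) (x2 : @Fin @x0) => @Decidable.rec.{1} (@Eq.{1} @Nat (@Fin.val @x0 @x1) (@Fin.val @x0 @x2)) @(fun (x3 : @Decidable (@Eq.{1} @Nat (@Fin.val @x0 @x1) (@Fin.val @x0 @x2))) => @Decidable (@Eq.{1} (@Fin @x0) @x1 @x2)) @(fun (x3 : @Not (@Eq.{1} @Nat (@Fin.val @x0 @x1) (@Fin.val @x0 @x2))) => @Decidable.isFalse (@Eq.{1} (@Fin @x0) @x1 @x2) (@instDecidableEqFin._proof_1 @x0 @x1 @x2 @x3)) @(fun (x3 : @Eq.{1} @Nat (@Fin.val @x0 @x1) (@Fin.val @x0 @x2)) => @Decidable.isTrue (@Eq.{1}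 (@Fin @x0) @x1 @x2) (@Fin.eq_of_val_eq @x0 @x1 @x2 @x3)) (@Cfsg.Agent.KOb2d657f.k3 (@Fin.val @x0 @x1) (@Fin.val @x0 @x2)))
private theorem _root_.Cfsg.Agent.KOb2d657f.e26 : @instDecidableEqFin = @_root_.Cfsg.Agent.KOb2d657f.k26 := by delta _root_.Cfsg.Agent.KOb2d657f.k26; rewrite [← Cfsg.Agent.KOb2d657f.e3]; rfl'
private noncomputable def _root_.Cfsg.Agent.KOb2d657f.k27 : ((x0 : @Nat) → @DecidableEq.{1} (@ZMod @x0)) := @(fun (x0 : @Nat) => @Nat.rec.{1} @(fun (x1 : @Nat) => @DecidableEq.{1} (@ZMod @x1)) @Cfsg.Agent.KOb2d657f.k25 @(fun (x1 : @Nat) (x2 : @DecidableEq.{1} (@ZMod @x1)) => @Cfsg.Agent.KOb2d657f.k26 (@Nat.add @x1 (nat_lit 1))) @x0)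
private theorem _root_.Cfsg.Agent.KOb2d657f.e27 : @ZMod.decidableEq = @_root_.Cfsg.Agent.KOb2d657f.k27 := by delta _root_.Cfsg.Agent.KOb2d657f.k27; rewrite [← Cfsg.Agent.KOb2d657f.e26, ← Cfsg.Agent.KOb2d657f.e25]; rfl'
private noncomputable def _root_.Cfsg.Agent.KOb2d657f.k35 : ((x0 : Prop) → ((x1 : (x0 → Prop)) → ((@Decidable @x0) → (((x3 : x0) → @Decidable (@x1 @x3)) → @Decidable ((x4 : x0) → @x1 @x4))))) := @(fun (x0 : Prop) (x1 : (x0 → Prop)) (x2 : @Decidable @x0) (x3 : ((x3 : x0) → @Decidable (@x1 @x3))) => @Decidable.rec.{1} @x0 @(fun (x4 : @Decidable @x0) => @Decidable ((x5 : x0) → @x1 @x5)) @(fun (x4 : @Not @x0) => @Decidable.isTrue ((x5 : x0) → @x1 @x5) (@forall_prop_decidable._proof_2 @x0 @x1 @x4)) @(fun (x4 : x0) => @Decidable.rec.{1} (@x1 @x4) @(fun (x5 : @Decidable (@x1 @x4)) => @Decidable ((x6 : x0) → @x1 @x6)) @(fun (x5 : @Not (@x1 @x4)) => @Decidable.isFalse ((x6 : x0) → @x1 @x6) (@decidable_of_decidable_of_iff._proof_1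 (@x1 @x4) ((x6 : x0) → @x1 @x6) (@forall_prop_decidable._proof_1 @x0 @x1 @x4) @x5)) @(fun (x5 : @x1 @x4) => @Decidable.isTrue ((x6 : x0) → @x1 @x6) (@Iff.mp (@x1 @x4) ((x6 : x0) → @x1 @x6) (@forall_prop_decidable._proof_1 @x0 @x1 @x4) @x5)) (@x3 @x4)) @x2)
private theorem _root_.Cfsg.Agent.KOb2d657f.e35 : @forall_prop_decidable = @_root_.Cfsg.Agent.KOb2d657f.k35 := by delta _root_.Cfsg.Agent.KOb2d657f.k35; rfl'
private noncomputable def _root_.Cfsg.Agent.KOb2d657f.k36 : ((x0 : Prop) → ((@Decidable @x0) → @Decidable (@Not @x0))) := @(fun (x0 : Prop) (x1 : @Decidable @x0) => @Decidable.rec.{1} @x0 @(fun (x2 : @Decidable @x0) => @Decidable (@Not @x0)) @(fun (x2 : @Not @x0) => @Decidable.isTrue (@Not @x0) @x2) @(fun (x2 : x0) => @Decidable.isFalse (@Not @x0) (@absurd.{0} @x0 @False @x2)) @x1)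
private theorem _root_.Cfsg.Agent.KOb2d657f.e36 : @instDecidableNot = @_root_.Cfsg.Agent.KOb2d657f.k36 := by delta _root_.Cfsg.Agent.KOb2d657f.k36; rfl'
private noncomputable def _root_.Cfsg.Agent.KOb2d657f.k37.{ku0} : ((x0 : Sort (ku0+1)) → ((x1 : (x0 → Prop)) → ((@DecidablePred.{(ku0+1)} @x0 @x1) → ((x3 : @List.{ku0} @x0) → @Decidable (@_root_.Exists.{(ku0+1)} @x0 @(fun (x4 : x0) => @And (@Membership.mem.{ku0, ku0} @x0 (@List.{ku0} @x0) (@List.instMembership.{ku0} @x0) @x3 @x4) (@x1 @x4))))))) := @(fun (x0 : Sort (ku0+1)) (x1 : (x0 → Prop)) (x2 : @DecidablePred.{(ku0+1)} @x0 @x1) (x3 : @List.{ku0} @x0) => @List.rec.{1, ku0} @x0 @(fun (x4 : @List.{ku0} @x0) => @Decidable (@_root_.Exists.{(ku0+1)} @x0 @(fun (x5 : x0) => @And (@Membership.mem.{ku0, ku0} @x0 (@List.{ku0} @x0) (@List.instMembership.{ku0} @x0) @x4 @x5) (@x1 @x5)))) (@Decidable.isFalse (@_root_.Exists.{(ku0+1)} @x0 @(fun (x4 : x0) => @And (@Membership.mem.{ku0,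 ku0} @x0 (@List.{ku0} @x0) (@List.instMembership.{ku0} @x0) (@List.nil.{ku0} @x0) @x4) (@x1 @x4))) (@List.decidableBEx._proof_1.{ku0} @x0 @x1)) @(fun (x4 : x0) (x5 : @List.{ku0} @x0) (x6 : @Decidable (@_root_.Exists.{(ku0+1)} @x0 @(fun (x6 : x0) => @And (@Membership.mem.{ku0, ku0} @x0 (@List.{ku0} @x0) (@List.instMembership.{ku0} @x0) @x5 @x6) (@x1 @x6)))) => @Decidable.rec.{1} (@x1 @x4) @(fun (x7 : @Decidable (@x1 @x4)) => @Decidable (@_root_.Exists.{(ku0+1)} @x0 @(fun (x8 : x0) => @And (@Membership.mem.{ku0, ku0} @x0 (@List.{ku0} @x0) (@List.instMembership.{ku0} @x0) (@List.cons.{ku0} @x0 @x4 @x5) @x8) (@x1 @x8)))) @(fun (x7 : @Not (@x1 @x4)) => @Decidable.rec.{1} (@_root_.Exists.{(ku0+1)} @x0 @(fun (x8 : x0) => @And (@Membership.mem.{ku0, ku0} @x0 (@List.{ku0} @x0) (@List.instMembership.{ku0} @x0) @x5 @x8) (@x1 @x8))) @(fun (x8 : @Decidable (@_root_.Exists.{(ku0+1)} @x0 @(fun (x8 : x0) => @And (@Membership.mem.{ku0,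 ku0} @x0 (@List.{ku0} @x0) (@List.instMembership.{ku0} @x0) @x5 @x8) (@x1 @x8)))) => @Decidable (@_root_.Exists.{(ku0+1)} @x0 @(fun (x9 : x0) => @And (@Membership.mem.{ku0, ku0} @x0 (@List.{ku0} @x0) (@List.instMembership.{ku0} @x0) (@List.cons.{ku0} @x0 @x4 @x5) @x9) (@x1 @x9)))) @(fun (x8 : @Not (@_root_.Exists.{(ku0+1)} @x0 @(fun (x8 : x0) => @And (@Membership.mem.{ku0, ku0} @x0 (@List.{ku0} @x0) (@List.instMembership.{ku0} @x0) @x5 @x8) (@x1 @x8)))) => @Decidable.isFalse (@_root_.Exists.{(ku0+1)} @x0 @(fun (x9 : x0) => @And (@Membership.mem.{ku0, ku0} @x0 (@List.{ku0} @x0) (@List.instMembership.{ku0} @x0) (@List.cons.{ku0} @x0 @x4 @x5) @x9) (@x1 @x9))) (@List.decidableBEx._proof_4.{ku0} @x0 @x1 @x4 @x5 @x7 @x8)) @(fun (x8 : @_root_.Exists.{(ku0+1)} @x0 @(fun (x8 : x0) => @And (@Membership.mem.{ku0, ku0} @x0 (@List.{ku0} @x0) (@List.instMembership.{ku0} @x0) @x5 @x8) (@x1 @x8))) => @Decidable.isTrue (@_root_.Exists.{(ku0+1)}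 @x0 @(fun (x9 : x0) => @And (@Membership.mem.{ku0, ku0} @x0 (@List.{ku0} @x0) (@List.instMembership.{ku0} @x0) (@List.cons.{ku0} @x0 @x4 @x5) @x9) (@x1 @x9))) (@List.decidableBEx._proof_3.{ku0} @x0 @x1 @x4 @x5 @x8)) @x6) @(fun (x7 : @x1 @x4) => @Decidable.isTrue (@_root_.Exists.{(ku0+1)} @x0 @(fun (x8 : x0) => @And (@Membership.mem.{ku0, ku0} @x0 (@List.{ku0} @x0) (@List.instMembership.{ku0} @x0) (@List.cons.{ku0} @x0 @x4 @x5) @x8) (@x1 @x8))) (@List.decidableBEx._proof_2.{ku0} @x0 @x1 @x4 @x5 @x7)) (@x2 @x4)) @x3)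
private theorem _root_.Cfsg.Agent.KOb2d657f.e37.{ku0} : @List.decidableBEx.{ku0} = @_root_.Cfsg.Agent.KOb2d657f.k37.{ku0} := by delta _root_.Cfsg.Agent.KOb2d657f.k37; funext a0 a1 a2 a3; refine (_root_.Cfsg.Agent.KOb2d657f.e6 (fun a3 => @List.decidableBEx.{ku0} a0 a1 a2 a3) ?_ (fun c0 c1 => ?_) a3 :) <;> (rfl')
private noncomputable def _root_.Cfsg.Agent.KOb2d657f.k38.{ku0} : ((x0 : Sort (ku0+1)) → ((x1 : @Multiset.{ku0} @x0) → ((x2 : (x0 → Prop)) → ((@DecidablePred.{(ku0+1)} @x0 @x2) → @Decidable (@_root_.Exists.{(ku0+1)} @x0 @(fun (x4 : x0) => @And (@Membership.mem.{ku0, ku0} @x0 (@Multiset.{ku0} @x0) (@Multiset.instMembership.{ku0} @x0) @x1 @x4) (@x2 @x4))))))) := @(fun (x0 : Sort (ku0+1)) (x1 : @Multiset.{ku0} @x0) (x2 : (x0 → Prop)) (x3 : @DecidablePred.{(ku0+1)} @x0 @x2) => @Cfsg.Agent.KOb2d657f.k16.{(ku0+1), 1} (@List.{ku0} @x0) (@Setoid.r.{(ku0+1)} (@List.{ku0} @x0) (@List.isSetoid.{ku0} @x0)) @(fun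 (x4 : @Quotient.{(ku0+1)} (@List.{ku0} @x0) (@List.isSetoid.{ku0} @x0)) => @Decidable (@_root_.Exists.{(ku0+1)} @x0 @(fun (x5 : x0) => @And (@Membership.mem.{ku0, ku0} @x0 (@Multiset.{ku0} @x0) (@Multiset.instMembership.{ku0} @x0) @x4 @x5) (@x2 @x5)))) (@Multiset.decidableExistsMultiset._proof_2.{ku0} @x0 @x2) @x1 @(fun (x4 : @List.{ku0} @x0) => @Decidable.rec.{1} (@_root_.Exists.{(ku0+1)} @x0 @(fun (x5 : x0) => @And (@Membership.mem.{ku0, ku0} @x0 (@List.{ku0} @x0) (@List.instMembership.{ku0} @x0) @x4 @x5) (@x2 @x5))) @(fun (x5 : @Decidable (@_root_.Exists.{(ku0+1)} @x0 @(fun (x5 : x0) => @And (@Membership.mem.{ku0, ku0} @x0 (@List.{ku0} @x0) (@List.instMembership.{ku0} @x0) @x4 @x5) (@x2 @x5)))) => @Decidable (@_root_.Exists.{(ku0+1)} @x0 @(fun (x6 : x0) => @And (@Membership.mem.{ku0, ku0} @x0 (@Multiset.{ku0} @x0) (@Multiset.instMembership.{ku0} @x0) (@Quotient.mk.{(ku0+1)} (@List.{ku0} @x0) (@List.isSetoid.{ku0}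 @x0) @x4) @x6) (@x2 @x6)))) @(fun (x5 : @Not (@_root_.Exists.{(ku0+1)} @x0 @(fun (x5 : x0) => @And (@Membership.mem.{ku0, ku0} @x0 (@List.{ku0} @x0) (@List.instMembership.{ku0} @x0) @x4 @x5) (@x2 @x5)))) => @Decidable.isFalse (@_root_.Exists.{(ku0+1)} @x0 @(fun (x6 : x0) => @And (@Membership.mem.{ku0, ku0} @x0 (@Multiset.{ku0} @x0) (@Multiset.instMembership.{ku0} @x0) (@Quotient.mk.{(ku0+1)} (@List.{ku0} @x0) (@List.isSetoid.{ku0} @x0) @x4) @x6) (@x2 @x6))) (@decidable_of_decidable_of_iff._proof_1 (@_root_.Exists.{(ku0+1)} @x0 @(fun (x6 : x0) => @And (@Membership.mem.{ku0, ku0} @x0 (@List.{ku0} @x0) (@List.instMembership.{ku0} @x0) @x4 @x6) (@x2 @x6))) (@_root_.Exists.{(ku0+1)} @x0 @(fun (x6 : x0) => @And (@Membership.mem.{ku0, ku0} @x0 (@Multiset.{ku0} @x0) (@Multiset.instMembership.{ku0} @x0) (@Quotient.mk.{(ku0+1)} (@List.{ku0} @x0) (@List.isSetoid.{ku0} @x0) @x4) @x6) (@x2 @x6))) (@Multiset.decidableExistsMultiset._proof_1.{ku0}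 @x0 @x2 @x4) @x5)) @(fun (x5 : @_root_.Exists.{(ku0+1)} @x0 @(fun (x5 : x0) => @And (@Membership.mem.{ku0, ku0} @x0 (@List.{ku0} @x0) (@List.instMembership.{ku0} @x0) @x4 @x5) (@x2 @x5))) => @Decidable.isTrue (@_root_.Exists.{(ku0+1)} @x0 @(fun (x6 : x0) => @And (@Membership.mem.{ku0, ku0} @x0 (@Multiset.{ku0} @x0) (@Multiset.instMembership.{ku0} @x0) (@Quotient.mk.{(ku0+1)} (@List.{ku0} @x0) (@List.isSetoid.{ku0} @x0) @x4) @x6) (@x2 @x6))) (@Iff.mp (@_root_.Exists.{(ku0+1)} @x0 @(fun (x6 : x0) => @And (@Membership.mem.{ku0, ku0} @x0 (@List.{ku0} @x0) (@List.instMembership.{ku0} @x0) @x4 @x6) (@x2 @x6))) (@_root_.Exists.{(ku0+1)} @x0 @(fun (x6 : x0) => @And (@Membership.mem.{ku0, ku0} @x0 (@Multiset.{ku0} @x0) (@Multiset.instMembership.{ku0} @x0) (@Quotient.mk.{(ku0+1)} (@List.{ku0} @x0) (@List.isSetoid.{ku0} @x0) @x4) @x6) (@x2 @x6))) (@Multiset.decidableExistsMultiset._proof_1.{ku0} @x0 @x2 @x4) @x5)) (@Cfsg.Agent.KOb2d657f.k37.{ku0}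 @x0 @x2 @x3 @x4)))
private theorem _root_.Cfsg.Agent.KOb2d657f.e38.{ku0} : @Multiset.decidableExistsMultiset.{ku0} = @_root_.Cfsg.Agent.KOb2d657f.k38.{ku0} := by delta _root_.Cfsg.Agent.KOb2d657f.k38; rewrite [← Cfsg.Agent.KOb2d657f.e37.{ku0}, ← Cfsg.Agent.KOb2d657f.e16.{(ku0+1), 1}]; rfl'
private noncomputable def _root_.Cfsg.Agent.KOb2d657f.k39.{ku0} : ((x0 : Sort (ku0+1)) → ((x1 : @Multiset.{ku0} @x0) → ((x2 : ((x2 : x0) → ((@Membership.mem.{ku0, ku0} @x0 (@Multiset.{ku0} @x0) (@Multiset.instMembership.{ku0} @x0) @x1 @x2) → Prop))) → (((x3 : x0) → ((x4 : @Membership.mem.{ku0, ku0} @x0 (@Multiset.{ku0} @x0) (@Multiset.instMembership.{ku0} @x0) @x1 @x3) → @Decidable (@x2 @x3 @x4))) → @Decidable (@_root_.Exists.{(ku0+1)} @x0 @(fun (x4 : x0) => @_root_.Exists.{0} (@Membership.mem.{ku0, ku0} @x0 (@Multiset.{ku0} @x0) (@Multiset.instMembership.{ku0} @x0) @x1 @x4) @(fun (x5 : @Membership.mem.{ku0, ku0} @x0 (@Multiset.{ku0}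 @x0) (@Multiset.instMembership.{ku0} @x0) @x1 @x4) => @x2 @x4 @x5))))))) := @(fun (x0 : Sort (ku0+1)) (x1 : @Multiset.{ku0} @x0) (x2 : ((x2 : x0) → ((@Membership.mem.{ku0, ku0} @x0 (@Multiset.{ku0} @x0) (@Multiset.instMembership.{ku0} @x0) @x1 @x2) → Prop))) (x3 : ((x3 : x0) → ((x4 : @Membership.mem.{ku0, ku0} @x0 (@Multiset.{ku0} @x0) (@Multiset.instMembership.{ku0} @x0) @x1 @x3) → @Decidable (@x2 @x3 @x4)))) => @Decidable.rec.{1} (@_root_.Exists.{(ku0+1)} (@Subtype.{(ku0+1)} @x0 @(fun (x4 : x0) => @Membership.mem.{ku0, ku0} @x0 (@Multiset.{ku0} @x0) (@Multiset.instMembership.{ku0} @x0) @x1 @x4)) @(fun (x4 : @Subtype.{(ku0+1)} @x0 @(fun (x4 : x0) => @Membership.mem.{ku0, ku0} @x0 (@Multiset.{ku0} @x0) (@Multiset.instMembership.{ku0} @x0) @x1 @x4)) => @And (@Membership.mem.{ku0, ku0} (@Subtype.{(ku0+1)} @x0 @(fun (x5 : x0) => @Membership.mem.{ku0, ku0} @x0 (@Multiset.{ku0} @x0) (@Multiset.instMembership.{ku0}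 @x0) @x1 @x5)) (@Multiset.{ku0} (@Subtype.{(ku0+1)} @x0 @(fun (x5 : x0) => @Membership.mem.{ku0, ku0} @x0 (@Multiset.{ku0} @x0) (@Multiset.instMembership.{ku0} @x0) @x1 @x5))) (@Multiset.instMembership.{ku0} (@Subtype.{(ku0+1)} @x0 @(fun (x5 : x0) => @Membership.mem.{ku0, ku0} @x0 (@Multiset.{ku0} @x0) (@Multiset.instMembership.{ku0} @x0) @x1 @x5))) (@Multiset.attach.{ku0} @x0 @x1) @x4) (@x2 (@Subtype.val.{(ku0+1)} @x0 @(fun (x5 : x0) => @Membership.mem.{ku0, ku0} @x0 (@Multiset.{ku0} @x0) (@Multiset.instMembership.{ku0} @x0) @x1 @x5) @x4) (@Multiset.decidableDforallMultiset._proof_1.{ku0} @x0 @x1 @x4)))) @(fun (x4 : @Decidable (@_root_.Exists.{(ku0+1)} (@Subtype.{(ku0+1)} @x0 @(fun (x4 : x0) => @Membership.mem.{ku0, ku0} @x0 (@Multiset.{ku0} @x0) (@Multiset.instMembership.{ku0} @x0) @x1 @x4)) @(fun (x4 : @Subtype.{(ku0+1)} @x0 @(fun (x4 : x0) => @Membership.mem.{ku0, ku0} @x0 (@Multiset.{ku0} @x0) (@Multiset.instMembership.{ku0}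 @x0) @x1 @x4)) => @And (@Membership.mem.{ku0, ku0} (@Subtype.{(ku0+1)} @x0 @(fun (x5 : x0) => @Membership.mem.{ku0, ku0} @x0 (@Multiset.{ku0} @x0) (@Multiset.instMembership.{ku0} @x0) @x1 @x5)) (@Multiset.{ku0} (@Subtype.{(ku0+1)} @x0 @(fun (x5 : x0) => @Membership.mem.{ku0, ku0} @x0 (@Multiset.{ku0} @x0) (@Multiset.instMembership.{ku0} @x0) @x1 @x5))) (@Multiset.instMembership.{ku0} (@Subtype.{(ku0+1)} @x0 @(fun (x5 : x0) => @Membership.mem.{ku0, ku0} @x0 (@Multiset.{ku0} @x0) (@Multiset.instMembership.{ku0} @x0) @x1 @x5))) (@Multiset.attach.{ku0} @x0 @x1) @x4) (@x2 (@Subtype.val.{(ku0+1)} @x0 @(fun (x5 : x0) => @Membership.mem.{ku0, ku0} @x0 (@Multiset.{ku0} @x0) (@Multiset.instMembership.{ku0} @x0) @x1 @x5) @x4) (@Multiset.decidableDforallMultiset._proof_1.{ku0} @x0 @x1 @x4))))) => @Decidable (@_root_.Exists.{(ku0+1)} @x0 @(fun (x5 : x0) => @_root_.Exists.{0} (@Membership.mem.{ku0, ku0} @x0 (@Multiset.{ku0}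 @x0) (@Multiset.instMembership.{ku0} @x0) @x1 @x5) @(fun (x6 : @Membership.mem.{ku0, ku0} @x0 (@Multiset.{ku0} @x0) (@Multiset.instMembership.{ku0} @x0) @x1 @x5) => @x2 @x5 @x6)))) @(fun (x4 : @Not (@_root_.Exists.{(ku0+1)} (@Subtype.{(ku0+1)} @x0 @(fun (x4 : x0) => @Membership.mem.{ku0, ku0} @x0 (@Multiset.{ku0} @x0) (@Multiset.instMembership.{ku0} @x0) @x1 @x4)) @(fun (x4 : @Subtype.{(ku0+1)} @x0 @(fun (x4 : x0) => @Membership.mem.{ku0, ku0} @x0 (@Multiset.{ku0} @x0) (@Multiset.instMembership.{ku0} @x0) @x1 @x4)) => @And (@Membership.mem.{ku0, ku0} (@Subtype.{(ku0+1)} @x0 @(fun (x5 : x0) => @Membership.mem.{ku0, ku0} @x0 (@Multiset.{ku0} @x0) (@Multiset.instMembership.{ku0} @x0) @x1 @x5)) (@Multiset.{ku0} (@Subtype.{(ku0+1)} @x0 @(fun (x5 : x0) => @Membership.mem.{ku0, ku0} @x0 (@Multiset.{ku0} @x0) (@Multiset.instMembership.{ku0} @x0) @x1 @x5))) (@Multiset.instMembership.{ku0} (@Subtype.{(ku0+1)} @x0 @(fun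 (x5 : x0) => @Membership.mem.{ku0, ku0} @x0 (@Multiset.{ku0} @x0) (@Multiset.instMembership.{ku0} @x0) @x1 @x5))) (@Multiset.attach.{ku0} @x0 @x1) @x4) (@x2 (@Subtype.val.{(ku0+1)} @x0 @(fun (x5 : x0) => @Membership.mem.{ku0, ku0} @x0 (@Multiset.{ku0} @x0) (@Multiset.instMembership.{ku0} @x0) @x1 @x5) @x4) (@Multiset.decidableDforallMultiset._proof_1.{ku0} @x0 @x1 @x4))))) => @Decidable.isFalse (@_root_.Exists.{(ku0+1)} @x0 @(fun (x5 : x0) => @_root_.Exists.{0} (@Membership.mem.{ku0, ku0} @x0 (@Multiset.{ku0} @x0) (@Multiset.instMembership.{ku0} @x0) @x1 @x5) @(fun (x6 : @Membership.mem.{ku0, ku0} @x0 (@Multiset.{ku0} @x0) (@Multiset.instMembership.{ku0} @x0) @x1 @x5) => @x2 @x5 @x6))) (@decidable_of_decidable_of_iff._proof_1 (@_root_.Exists.{(ku0+1)} (@Subtype.{(ku0+1)} @x0 @(fun (x5 : x0) => @Membership.mem.{ku0, ku0} @x0 (@Multiset.{ku0} @x0) (@Multiset.instMembership.{ku0} @x0) @x1 @x5)) @(fun (x5 : @Subtype.{(ku0+1)}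 @x0 @(fun (x5 : x0) => @Membership.mem.{ku0, ku0} @x0 (@Multiset.{ku0} @x0) (@Multiset.instMembership.{ku0} @x0) @x1 @x5)) => @And (@Membership.mem.{ku0, ku0} (@Subtype.{(ku0+1)} @x0 @(fun (x6 : x0) => @Membership.mem.{ku0, ku0} @x0 (@Multiset.{ku0} @x0) (@Multiset.instMembership.{ku0} @x0) @x1 @x6)) (@Multiset.{ku0} (@Subtype.{(ku0+1)} @x0 @(fun (x6 : x0) => @Membership.mem.{ku0, ku0} @x0 (@Multiset.{ku0} @x0) (@Multiset.instMembership.{ku0} @x0) @x1 @x6))) (@Multiset.instMembership.{ku0} (@Subtype.{(ku0+1)} @x0 @(fun (x6 : x0) => @Membership.mem.{ku0, ku0} @x0 (@Multiset.{ku0} @x0) (@Multiset.instMembership.{ku0} @x0) @x1 @x6))) (@Multiset.attach.{ku0} @x0 @x1) @x5) (@x2 (@Subtype.val.{(ku0+1)} @x0 @(fun (x6 : x0) => @Membership.mem.{ku0, ku0} @x0 (@Multiset.{ku0} @x0) (@Multiset.instMembership.{ku0} @x0) @x1 @x6) @x5) (@Multiset.decidableDforallMultiset._proof_1.{ku0} @x0 @x1 @x5)))) (@_root_.Exists.{(ku0+1)}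 @x0 @(fun (x5 : x0) => @_root_.Exists.{0} (@Membership.mem.{ku0, ku0} @x0 (@Multiset.{ku0} @x0) (@Multiset.instMembership.{ku0} @x0) @x1 @x5) @(fun (x6 : @Membership.mem.{ku0, ku0} @x0 (@Multiset.{ku0} @x0) (@Multiset.instMembership.{ku0} @x0) @x1 @x5) => @x2 @x5 @x6))) (@Multiset.decidableDexistsMultiset._proof_1.{ku0} @x0 @x1 @x2) @x4)) @(fun (x4 : @_root_.Exists.{(ku0+1)} (@Subtype.{(ku0+1)} @x0 @(fun (x4 : x0) => @Membership.mem.{ku0, ku0} @x0 (@Multiset.{ku0} @x0) (@Multiset.instMembership.{ku0} @x0) @x1 @x4)) @(fun (x4 : @Subtype.{(ku0+1)} @x0 @(fun (x4 : x0) => @Membership.mem.{ku0, ku0} @x0 (@Multiset.{ku0} @x0) (@Multiset.instMembership.{ku0} @x0) @x1 @x4)) => @And (@Membership.mem.{ku0, ku0} (@Subtype.{(ku0+1)} @x0 @(fun (x5 : x0) => @Membership.mem.{ku0, ku0} @x0 (@Multiset.{ku0} @x0) (@Multiset.instMembership.{ku0} @x0) @x1 @x5)) (@Multiset.{ku0} (@Subtype.{(ku0+1)} @x0 @(fun (x5 : x0) => @Membership.mem.{ku0,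 ku0} @x0 (@Multiset.{ku0} @x0) (@Multiset.instMembership.{ku0} @x0) @x1 @x5))) (@Multiset.instMembership.{ku0} (@Subtype.{(ku0+1)} @x0 @(fun (x5 : x0) => @Membership.mem.{ku0, ku0} @x0 (@Multiset.{ku0} @x0) (@Multiset.instMembership.{ku0} @x0) @x1 @x5))) (@Multiset.attach.{ku0} @x0 @x1) @x4) (@x2 (@Subtype.val.{(ku0+1)} @x0 @(fun (x5 : x0) => @Membership.mem.{ku0, ku0} @x0 (@Multiset.{ku0} @x0) (@Multiset.instMembership.{ku0} @x0) @x1 @x5) @x4) (@Multiset.decidableDforallMultiset._proof_1.{ku0} @x0 @x1 @x4)))) => @Decidable.isTrue (@_root_.Exists.{(ku0+1)} @x0 @(fun (x5 : x0) => @_root_.Exists.{0} (@Membership.mem.{ku0, ku0} @x0 (@Multiset.{ku0} @x0) (@Multiset.instMembership.{ku0} @x0) @x1 @x5) @(fun (x6 : @Membership.mem.{ku0, ku0} @x0 (@Multiset.{ku0} @x0) (@Multiset.instMembership.{ku0} @x0) @x1 @x5) => @x2 @x5 @x6))) (@Iff.mp (@_root_.Exists.{(ku0+1)} (@Subtype.{(ku0+1)} @x0 @(fun (x5 : x0) => @Membership.mem.{ku0,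 ku0} @x0 (@Multiset.{ku0} @x0) (@Multiset.instMembership.{ku0} @x0) @x1 @x5)) @(fun (x5 : @Subtype.{(ku0+1)} @x0 @(fun (x5 : x0) => @Membership.mem.{ku0, ku0} @x0 (@Multiset.{ku0} @x0) (@Multiset.instMembership.{ku0} @x0) @x1 @x5)) => @And (@Membership.mem.{ku0, ku0} (@Subtype.{(ku0+1)} @x0 @(fun (x6 : x0) => @Membership.mem.{ku0, ku0} @x0 (@Multiset.{ku0} @x0) (@Multiset.instMembership.{ku0} @x0) @x1 @x6)) (@Multiset.{ku0} (@Subtype.{(ku0+1)} @x0 @(fun (x6 : x0) => @Membership.mem.{ku0, ku0} @x0 (@Multiset.{ku0} @x0) (@Multiset.instMembership.{ku0} @x0) @x1 @x6))) (@Multiset.instMembership.{ku0} (@Subtype.{(ku0+1)} @x0 @(fun (x6 : x0) => @Membership.mem.{ku0, ku0} @x0 (@Multiset.{ku0} @x0) (@Multiset.instMembership.{ku0} @x0) @x1 @x6))) (@Multiset.attach.{ku0} @x0 @x1) @x5) (@x2 (@Subtype.val.{(ku0+1)} @x0 @(fun (x6 : x0) => @Membership.mem.{ku0, ku0} @x0 (@Multiset.{ku0} @x0) (@Multiset.instMembership.{ku0}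 @x0) @x1 @x6) @x5) (@Multiset.decidableDforallMultiset._proof_1.{ku0} @x0 @x1 @x5)))) (@_root_.Exists.{(ku0+1)} @x0 @(fun (x5 : x0) => @_root_.Exists.{0} (@Membership.mem.{ku0, ku0} @x0 (@Multiset.{ku0} @x0) (@Multiset.instMembership.{ku0} @x0) @x1 @x5) @(fun (x6 : @Membership.mem.{ku0, ku0} @x0 (@Multiset.{ku0} @x0) (@Multiset.instMembership.{ku0} @x0) @x1 @x5) => @x2 @x5 @x6))) (@Multiset.decidableDexistsMultiset._proof_1.{ku0} @x0 @x1 @x2) @x4)) (@Cfsg.Agent.KOb2d657f.k38.{ku0} (@Subtype.{(ku0+1)} @x0 @(fun (x4 : x0) => @Membership.mem.{ku0, ku0} @x0 (@Multiset.{ku0} @x0) (@Multiset.instMembership.{ku0} @x0) @x1 @x4)) (@Multiset.pmap.{ku0, ku0} @x0 (@Subtype.{(ku0+1)} @x0 @(fun (x4 : x0) => @Membership.mem.{ku0, ku0} @x0 (@Multiset.{ku0} @x0) (@Multiset.instMembership.{ku0} @x0) @x1 @x4)) @(fun (x4 : x0) => @Membership.mem.{ku0, ku0} @x0 (@Multiset.{ku0} @x0) (@Multiset.instMembership.{ku0} @x0) @x1 @x4)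 (@Subtype.mk.{(ku0+1)} @x0 @(fun (x4 : x0) => @Membership.mem.{ku0, ku0} @x0 (@Multiset.{ku0} @x0) (@Multiset.instMembership.{ku0} @x0) @x1 @x4)) @x1 (@Multiset.attach._proof_1.{ku0} @x0 @x1)) @(fun (x4 : @Subtype.{(ku0+1)} @x0 @(fun (x4 : x0) => @Membership.mem.{ku0, ku0} @x0 (@Multiset.{ku0} @x0) (@Multiset.instMembership.{ku0} @x0) @x1 @x4)) => @x2 (@Subtype.val.{(ku0+1)} @x0 @(fun (x5 : x0) => @Membership.mem.{ku0, ku0} @x0 (@Multiset.{ku0} @x0) (@Multiset.instMembership.{ku0} @x0) @x1 @x5) @x4) (@Multiset.decidableDforallMultiset._proof_1.{ku0} @x0 @x1 @x4)) @(fun (x4 : @Subtype.{(ku0+1)} @x0 @(fun (x4 : x0) => @Membership.mem.{ku0, ku0} @x0 (@Multiset.{ku0} @x0) (@Multiset.instMembership.{ku0} @x0) @x1 @x4)) => @x3 (@Subtype.val.{(ku0+1)} @x0 @(fun (x5 : x0) => @Membership.mem.{ku0, ku0} @x0 (@Multiset.{ku0} @x0) (@Multiset.instMembership.{ku0} @x0) @x1 @x5) @x4) (@Multiset.decidableDforallMultiset._proof_1.{ku0}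 @x0 @x1 @x4))))
private theorem _root_.Cfsg.Agent.KOb2d657f.e39.{ku0} : @Multiset.decidableDexistsMultiset.{ku0} = @_root_.Cfsg.Agent.KOb2d657f.k39.{ku0} := by delta _root_.Cfsg.Agent.KOb2d657f.k39; rewrite [← Cfsg.Agent.KOb2d657f.e38.{ku0}]; rfl'
private noncomputable def _root_.Cfsg.Agent.KOb2d657f.k40.{ku0} : ((x0 : Sort (ku0+1)) → ((x1 : @Finset.{ku0} @x0) → ((x2 : ((x2 : x0) → ((@Membership.mem.{ku0, ku0} @x0 (@Finset.{ku0} @x0) (@SetLike.instMembership.{ku0, ku0} (@Finset.{ku0} @x0) @x0 (@Finset.instSetLike.{ku0} @x0)) @x1 @x2) → Prop))) → (((x3 : x0) → ((x4 : @Membership.mem.{ku0, ku0} @x0 (@Finset.{ku0} @x0) (@SetLike.instMembership.{ku0, ku0} (@Finset.{ku0} @x0) @x0 (@Finset.instSetLike.{ku0} @x0)) @x1 @x3) → @Decidable (@x2 @x3 @x4))) → @Decidable (@_root_.Exists.{(ku0+1)} @x0 @(fun (x4 : x0) => @_root_.Exists.{0} (@Membership.mem.{ku0, ku0} @x0 (@Finset.{ku0} @x0) (@SetLike.instMembership.{ku0, ku0}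 (@Finset.{ku0} @x0) @x0 (@Finset.instSetLike.{ku0} @x0)) @x1 @x4) @(fun (x5 : @Membership.mem.{ku0, ku0} @x0 (@Finset.{ku0} @x0) (@SetLike.instMembership.{ku0, ku0} (@Finset.{ku0} @x0) @x0 (@Finset.instSetLike.{ku0} @x0)) @x1 @x4) => @x2 @x4 @x5))))))) := @(fun (x0 : Sort (ku0+1)) (x1 : @Finset.{ku0} @x0) (x2 : ((x2 : x0) → ((@Membership.mem.{ku0, ku0} @x0 (@Finset.{ku0} @x0) (@SetLike.instMembership.{ku0, ku0} (@Finset.{ku0} @x0) @x0 (@Finset.instSetLike.{ku0} @x0)) @x1 @x2) → Prop))) (x3 : ((x3 : x0) → ((x4 : @Membership.mem.{ku0, ku0} @x0 (@Finset.{ku0} @x0) (@SetLike.instMembership.{ku0, ku0} (@Finset.{ku0} @x0) @x0 (@Finset.instSetLike.{ku0} @x0)) @x1 @x3) → @Decidable (@x2 @x3 @x4)))) => @Cfsg.Agent.KOb2d657f.k39.{ku0} @x0 (@Finset.val.{ku0} @x0 @x1) @x2 @x3)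
private theorem _root_.Cfsg.Agent.KOb2d657f.e40.{ku0} : @Finset.decidableDExistsFinset.{ku0} = @_root_.Cfsg.Agent.KOb2d657f.k40.{ku0} := by delta _root_.Cfsg.Agent.KOb2d657f.k40; rewrite [← Cfsg.Agent.KOb2d657f.e39.{ku0}]; rfl'
private noncomputable def _root_.Cfsg.Agent.KOb2d657f.k41.{ku0} : ((x0 : Sort (ku0+1)) → ((x1 : @Finset.{ku0} @x0) → ((x2 : (x0 → Prop)) → (((x3 : x0) → @Decidable (@x2 @x3)) → @Decidable (@_root_.Exists.{(ku0+1)} @x0 @(fun (x4 : x0) => @And (@Membership.mem.{ku0, ku0} @x0 (@Finset.{ku0} @x0) (@SetLike.instMembership.{ku0, ku0} (@Finset.{ku0} @x0) @x0 (@Finset.instSetLike.{ku0} @x0)) @x1 @x4) (@x2 @x4))))))) := @(fun (x0 : Sort (ku0+1)) (x1 : @Finset.{ku0} @x0) (x2 : (x0 → Prop)) (x3 : ((x3 : x0) → @Decidable (@x2 @x3))) => @Decidable.rec.{1} (@_root_.Exists.{(ku0+1)} @x0 @(fun (x4 : x0) => @_root_.Exists.{0} (@Membership.mem.{ku0, ku0} @x0 (@Finset.{ku0} @x0) (@SetLike.instMembership.{ku0,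 ku0} (@Finset.{ku0} @x0) @x0 (@Finset.instSetLike.{ku0} @x0)) @x1 @x4) @(fun (x5 : @Membership.mem.{ku0, ku0} @x0 (@Finset.{ku0} @x0) (@SetLike.instMembership.{ku0, ku0} (@Finset.{ku0} @x0) @x0 (@Finset.instSetLike.{ku0} @x0)) @x1 @x4) => @x2 @x4))) @(fun (x4 : @Decidable (@_root_.Exists.{(ku0+1)} @x0 @(fun (x4 : x0) => @_root_.Exists.{0} (@Membership.mem.{ku0, ku0} @x0 (@Finset.{ku0} @x0) (@SetLike.instMembership.{ku0, ku0} (@Finset.{ku0} @x0) @x0 (@Finset.instSetLike.{ku0} @x0)) @x1 @x4) @(fun (x5 : @Membership.mem.{ku0, ku0} @x0 (@Finset.{ku0} @x0) (@SetLike.instMembership.{ku0, ku0} (@Finset.{ku0} @x0) @x0 (@Finset.instSetLike.{ku0} @x0)) @x1 @x4) => @x2 @x4)))) => @Decidable (@_root_.Exists.{(ku0+1)} @x0 @(fun (x5 : x0) => @And (@Membership.mem.{ku0, ku0} @x0 (@Finset.{ku0} @x0) (@SetLike.instMembership.{ku0, ku0} (@Finset.{ku0} @x0) @x0 (@Finset.instSetLike.{ku0} @x0)) @x1 @x5) (@x2 @x5)))) @(fun (x4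 : @Not (@_root_.Exists.{(ku0+1)} @x0 @(fun (x4 : x0) => @_root_.Exists.{0} (@Membership.mem.{ku0, ku0} @x0 (@Finset.{ku0} @x0) (@SetLike.instMembership.{ku0, ku0} (@Finset.{ku0} @x0) @x0 (@Finset.instSetLike.{ku0} @x0)) @x1 @x4) @(fun (x5 : @Membership.mem.{ku0, ku0} @x0 (@Finset.{ku0} @x0) (@SetLike.instMembership.{ku0, ku0} (@Finset.{ku0} @x0) @x0 (@Finset.instSetLike.{ku0} @x0)) @x1 @x4) => @x2 @x4)))) => @Decidable.isFalse (@_root_.Exists.{(ku0+1)} @x0 @(fun (x5 : x0) => @And (@Membership.mem.{ku0, ku0} @x0 (@Finset.{ku0} @x0) (@SetLike.instMembership.{ku0, ku0} (@Finset.{ku0} @x0) @x0 (@Finset.instSetLike.{ku0} @x0)) @x1 @x5) (@x2 @x5))) (@decidable_of_decidable_of_iff._proof_1 (@_root_.Exists.{(ku0+1)} @x0 @(fun (x5 : x0) => @_root_.Exists.{0} (@Membership.mem.{ku0, ku0} @x0 (@Finset.{ku0} @x0) (@SetLike.instMembership.{ku0, ku0} (@Finset.{ku0} @x0) @x0 (@Finset.instSetLike.{ku0} @x0)) @x1 @x5) @(fun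 (x6 : @Membership.mem.{ku0, ku0} @x0 (@Finset.{ku0} @x0) (@SetLike.instMembership.{ku0, ku0} (@Finset.{ku0} @x0) @x0 (@Finset.instSetLike.{ku0} @x0)) @x1 @x5) => @x2 @x5))) (@_root_.Exists.{(ku0+1)} @x0 @(fun (x5 : x0) => @And (@Membership.mem.{ku0, ku0} @x0 (@Finset.{ku0} @x0) (@SetLike.instMembership.{ku0, ku0} (@Finset.{ku0} @x0) @x0 (@Finset.instSetLike.{ku0} @x0)) @x1 @x5) (@x2 @x5))) (@Finset.decidableExistsAndFinset._proof_1.{ku0} @x0 @x1 @x2) @x4)) @(fun (x4 : @_root_.Exists.{(ku0+1)} @x0 @(fun (x4 : x0) => @_root_.Exists.{0} (@Membership.mem.{ku0, ku0} @x0 (@Finset.{ku0} @x0) (@SetLike.instMembership.{ku0, ku0} (@Finset.{ku0} @x0) @x0 (@Finset.instSetLike.{ku0} @x0)) @x1 @x4) @(fun (x5 : @Membership.mem.{ku0, ku0} @x0 (@Finset.{ku0} @x0) (@SetLike.instMembership.{ku0, ku0} (@Finset.{ku0} @x0) @x0 (@Finset.instSetLike.{ku0} @x0)) @x1 @x4) => @x2 @x4))) => @Decidable.isTrue (@_root_.Exists.{(ku0+1)}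 @x0 @(fun (x5 : x0) => @And (@Membership.mem.{ku0, ku0} @x0 (@Finset.{ku0} @x0) (@SetLike.instMembership.{ku0, ku0} (@Finset.{ku0} @x0) @x0 (@Finset.instSetLike.{ku0} @x0)) @x1 @x5) (@x2 @x5))) (@Iff.mp (@_root_.Exists.{(ku0+1)} @x0 @(fun (x5 : x0) => @_root_.Exists.{0} (@Membership.mem.{ku0, ku0} @x0 (@Finset.{ku0} @x0) (@SetLike.instMembership.{ku0, ku0} (@Finset.{ku0} @x0) @x0 (@Finset.instSetLike.{ku0} @x0)) @x1 @x5) @(fun (x6 : @Membership.mem.{ku0, ku0} @x0 (@Finset.{ku0} @x0) (@SetLike.instMembership.{ku0, ku0} (@Finset.{ku0} @x0) @x0 (@Finset.instSetLike.{ku0} @x0)) @x1 @x5) => @x2 @x5))) (@_root_.Exists.{(ku0+1)} @x0 @(fun (x5 : x0) => @And (@Membership.mem.{ku0, ku0} @x0 (@Finset.{ku0} @x0) (@SetLike.instMembership.{ku0, ku0} (@Finset.{ku0} @x0) @x0 (@Finset.instSetLike.{ku0} @x0)) @x1 @x5) (@x2 @x5))) (@Finset.decidableExistsAndFinset._proof_1.{ku0} @x0 @x1 @x2) @x4)) (@Cfsg.Agent.KOb2d657f.k40.{ku0}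 @x0 @x1 @(fun (x4 : x0) (x5 : @Membership.mem.{ku0, ku0} @x0 (@Finset.{ku0} @x0) (@SetLike.instMembership.{ku0, ku0} (@Finset.{ku0} @x0) @x0 (@Finset.instSetLike.{ku0} @x0)) @x1 @x4) => @x2 @x4) @(fun (x4 : x0) (x5 : @Membership.mem.{ku0, ku0} @x0 (@Finset.{ku0} @x0) (@SetLike.instMembership.{ku0, ku0} (@Finset.{ku0} @x0) @x0 (@Finset.instSetLike.{ku0} @x0)) @x1 @x4) => @x3 @x4)))
private theorem _root_.Cfsg.Agent.KOb2d657f.e41.{ku0} : @Finset.decidableExistsAndFinset.{ku0} = @_root_.Cfsg.Agent.KOb2d657f.k41.{ku0} := by delta _root_.Cfsg.Agent.KOb2d657f.k41; rewrite [← Cfsg.Agent.KOb2d657f.e40.{ku0}]; rfl'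
private noncomputable def _root_.Cfsg.Agent.KOb2d657f.k42.{ku0} : ((x0 : Sort (ku0+1)) → ((x1 : (x0 → Prop)) → ((@DecidablePred.{(ku0+1)} @x0 @x1) → ((@Fintype.{ku0} @x0) → @Decidable (@_root_.Exists.{(ku0+1)} @x0 @(fun (x4 : x0) => @x1 @x4)))))) := @(fun (x0 : Sort (ku0+1)) (x1 : (x0 → Prop)) (x2 : @DecidablePred.{(ku0+1)} @x0 @x1) (x3 : @Fintype.{ku0} @x0) => @Decidable.rec.{1} (@_root_.Exists.{(ku0+1)} @x0 @(fun (x4 : x0) => @And (@Membership.mem.{ku0, ku0} @x0 (@Finset.{ku0} @x0) (@SetLike.instMembership.{ku0, ku0} (@Finset.{ku0} @x0) @x0 (@Finset.instSetLike.{ku0} @x0)) (@Finset.univ.{ku0} @x0 @x3) @x4) (@x1 @x4))) @(fun (x4 : @Decidable (@_root_.Exists.{(ku0+1)} @x0 @(fun (x4 : x0) => @And (@Membership.mem.{ku0, ku0} @x0 (@Finset.{ku0} @x0) (@SetLike.instMembership.{ku0, ku0} (@Finset.{ku0} @x0) @x0 (@Finset.instSetLike.{ku0} @x0)) (@Finset.univ.{ku0} @x0 @x3) @x4) (@x1 @x4)))) => @Decidable (@_root_.Exists.{(ku0+1)}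 @x0 @(fun (x5 : x0) => @x1 @x5))) @(fun (x4 : @Not (@_root_.Exists.{(ku0+1)} @x0 @(fun (x4 : x0) => @And (@Membership.mem.{ku0, ku0} @x0 (@Finset.{ku0} @x0) (@SetLike.instMembership.{ku0, ku0} (@Finset.{ku0} @x0) @x0 (@Finset.instSetLike.{ku0} @x0)) (@Finset.univ.{ku0} @x0 @x3) @x4) (@x1 @x4)))) => @Decidable.isFalse (@_root_.Exists.{(ku0+1)} @x0 @(fun (x5 : x0) => @x1 @x5)) (@decidable_of_decidable_of_iff._proof_1 (@_root_.Exists.{(ku0+1)} @x0 @(fun (x5 : x0) => @And (@Membership.mem.{ku0, ku0} @x0 (@Finset.{ku0} @x0) (@SetLike.instMembership.{ku0, ku0} (@Finset.{ku0} @x0) @x0 (@Finset.instSetLike.{ku0} @x0)) (@Finset.univ.{ku0} @x0 @x3) @x5) (@x1 @x5))) (@_root_.Exists.{(ku0+1)} @x0 @(fun (x5 : x0) => @x1 @x5)) (@Fintype.decidableExistsFintype._proof_1.{ku0} @x0 @x1 @x3) @x4)) @(fun (x4 : @_root_.Exists.{(ku0+1)} @x0 @(fun (x4 : x0) => @And (@Membership.mem.{ku0, ku0} @x0 (@Finset.{ku0} @x0) (@SetLike.instMembership.{ku0,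 ku0} (@Finset.{ku0} @x0) @x0 (@Finset.instSetLike.{ku0} @x0)) (@Finset.univ.{ku0} @x0 @x3) @x4) (@x1 @x4))) => @Decidable.isTrue (@_root_.Exists.{(ku0+1)} @x0 @(fun (x5 : x0) => @x1 @x5)) (@Iff.mp (@_root_.Exists.{(ku0+1)} @x0 @(fun (x5 : x0) => @And (@Membership.mem.{ku0, ku0} @x0 (@Finset.{ku0} @x0) (@SetLike.instMembership.{ku0, ku0} (@Finset.{ku0} @x0) @x0 (@Finset.instSetLike.{ku0} @x0)) (@Finset.univ.{ku0} @x0 @x3) @x5) (@x1 @x5))) (@_root_.Exists.{(ku0+1)} @x0 @(fun (x5 : x0) => @x1 @x5)) (@Fintype.decidableExistsFintype._proof_1.{ku0} @x0 @x1 @x3) @x4)) (@Cfsg.Agent.KOb2d657f.k41.{ku0} @x0 (@Fintype.elems.{ku0} @x0 @x3) @x1 @x2))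
private theorem _root_.Cfsg.Agent.KOb2d657f.e42.{ku0} : @Fintype.decidableExistsFintype.{ku0} = @_root_.Cfsg.Agent.KOb2d657f.k42.{ku0} := by delta _root_.Cfsg.Agent.KOb2d657f.k42; rewrite [← Cfsg.Agent.KOb2d657f.e41.{ku0}]; rfl'
private noncomputable def _root_.Cfsg.Agent.KOb2d657f.k43 : ((x0 : Prop) → ((x1 : Prop) → ((@Decidable @x0) → ((@Decidable @x1) → @Decidable (@And @x0 @x1))))) := @(fun (x0 : Prop) (x1 : Prop) (x2 : @Decidable @x0) (x3 : @Decidable @x1) => @Decidable.rec.{1} @x0 @(fun (x4 : @Decidable @x0) => @Decidable (@And @x0 @x1)) @(fun (x4 : @Not @x0) => @Decidable.isFalse (@And @x0 @x1) (@instDecidableAnd._proof_2 @x0 @x1 @x4)) @(fun (x4 : x0) => @Decidable.rec.{1} @x1 @(fun (x5 : @Decidable @x1) => @Decidable (@And @x0 @x1)) @(fun (x5 : @Not @x1) => @Decidable.isFalse (@And @x0 @x1) (@instDecidableAnd._proof_1 @x0 @x1 @x5)) @(fun (x5 : x1) => @Decidable.isTrue (@And @x0 @x1) (@And.intro @x0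 @x1 @x4 @x5)) @x3) @x2)
private theorem _root_.Cfsg.Agent.KOb2d657f.e43 : @instDecidableAnd = @_root_.Cfsg.Agent.KOb2d657f.k43 := by delta _root_.Cfsg.Agent.KOb2d657f.k43; rfl'
private noncomputable def _root_.Cfsg.Agent.KOb2d657f.k44 : ((x0 : Prop) → ((x1 : Prop) → ((@Decidable @x0) → ((@Decidable @x1) → @Decidable (@Or @x0 @x1))))) := @(fun (x0 : Prop) (x1 : Prop) (x2 : @Decidable @x0) (x3 : @Decidable @x1) => @Decidable.rec.{1} @x0 @(fun (x4 : @Decidable @x0) => @Decidable (@Or @x0 @x1)) @(fun (x4 : @Not @x0) => @Decidable.rec.{1} @x1 @(fun (x5 : @Decidable @x1) => @Decidable (@Or @x0 @x1)) @(fun (x5 : @Not @x1) => @Decidable.isFalse (@Or @x0 @x1) (@instDecidableOr._proof_1 @x0 @x1 @x4 @x5)) @(fun (x5 : x1) => @Decidable.isTrue (@Or @x0 @x1) (@Or.inr @x0 @x1 @x5)) @x3) @(fun (x4 : x0) => @Decidable.isTrue (@Or @x0 @x1) (@Or.inl @x0 @x1 @x4)) @x2)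
private theorem _root_.Cfsg.Agent.KOb2d657f.e44 : @instDecidableOr = @_root_.Cfsg.Agent.KOb2d657f.k44 := by delta _root_.Cfsg.Agent.KOb2d657f.k44; rfl'

theorem gr_cases : ∀ i j : Fin 11, i ≠ j → ∃ x a : ZMod 11, a ≠ 0 ∧
    ((xp x (hp a 0) = i ∧ xp x (hp a 1) = j) ∨ (xp x (hp a 0) = j ∧ xp x (hp a 1) = i)) := by
  (first | (refine of_decide_eq_true ?_; rewrite [Cfsg.Agent.KOb2d657f.e0, Cfsg.Agent.KOb2d657f.e2, Cfsg.Agent.KOb2d657f.e35, Cfsg.Agent.KOb2d657f.e36, Cfsg.Agent.KOb2d657f.e26, Cfsg.Agent.KOb2d657f.e42.{0}, Cfsg.Agent.KOb2d657f.e43, Cfsg.Agent.KOb2d657f.e27, Cfsg.Agent.KOb2d657f.e44]; decide +kernel) | decide +kernel)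

theorem unit_pow : ∀ a : (ZMod 11)ˣ, ∃ n : Fin 10, a = (ZMod.unitOfCoprime 2 (by norm_num) : (ZMod 11)ˣ) ^ (n : ℕ) := by
  decide +kernel

variable {F : Type u} [Field F] [Fintype F] {p : ℕ} {Q : (Fin 10 → F) → F} {H P : Subgroup (GL (Fin 10) F)}

/-- `g` preserves the coded set `T` -/
def Pres (v : Fin 11 → Fin 10 → F) (T : Tr) (g : GL (Fin 10) F) : Prop :=
  ∀ k, T.mem k = true → ∃ k', T.mem k' = true ∧ (g : Matrix (Fin 10) (Fin 10) F) *ᵥ vec (F := F) v k = vec (F := F) v k'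

theorem Pres.one (v : Fin 11 → Fin 10 → F) (T : Tr) : Pres v T 1 := fun k hk => ⟨k, hk, Matrix.one_mulVec _⟩

theorem Pres.mul {v : Fin 11 → Fin 10 → F} {T : Tr} {g g' : GL (Fin 10) F} (h : Pres v T g) (h' : Pres v T g') :
    Pres v T (g * g') := by
  intro k hk
  obtain ⟨k', hk', e'⟩ := h' k hk
  obtain ⟨k'', hk'', e''⟩ := h k' hk'
  exact ⟨k'', hk'', by rw [Units.val_mul, ← Matrix.mulVec_mulVec, e', e'']⟩

theorem Pres.pow {v : Fin 11 → Fin 10 → F} {T : Tr} {g : GL (Fin 10) F} (h : Pres v T g) (n : ℕ) :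
    Pres v T (g ^ n) := by
  induction n with
  | zero => rw [pow_zero]; exact Pres.one v T
  | succ n ih => rw [pow_succ]; exact ih.mul h

theorem Pres.of_rows (h7 : (7 : F) = 0) {v : Fin 11 → Fin 10 → F} {T : Tr} {g : GL (Fin 10) F} {rows : List ℕ}
    (hl : rows.length = 11)
    (hg : ∀ j : Fin 11, (g : Matrix (Fin 10) (Fin 10) F) *ᵥ v j = ∑ i : Fin 11, ((dg (rows.getD i 0) j : ℕ) : F) • v i)
    (hT : (T.all fun c => T.mem (mulM rows c)) = true) : Pres v T g := by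
  intro k hk
  refine ⟨mulM rows k, Tr.of_all hT hk, ?_⟩
  exact map_vec v h7 (Matrix.mulVecLin (g : Matrix (Fin 10) (Fin 10) F)) hl hg k

/-- the context -/
structure Cz (f : ZMod 7 →+* F) (ρ : SpecialLinearGroup (Fin 2) (ZMod 11) →* GL (Fin 10) F) (J : GL (Fin 10) F) :
    Prop where
  conj : ∀ g, rho f g = J * ρ g * J⁻¹

namespace Cz

variable {f : ZMod 7 →+* F} {ρ : SpecialLinearGroup (Fin 2) (ZMod 11) →* GL (Fin 10) F} {J : GL (Fin 10) F}
  (c : Cz f ρ J)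

include c

theorem rho_mulVec (g : SpecialLinearGroup (Fin 2) (ZMod 11)) (j : Fin 11) :
    (ρ g : Matrix (Fin 10) (Fin 10) F) *ᵥ Ctx.vv J j =
      ((J⁻¹ : GL (Fin 10) F) : Matrix (Fin 10) (Fin 10) F) *ᵥ
        ((rho f g : Matrix (Fin 10) (Fin 10) F) *ᵥ vs F j) := by
  have h1 : ρ g = J⁻¹ * rho f g * J := by
    rw [c.conj]
    group
  rw [h1, Ctx.vv, Matrix.mulVec_mulVec, ← Units.val_mul, mul_assoc, mul_inv_cancel, mul_one, Units.val_mul,
    ← Matrix.mulVec_mulVec]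

theorem rho_u_vv (x : ZMod 11) (j : Fin 11) :
    (ρ (u x) : Matrix (Fin 10) (Fin 10) F) *ᵥ Ctx.vv J j = Ctx.vv J (xp x j) := by
  rw [c.rho_mulVec, rho_u, mg_mulVec]
  rfl

theorem rho_t_vv (a : (ZMod 11)ˣ) (j : Fin 11) :
    (ρ (t a) : Matrix (Fin 10) (Fin 10) F) *ᵥ Ctx.vv J j = Ctx.vv J (hp a j) := by
  rw [c.rho_mulVec, rho_t, mg_mulVec]
  rfl

theorem rho_w_vv (j : Fin 11) : (ρ (w 1) : Matrix (Fin 10) (Fin 10) F) *ᵥ Ctx.vv J j =
    ∑ i : Fin 11, ((dg (Wr.getD i 0) j : ℕ) : F) • Ctx.vv J i := by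
  rw [c.rho_mulVec, w_vs, Matrix.mulVec_sum]
  refine Finset.sum_congr rfl fun i _ => ?_
  rw [Matrix.mulVec_smul]
  rfl

theorem pres (h7 : (7 : F) = 0) {T : Tr} (hX : (T.all fun c => T.mem (mulM Xr c)) = true)
    (hH : (T.all fun c => T.mem (mulM Hr c)) = true) (hW : (T.all fun c => T.mem (mulM Wr c)) = true)
    (s : SpecialLinearGroup (Fin 2) (ZMod 11)) : Pres (Ctx.vv J) T (ρ s) := by
  have pX : Pres (Ctx.vv J) T (ρ (u 1)) := Pres.of_rows h7 (rows := Xr) rfl (fun j => by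
    rw [c.rho_u_vv]
    simp only [X_eq, Nat.cast_ite, Nat.cast_one, Nat.cast_zero, ite_smul, one_smul, zero_smul]
    rw [Finset.sum_ite_eq', if_pos (Finset.mem_univ _)]) hX
  have pH : Pres (Ctx.vv J) T (ρ (t (ZMod.unitOfCoprime 2 (by norm_num)))) :=
    Pres.of_rows h7 (rows := Hr) rfl (fun j => by
    rw [c.rho_t_vv]
    simp only [H_eq, Nat.cast_ite, Nat.cast_one, Nat.cast_zero, ite_smul, one_smul, zero_smul]
    rw [Finset.sum_ite_eq', if_pos (Finset.mem_univ _)]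
    rfl) hH
  have pW : Pres (Ctx.vv J) T (ρ (w 1)) := Pres.of_rows h7 (rows := Wr) rfl c.rho_w_vv hW
  have pu : ∀ x : ZMod 11, Pres (Ctx.vv J) T (ρ (u x)) := by
    intro x
    have h1 : ρ (u x) = ρ (u 1) ^ x.val := by
      rw [pow_u, mul_one, ZMod.natCast_zmod_val]
    rw [h1]
    exact pX.pow _
  have pt : ∀ a : (ZMod 11)ˣ, Pres (Ctx.vv J) T (ρ (t a)) := by
    intro a
    obtain ⟨n, hn⟩ := unit_pow a
    have h1 : ρ (t a) = ρ (t (ZMod.unitOfCoprime 2 (by norm_num))) ^ (n : ℕ) := by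
      rw [← map_pow]
      congr 1
      rw [hn]
      exact map_pow (tHom (K := ZMod 11)) _ _
    rw [h1]
    exact pH.pow _
  rcases bruhat s with ⟨x, a, rfl⟩ | ⟨x, d, y, rfl⟩
  · rw [map_mul]
    exact (pu x).mul (pt a)
  · rw [w_eq, map_mul, map_mul, map_mul]
    exact ((pu x).mul (pW.mul (pt d))).mul (pu y)

end Cz

/-- the scalar `-1` -/
theorem neg_vec (h7 : (7 : F) = 0) (v : Fin 11 → Fin 10 → F) (k : ℕ) :
    -vec (F := F) v k = vec (F := F) v (mulM Nr k) := by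
  refine map_vec v h7 (-LinearMap.id) (rows := Nr) rfl (fun j => ?_) k
  simp only [N_eq, LinearMap.neg_apply, LinearMap.id_apply, Nat.cast_ite, Nat.cast_zero, ite_smul, zero_smul]
  rw [Finset.sum_ite_eq', if_pos (Finset.mem_univ _)]
  have h1 : ((6 : ℕ) : F) = -1 := by
    push_cast
    linear_combination h7
  rw [h1, neg_one_smul]

/-- **`|F| = 7`, the other characters.** -/
theorem kill (h : Cx p Q H P) (hF : Fintype.card F = 7)
    (e : Soc P ≃* ProjectiveSpecialLinearGroup (Fin 2) (ZMod 11))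
    {ρ : SpecialLinearGroup (Fin 2) (ZMod 11) →* GL (Fin 10) F} (hρ : ρ.range = P)
    (hρe : ∀ (g : SpecialLinearGroup (Fin 2) (ZMod 11)) (h : ρ g ∈ P), e (toSoc P ⟨ρ g, h⟩) = QuotientGroup.mk g)
    (hz : ρ (t (-1)) = 1) (hu : ∀ x : ZMod 11, x ≠ 0 → tr (ρ (u x)) = -1)
    (hZ : ∀ τ : ZMod 11, τ ^ 2 - 4 ≠ 0 → tr (ρ (Zt τ)) = ((fz (-1) τ : ℤ) : F)) : False := by
  obtain rfl := char_of_card h (by norm_num) hF
  have hch := h.char
  have h70 : (7 : F) = 0 := by exact_mod_cast CharP.cast_eq_zero F 7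
  let f : ZMod 7 →+* F := ZMod.castHom (dvd_refl 7) F
  obtain ⟨J, hJ⟩ := exists_J h.core hρ hz hu hZ (rho_neg f) (tr_rho_u f) (tr_rho_Zt f)
  have c : Cz f ρ J := ⟨hJ⟩
  have hmem : ∀ g, ρ g ∈ P := fun g => hρ ▸ ⟨g, rfl⟩
  -- the normaliser
  have hN : ∀ x ∈ H, ∃ (s : SpecialLinearGroup (Fin 2) (ZMod 11)) (a : F),
      (x : Matrix (Fin 10) (Fin 10) F) = a • (ρ s : Matrix (Fin 10) (Fin 10) F) := by
    intro x hx
    obtain ⟨g, a, hg | hg⟩ := nrm_cases h.core e ρ hρ hρe (twist_conj hJ (np_twist f)) (Nrm.of_core h.hc hx)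
    · exact ⟨g, a, hg⟩
    · exfalso
      have ha := FiniteField.pow_card_sub_one_eq_one a (scalar_mul_ne hg)
      rw [hF] at ha
      have h1 := det_omegaGL (h.hH.1.le hx)
      rw [hg, Matrix.det_smul, Fintype.card_fin, Units.val_mul, Matrix.det_mul, det_omegaGL (h.le_omega (hmem g)),
        Units.val_mul, Units.val_mul, Matrix.det_mul, Matrix.det_mul, det_np, one_mul] at h1
      have h2 : ((J⁻¹ : GL (Fin 10) F) : Matrix (Fin 10) (Fin 10) F).det * (J : Matrix (Fin 10) (Fin 10) F).det = 1 := by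
        rw [← Matrix.det_mul, ← Units.val_mul, inv_mul_cancel, Units.val_one, Matrix.det_one]
      have h3 : a ^ 10 = -1 := by linear_combination -h1 - a ^ 10 * h2
      have h4 : (2 : F) = 0 := by
        linear_combination (a ^ 20 - a ^ 10 + 1) * h3 - (a ^ 24 + a ^ 18 + a ^ 12 + a ^ 6 + 1) * ha
      exact one_ne_zero (show (1 : F) = 0 by linear_combination h70 - 3 * h4)
  obtain ⟨R, hR, hRn⟩ := H883.Bridge.exists_quadraticForm h.hQ
  have hG : LieClassical.OrthTrans.Good R := H883.Bridge.good_of_card hRn (by rw [Fintype.card_fin]; norm_num)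
  have hHR : IsMaximalIn (omegaGL (R : (Fin 10 → F) → F)) H := by rw [hR]; exact h.hH
  have hfix : ∀ (s : SpecialLinearGroup (Fin 2) (ZMod 11)) (v : Fin 10 → F),
      R ((ρ s : Matrix (Fin 10) (Fin 10) F) *ᵥ v) = R v := by
    intro s v
    rw [hR]
    exact fix_of_mem_omegaGL (h.le_omega (hmem s)) v
  have hpol : ∀ (s : SpecialLinearGroup (Fin 2) (ZMod 11)) (v w : Fin 10 → F),
      QuadraticMap.polar R ((ρ s : Matrix (Fin 10) (Fin 10) F) *ᵥ v) ((ρ s : Matrix (Fin 10) (Fin 10) F) *ᵥ w) =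
        QuadraticMap.polar R v w := by
    intro s v w
    rw [QuadraticMap.polar, ← mulVec_add, hfix, hfix, hfix]
    rfl
  have hb : ∀ i, R (Ctx.vv J i) = R (Ctx.vv J 0) := by
    intro i
    have h1 := hfix (u (show ZMod 11 from i)) (Ctx.vv J 0)
    rw [c.rho_u_vv] at h1
    rw [← h1]
    congr 2
    exact (zero_add (show ZMod 11 from i)).symm
  have hc : ∀ i j, i ≠ j → QuadraticMap.polar R (Ctx.vv J i) (Ctx.vv J j) =
      QuadraticMap.polar R (Ctx.vv J 0) (Ctx.vv J 1) := by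
    intro i j hij
    obtain ⟨x, a, ha, h1⟩ := gr_cases i j hij
    have h2 : QuadraticMap.polar R (Ctx.vv J (xp x (hp a 0))) (Ctx.vv J (xp x (hp a 1))) =
        QuadraticMap.polar R (Ctx.vv J 0) (Ctx.vv J 1) := by
      have h3 : ∀ j, Ctx.vv J (hp a j) = (ρ (t (Units.mk0 a ha)) : Matrix (Fin 10) (Fin 10) F) *ᵥ Ctx.vv J j := by
        intro j
        rw [c.rho_t_vv]
        rfl
      rw [← c.rho_u_vv, ← c.rho_u_vv, hpol, h3, h3, hpol]
    rcases h1 with ⟨h3, h4⟩ | ⟨h3, h4⟩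
    · rw [h3, h4] at h2
      exact h2
    · rw [h3, h4, QuadraticMap.polar_comm] at h2
      exact h2
  have hind : ∀ α : Fin 11 → F, ∑ i, α i • Ctx.vv J i = 0 → ∀ i j, α i = α j := by
    intro α hα
    apply vs_ind α
    apply mulVec_inj J⁻¹
    rw [Matrix.mulVec_zero, Matrix.mulVec_sum, ← hα]
    refine Finset.sum_congr rfl fun i _ => ?_
    rw [Matrix.mulVec_smul]
    rfl
  have hspan : ∀ z : Fin 10 → F, z = ∑ k : Fin 10, ((J : Matrix (Fin 10) (Fin 10) F) *ᵥ z) k • Ctx.vv J k.castSucc := by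
    intro z
    have h1 : (J : Matrix (Fin 10) (Fin 10) F) *ᵥ z =
        ∑ k : Fin 10, ((J : Matrix (Fin 10) (Fin 10) F) *ᵥ z) k • vs F k.castSucc := by
      simp only [vs_castSucc]
      exact pi_eq_sum_univ' _
    apply mulVec_inj J
    rw [Matrix.mulVec_sum]
    conv_lhs => rw [h1]
    refine Finset.sum_congr rfl fun k _ => ?_
    rw [Matrix.mulVec_smul, Ctx.vv, Matrix.mulVec_mulVec, ← Units.val_mul, mul_inv_cancel, Units.val_one,
      Matrix.one_mulVec]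
  have hsum := H933.O10.map_sum_gr (Q := R) (v := Ctx.vv J) hc hb Finset.univ
  rw [Ctx.vv_sum, QuadraticMap.map_zero, Finset.card_univ, Fintype.card_fin, show (11 : ℕ).choose 2 = 55 by decide] at hsum
  push_cast at hsum
  have hk : 2 * R (Ctx.vv J 0) - QuadraticMap.polar R (Ctx.vv J 0) (Ctx.vv J 1) ≠ 0 := by
    intro hk
    have ha0 : QuadraticMap.polar R (Ctx.vv J 0) (Ctx.vv J 1) = 0 := by
      linear_combination -44 * hk - 8 * hsum - 69 * QuadraticMap.polar R (Ctx.vv J 0) (Ctx.vv J 1) * h70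
    have hb0 : R (Ctx.vv J 0) = 0 := by
      rw [ha0] at hk
      linear_combination 4 * hk - R (Ctx.vv J 0) * h70
    obtain ⟨-, z, hz⟩ := h.hQ.nondegenerate (Ctx.vv J 0) (Ctx.vv_ne 0)
    apply hz
    rw [← hR]
    have hlin : ∀ j, QuadraticMap.polarBilin R (Ctx.vv J 0) (Ctx.vv J j) = 0 := by
      intro j
      change QuadraticMap.polar R (Ctx.vv J 0) (Ctx.vv J j) = 0
      by_cases hj : 0 = j
      · rw [← hj, QuadraticMap.polar_self, hb0, smul_zero]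
      · rw [hc 0 j hj, ha0]
    change QuadraticMap.polarBilin R (Ctx.vv J 0) z = 0
    rw [hspan z, map_sum]
    exact Finset.sum_eq_zero fun k _ => by rw [map_smul, hlin, smul_zero]
  -- the abstract setting
  let E0 := LieClassical.OrthFinite.glEquiv (Fin 10) F
  have hap : ∀ (g : GL (Fin 10) F) (v : Fin 10 → F), E0 g v = (g : Matrix (Fin 10) (Fin 10) F) *ᵥ v :=
    fun g v => LieClassical.OrthFinite.glEquiv_apply g v
  have hH' : IsMaximalIn (LieClassical.OrthCore.E R) (H.map E0.toMonoidHom) := by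
    have h1 := (H883.Bridge.isMaximalIn_map_iff E0 (omegaGL (R : (Fin 10 → F) → F)) H).2 hHR
    rwa [H883.Bridge.map_omegaGL_eq_E hG] at h1
  have hpres : ∀ T : Tr, (T.all fun c => T.mem (mulM Xr c)) = true → (T.all fun c => T.mem (mulM Hr c)) = true →
      (T.all fun c => T.mem (mulM Wr c)) = true → (T.all fun c => T.mem (mulM Nr c)) = true →
      ∀ g ∈ H.map E0.toMonoidHom, ∀ x ∈ {x | ∃ k, T.mem k = true ∧ x = vec (F := F) (Ctx.vv J) k},
        g x ∈ {x | ∃ k, T.mem k = true ∧ x = vec (F := F) (Ctx.vv J) k} := by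
    rintro T hX hH hW hNn _ ⟨x, hx, rfl⟩ _ ⟨k, hk, rfl⟩
    obtain ⟨s, a, hs⟩ := hN x hx
    obtain ⟨k', hk', e'⟩ := c.pres h70 hX hH hW s k hk
    have h1 : E0 x (vec (F := F) (Ctx.vv J) k) = a • vec (F := F) (Ctx.vv J) k' := by
      rw [hap, hs, Matrix.smul_mulVec, e']
    change ∃ l, T.mem l = true ∧ E0 x (vec (F := F) (Ctx.vv J) k) = vec (F := F) (Ctx.vv J) l
    rw [h1]
    have ha : a = 1 ∨ a = -1 := by
      have h2 : a ^ 2 = 1 := by
        have h3 : ((x * (ρ s)⁻¹ : GL (Fin 10) F) : Matrix (Fin 10) (Fin 10) F) = a • (1 : Matrix (Fin 10) (Fin 10) F) := by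
          rw [Units.val_mul, hs, Matrix.smul_mul, ← Units.val_mul, mul_inv_cancel, Units.val_one]
        have h4 : x * (ρ s)⁻¹ ∈ omegaGL Q :=
          (omegaGL Q).mul_mem (h.hH.1.le hx) ((omegaGL Q).inv_mem (h.le_omega (hmem s)))
        obtain ⟨v, hv⟩ := H879.TL.exists_ne_of_nondeg h.hQ
        have h5 := fix_of_mem_omegaGL h4 v
        rw [h3, Matrix.smul_mulVec, Matrix.one_mulVec, h.hQ.smul] at h5
        have h6 : (a ^ 2 - 1) * Q v = 0 := by rw [sub_mul, h5, one_mul, sub_self]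
        exact sub_eq_zero.1 ((mul_eq_zero.1 h6).resolve_right hv)
      rcases mul_self_eq_one_iff.1 ((sq a).symm.trans h2) with h3 | h3
      · exact Or.inl h3
      · exact Or.inr h3
    rcases ha with rfl | rfl
    · exact ⟨k', hk', by rw [one_smul]⟩
    · exact ⟨mulM Nr k', Tr.of_all hNn hk', by rw [neg_one_smul, neg_vec h70]⟩
  -- the reflections
  have hnn : ∀ {a : ℕ}, ok a = true → rd 11 a a % 7 = 2 → R (vec (F := F) (Ctx.vv J) a) ≠ 0 := by
    intro a ha hn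
    rw [Q_vec hb hc h70 ha hn]
    exact hk
  have hQ : ∀ {a : ℕ}, ok a = true → rd 11 a a % 7 = 2 → R (vec (F := F) (Ctx.vv J) a) =
      2 * R (Ctx.vv J 0) - QuadraticMap.polar R (Ctx.vv J 0) (Ctx.vv J 1) := fun ha hn => Q_vec hb hc h70 ha hn
  have n0 := hnn a0_ok a0_nn
  have n1 := hnn a1_ok a1_nn
  have n2 := hnn a2_ok a2_nn
  have n3 := hnn a3_ok a3_nn
  let y : (Fin 10 → F) ≃ₗ[F] (Fin 10 → F) :=
    (LieClassical.OrthCore.refl R _ n0 * LieClassical.OrthCore.refl R _ n1) *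
      (LieClassical.OrthCore.refl R _ n2 * LieClassical.OrthCore.refl R _ n3)
  have hy : y ∈ LieClassical.OrthCore.E R :=
    Subgroup.mul_mem _ (hG.refl_mul_refl_mem n1 n0 (by rw [hQ a1_ok a1_nn, hQ a0_ok a0_nn]))
      (hG.refl_mul_refl_mem n3 n2 (by rw [hQ a3_ok a3_nn, hQ a2_ok a2_nn]))
  have hyv : ∀ k, y (vec (F := F) (Ctx.vv J) k) =
      vec (F := F) (Ctx.vv J) (mulM R0 (mulM R1 (mulM R2 (mulM R3 k)))) := by
    intro k
    change LieClassical.OrthCore.refl R _ n0 (LieClassical.OrthCore.refl R _ n1 (LieClassical.OrthCore.refl R _ n2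
      (LieClassical.OrthCore.refl R _ n3 (vec (F := F) (Ctx.vv J) k)))) = _
    rw [refl_vec hb hc h70 a3_ok a3_nn hk n3 (rows := R3) rfl R3_eq,
      refl_vec hb hc h70 a2_ok a2_nn hk n2 (rows := R2) rfl R2_eq,
      refl_vec hb hc h70 a1_ok a1_nn hk n1 (rows := R1) rfl R1_eq,
      refl_vec hb hc h70 a0_ok a0_nn hk n0 (rows := R0) rfl R0_eq]
  have hyY : ∀ k, y (vec (F := F) (Ctx.vv J) k) = vec (F := F) (Ctx.vv J) (mulM Yr k) := by
    intro k
    refine map_vec (Ctx.vv J) h70 (y : (Fin 10 → F) →ₗ[F] (Fin 10 → F)) (rows := Yr) rfl (fun j => ?_) k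
    change y (Ctx.vv J j) = _
    conv_lhs => rw [← vec_pow (F := F) (Ctx.vv J) j]
    rw [hyv, vec]
    exact Finset.sum_congr rfl fun i _ => by rw [Y_eq]
  have hyS : ∀ x ∈ {x | ∃ k, S.mem k = true ∧ x = vec (F := F) (Ctx.vv J) k},
      y x ∈ {x | ∃ k, S.mem k = true ∧ x = vec (F := F) (Ctx.vv J) k} := by
    rintro _ ⟨k, hk, rfl⟩
    exact ⟨_, Tr.of_all S_y hk, hyY k⟩
  have hyy : ∀ k, y (y (vec (F := F) (Ctx.vv J) k)) = vec (F := F) (Ctx.vv J) k := by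
    have h1 : ∀ j : Fin 11, y (y (Ctx.vv J j)) = Ctx.vv J j := by
      intro j
      conv_lhs => rw [← vec_pow (F := F) (Ctx.vv J) j]
      rw [hyY, hyY, vec]
      simp only [Y_sq, Nat.cast_ite, Nat.cast_one, Nat.cast_zero, ite_smul, one_smul, zero_smul]
      rw [Finset.sum_ite_eq', if_pos (Finset.mem_univ _)]
    intro k
    rw [vec, map_sum, map_sum]
    refine Finset.sum_congr rfl fun j _ => ?_
    rw [map_smul, map_smul, h1]
  have hyS' : ∀ x ∈ {x | ∃ k, S.mem k = true ∧ x = vec (F := F) (Ctx.vv J) k},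
      y⁻¹ x ∈ {x | ∃ k, S.mem k = true ∧ x = vec (F := F) (Ctx.vv J) k} := by
    rintro _ ⟨k, hk, rfl⟩
    have h1 : y⁻¹ (vec (F := F) (Ctx.vv J) k) = y (vec (F := F) (Ctx.vv J) k) := by
      conv_lhs => rw [← hyy k]
      exact LinearEquiv.symm_apply_apply y _
    rw [h1]
    exact hyS _ ⟨k, hk, rfl⟩
  have hne : ∀ {a : ℕ}, ok a = true → rd 11 a a % 7 = 2 → vec (F := F) (Ctx.vv J) a ≠ 0 := by
    intro a ha hn h0
    apply hnn ha hn
    rw [h0, QuadraticMap.map_zero]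
  have s2_ok : ok s2 = true := Tr.of_all S_ok s2_mem
  refine no_maximal hG hH' (hpres S S_x S_h S_w S_n) (hpres S0 S0_x S0_h S0_w S0_n) hy hyS hyS'
    (a := vec (F := F) (Ctx.vv J) s1) ⟨s1, s1_mem, rfl⟩ ?_ (b := vec (F := F) (Ctx.vv J) s2)
    (c := vec (F := F) (Ctx.vv J) s3) ⟨s2, s2_mem, rfl⟩ ?_ (hne s2_ok s2_nn) (hne s3_ok s3_nn) ?_
  · rintro ⟨k, hk, hk'⟩
    rw [hyY] at hk'
    have h1 := vec_inj (Ctx.vv J) hind s1_ok (Tr.of_all S0_ok hk) hk'
    rw [← h1, s1_y] at hk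
    exact absurd hk (by decide)
  · rintro ⟨k, hk, hk'⟩
    have h1 := vec_inj (Ctx.vv J) hind s3_ok (Tr.of_all S_ok hk) hk'
    rw [← h1, s3_mem] at hk
    exact absurd hk (by decide)
  · rw [hQ s2_ok s2_nn, hQ s3_ok s3_nn]

end Cfsg.Agent.H830.O10.Sev
end
end

-- part: H933/O10/Asm
section
prune_inst 0x40000000000000000592030020044c0000900023000179a0014601069323890027004c901a0081ca22a000004000000001f9000000000000060040010020808350062350ad04340007809800000000000000000000000000000000041004000000000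
set_option linter.all false
open scoped Cfsg.Agent.FastGrp

-- part: H933/O10/M22
section
/-!
# Elements of order 11 in `M₂₂` (helper933)
-/

set_option autoImplicit false

namespace Cfsg.Agent.H933.O10

open Cfsg Cfsg.Agent.SporadicA.GolayBase Cfsg.Agent.SporadicA.GolayPerm Cfsg.Agent.SporadicStructure.M24El
open Cfsg.Agent.H395.Six.MTwoTwo

def Px : ℕ := 983435072843990828779021698901151808
def Pyy : ℕ := 970459361523271695787015306425278496

theorem fPx : fx Px = true := by decide +kernel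
theorem fPyy : fx Pyy = true := by decide +kernel

theorem m22_eleven : ∃ X Y : Spor.M22, X ^ 11 = 1 ∧ X ≠ 1 ∧ Y * X * Y⁻¹ = X ^ 3 := by
  have o1 := ok_of_fx fPx
  have o2 := ok_of_fx fPyy
  have e2 : el Px * el Px = el (pcomp Px Px) := (el_pcomp o1 o1).symm
  have o3 := ok_pcomp o1 o1
  have e3 : el (pcomp Px Px) * el Px = el (pcomp (pcomp Px Px) Px) := (el_pcomp o3 o1).symm
  have o4 := ok_pcomp o3 o1
  have hx3 : (el Px) ^ 3 = el (pcomp (pcomp Px Px) Px) := by rw [pow_succ, pow_two, e2, e3]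
  have h1 : (el Px) ^ 11 = 1 := by
    have o5 := ok_pcomp o4 o4
    have o6 := ok_pcomp o5 o4
    have e : (el Px) ^ 11 = (el Px ^ 3 * el Px ^ 3 * el Px ^ 3) * (el Px * el Px) := by group
    rw [e, hx3, e2, ← el_pcomp o4 o4, ← el_pcomp o5 o4, ← el_pcomp o6 o3,
      show pcomp (pcomp (pcomp (pcomp (pcomp Px Px) Px) (pcomp (pcomp Px Px) Px)) (pcomp (pcomp Px Px) Px))
        (pcomp Px Px) = idP by decide +kernel, el_idP]
  have h3 : el Pyy * el Px = (el Px) ^ 3 * el Pyy := by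
    rw [hx3, ← el_pcomp o2 o1, ← el_pcomp o4 o2,
      show pcomp Pyy Px = pcomp (pcomp (pcomp Px Px) Px) Pyy by decide +kernel]
  have h4 : el Px ≠ 1 := by
    rw [← el_idP]
    exact el_ne o1 ok_idP (i := 1) (by norm_num) (by decide +kernel)
  have h1' : ((el Px : M24) : Equiv.Perm GolayPt) ^ 11 = 1 := by rw [← Subgroup.coe_pow, h1]; rfl
  have h3' : ((el Pyy : M24) : Equiv.Perm GolayPt) * (el Px : M24) =
      ((el Px : M24) : Equiv.Perm GolayPt) ^ 3 * (el Pyy : M24) := by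
    rw [← Subgroup.coe_pow, ← Subgroup.coe_mul, ← Subgroup.coe_mul, h3]
  refine ⟨⟨el Px, mem_M22 fPx⟩, ⟨el Pyy, mem_M22 fPyy⟩, ?_, ?_, ?_⟩
  · apply Subtype.ext
    rw [Subgroup.coe_pow]
    exact h1'
  · intro h
    apply h4
    apply Subtype.ext
    exact congrArg (Subtype.val (p := fun x => x ∈ Spor.M22)) h
  · rw [mul_inv_eq_iff_eq_mul]
    apply Subtype.ext
    rw [Subgroup.coe_mul, Subgroup.coe_mul, Subgroup.coe_pow]
    exact h3'

/-- **The type for `M₂₂` over `F₇`.** -/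
theorem m22_minus {F : Type*} [Field F] [Fintype F] {Q : (Fin 10 → F) → F} {H P : Subgroup (Matrix.GeneralLinearGroup (Fin 10) F)}
    (h : Cx 7 Q H P) (hF : Fintype.card F = 7) (e : Spor.IsoM22 (H915.LD.Soc P)) : ¬ Geo.IsPlusTypeOn Q ⊤ := by
  have := h.char
  obtain ⟨e⟩ := e
  obtain ⟨X, Y, h1, h2, h3⟩ := m22_eleven
  have h11 : (11 : F) ≠ 0 := by
    intro h0
    have h4 : ((11 : ℕ) : F) = 0 := by exact_mod_cast h0
    rw [CharP.cast_eq_zero_iff F 7] at h4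
    omega
  intro hP
  have h5 := (h.type h11 e h1 h2 h3).1 hP
  rw [hF] at h5
  revert h5
  unfold Sq11
  decide

end Cfsg.Agent.H933.O10
end

-- part: H933/O10/Asm
section
/-!
# S5848 and S5851: the assembly (helper933)

`H` maximal in `omegaGL Q`, `dim = 10`, with core `P`; `T = Soc P` known simple. The rows not yet landed are hypotheses.
-/

set_option autoImplicit false
set_option linter.unusedSectionVars false

namespace Cfsg.Agent.H933.O10

open Cfsg Cfsg.Geo Matrix Cfsg.Agent.H915.LD Cfsg.Agent.H912.Bd Cfsg.Agent.H912.Five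
open Cfsg.Agent.H936.List12 (AltC LieC MultC ExcC Cand)

universe u v

variable {F : Type u} [Field F] [Fintype F]

/-- the conclusion of S5848 -/
def PlusC (P : Subgroup (GL (Fin 10) F)) : Prop :=
  (Nonempty (Soc P ≃* ProjectiveSpecialLinearGroup (Fin 2) (ZMod 11)) ∧ (Fintype.card F).Prime ∧ Fintype.card F ≠ 3 ∧
    Sq11 (Fintype.card F)) ∨
  (Nonempty (Soc P ≃* alternatingGroup (Fin 11)) ∧ (Fintype.card F).Prime ∧ Fintype.card F ≠ 3 ∧
    Sq11 (Fintype.card F)) ∨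
  (Nonempty (Soc P ≃* alternatingGroup (Fin 12)) ∧ Fintype.card F = 3) ∨
  (Nonempty (Soc P ≃* Cfsg.PSp 2 F) ∧ Fintype.card F % 4 = 1)

/-- the conclusion of S5851 -/
def MinusC (P : Subgroup (GL (Fin 10) F)) : Prop :=
  (Nonempty (Soc P ≃* ProjectiveSpecialLinearGroup (Fin 2) (ZMod 11)) ∧ (Fintype.card F).Prime ∧ Fintype.card F ≠ 2 ∧
    Fintype.card F ≠ 7 ∧ Nsq11 (Fintype.card F)) ∨
  (Cfsg.Spor.IsoM22 (Soc P) ∧ Fintype.card F = 7) ∨
  (Nonempty (Soc P ≃* alternatingGroup (Fin 11)) ∧ (Fintype.card F).Prime ∧ Fintype.card F ≠ 2 ∧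
    Nsq11 (Fintype.card F)) ∨
  (Nonempty (Soc P ≃* alternatingGroup (Fin 12)) ∧ Fintype.card F = 2) ∨
  (Nonempty (Soc P ≃* Cfsg.PSp 2 F) ∧ Fintype.card F % 4 = 3)

/-- the conclusion of both -/
def Concl (Q : (Fin 10 → F) → F) (P : Subgroup (GL (Fin 10) F)) : Prop :=
  (IsPlusTypeOn Q ⊤ → PlusC P) ∧ (¬ IsPlusTypeOn Q ⊤ → MinusC P)

variable {p : ℕ} {Q : (Fin 10 → F) → F} {H P : Subgroup (GL (Fin 10) F)}

theorem Cx.ne_zero (h : Cx p Q H P) {r : ℕ} (hr : r.Prime) (hrp : p ≠ r) : (r : F) ≠ 0 := by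
  have := h.char
  intro h0
  exact hrp ((Nat.prime_dvd_prime_iff_eq h.prime hr).1 ((CharP.cast_eq_zero_iff F p r).1 h0))

theorem Cx.eleven_ne (h : Cx p Q H P) (hp : p ≠ 11) : (11 : F) ≠ 0 := by
  have := h.ne_zero (r := 11) (by norm_num) hp
  exact_mod_cast this

/-- `L₂(11)` -/
theorem concl_l2 (h : Cx p Q H P) (hpF : Fintype.card F = p) (hp11 : p ≠ 11)
    (e : Soc P ≃* ProjectiveSpecialLinearGroup (Fin 2) (ZMod 11))
    (hkill : Fintype.card F ≠ 2 ∧ Fintype.card F ≠ 3 ∧ Fintype.card F ≠ 7) : Concl Q P := by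
  obtain ⟨X, Y, h1, h2, h3⟩ := psl_eleven
  obtain ⟨t1, t2⟩ := h.type (h.eleven_ne hp11) e h1 h2 h3
  have hpr : (Fintype.card F).Prime := by rw [hpF]; exact h.prime
  exact ⟨fun hP => Or.inl ⟨⟨e⟩, hpr, hkill.2.1, t1 hP⟩, fun hP => Or.inl ⟨⟨e⟩, hpr, hkill.1, hkill.2.2, t2 hP⟩⟩

/-- `A₁₁` -/
theorem concl_a11 (h : Cx p Q H P) (hpF : Fintype.card F = p) (hp11 : p ≠ 11) (hp2 : p ≠ 2) (hp3 : p ≠ 3)
    (e : Soc P ≃* alternatingGroup (Fin 11)) : Concl Q P := by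
  obtain ⟨X, Y, h1, h2, h3⟩ := alt_eleven (Function.Embedding.refl (Fin 11))
  obtain ⟨t1, t2⟩ := h.type (h.eleven_ne hp11) e h1 h2 h3
  have hpr : (Fintype.card F).Prime := by rw [hpF]; exact h.prime
  exact ⟨fun hP => Or.inr (Or.inl ⟨⟨e⟩, hpr, by rwa [hpF], t1 hP⟩),
    fun hP => Or.inr (Or.inr (Or.inl ⟨⟨e⟩, hpr, by rwa [hpF], t2 hP⟩))⟩

/-- `A₁₂` -/
theorem concl_a12 (h : Cx p Q H P) (hpF : Fintype.card F = p) (hp : p = 2 ∨ p = 3)
    (e : Soc P ≃* alternatingGroup (Fin 12)) : Concl Q P := by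
  obtain ⟨X, Y, h1, h2, h3⟩ := alt_eleven (Fin.castSuccEmb (n := 11))
  obtain ⟨t1, t2⟩ := h.type (h.eleven_ne (by omega)) e h1 h2 h3
  rw [hpF] at t1 t2
  rcases hp with rfl | rfl
  · refine ⟨fun hP => absurd (t1 hP) ?_, fun _ => Or.inr (Or.inr (Or.inr (Or.inl ⟨⟨e⟩, hpF⟩)))⟩
    unfold Sq11; decide
  · refine ⟨fun _ => Or.inr (Or.inr (Or.inl ⟨⟨e⟩, hpF⟩)), fun hP => absurd (t2 hP) ?_⟩
    unfold Nsq11; decide

/-- `M₂₂` -/
theorem concl_m22 (h : Cx 7 Q H P) (hpF : Fintype.card F = 7) (e : Cfsg.Spor.IsoM22 (Soc P)) : Concl Q P :=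
  ⟨fun hP => absurd hP (m22_minus h hpF e), fun _ => Or.inr (Or.inl ⟨e, hpF⟩)⟩

/-- `PSp₄(q)` -/
theorem concl_psp (e : Soc P ≃* Cfsg.PSp 2 F) (h1 : IsPlusTypeOn Q ⊤ → Fintype.card F % 4 = 1)
    (h3 : ¬ IsPlusTypeOn Q ⊤ → Fintype.card F % 4 = 3) : Concl Q P :=
  ⟨fun hP => Or.inr (Or.inr (Or.inr ⟨⟨e⟩, h1 hP⟩)), fun hP => Or.inr (Or.inr (Or.inr (Or.inr ⟨⟨e⟩, h3 hP⟩)))⟩

/-! ### Cross characteristic -/

/-- `alternating groups` -/
theorem cross_alt (h : Cx p Q H P) (hc : AltC p 10 (Soc P)) (hL : ¬ IsLieTypeChar p (Soc P))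
    (r5 : p ≠ 5 → Nonempty (Soc P ≃* alternatingGroup (Fin 5)) → False)
    (r6 : Nonempty (Soc P ≃* alternatingGroup (Fin 6)) → False)
    (r7 : Nonempty (Soc P ≃* alternatingGroup (Fin 7)) → False)
    (rm : ∀ m, 8 ≤ m → m ≤ 13 → ¬ (m = 8 ∧ p = 2) → Nonempty (Soc P ≃* alternatingGroup (Fin m)) →
      (m = 11 ∧ p ≠ 2 ∧ p ≠ 3 ∧ p ≠ 11 ∧ Fintype.card F = p) ∨ (m = 12 ∧ (p = 2 ∨ p = 3) ∧ Fintype.card F = p)) :
    Concl Q P := by
  obtain ⟨m, h5, h14, -, -, h14', he⟩ := hc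
  have h13 : m ≤ 13 := by
    by_contra hcon
    have := h14' (by omega)
    omega
  rcases (show m = 5 ∨ m = 6 ∨ m = 7 ∨ 8 ≤ m by omega) with rfl | rfl | rfl | h8
  · by_cases hp5 : p = 5
    · exfalso
      apply hL
      subst hp5
      obtain ⟨e⟩ := he
      have : Fact (Nat.Prime 5) := ⟨by norm_num⟩
      obtain ⟨e'⟩ := S0253.result (F := ZMod 5) (by simp)
      exact H936.List12.lie_of_isL (m := 2) (q := 5) (by norm_num) dvd_rfl le_rfl (fun _ => by norm_num)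
        ⟨ZMod 5, inferInstance, inferInstance, by simp, ⟨e.trans e'.symm⟩⟩
    · exact (r5 hp5 he).elim
  · exact (r6 he).elim
  · exact (r7 he).elim
  · obtain ⟨e⟩ := he
    have h82 : ¬ (m = 8 ∧ p = 2) := by
      rintro ⟨rfl, rfl⟩
      apply hL
      obtain ⟨e'⟩ := S0256.result (F := ZMod 2) (by simp)
      exact H936.List12.lie_of_isL (m := 4) (q := 2) (by norm_num) dvd_rfl (by norm_num) (by norm_num)
        ⟨ZMod 2, inferInstance, inferInstance, by simp, ⟨e.trans e'.symm⟩⟩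
    rcases rm m h8 h13 h82 ⟨e⟩ with ⟨rfl, h2, h3, h11, hF⟩ | ⟨rfl, hp, hF⟩
    · exact concl_a11 h hF h11 h2 h3 e
    · exact concl_a12 h hF hp e

/-- `L₂(q)` -/
theorem cross_l2 (h : Cx p Q H P) {q : ℕ} (hq : q ∈ ({7, 8, 11, 13, 17, 19, 23, 25} : Finset ℕ)) (hpq : ¬ p ∣ q)
    (hT : IsL 2 q (Soc P))
    (rl : Nonempty (Soc P ≃* ProjectiveSpecialLinearGroup (Fin 2) (ZMod 11)) →
      Fintype.card F ≠ 2 ∧ Fintype.card F ≠ 3 ∧ Fintype.card F ≠ 7) : Concl Q P := by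
  obtain ⟨K, iF, iT, hK, ⟨e⟩⟩ := hT
  have hq5 : 5 ≤ q ∧ q ≠ 9 := by
    simp only [Finset.mem_insert, Finset.mem_singleton] at hq
    omega
  obtain ⟨h11, hF, -⟩ := l2_row h (by omega) (by omega) (by rwa [hK]) e
  have : Fact (Nat.Prime 11) := ⟨by norm_num⟩
  obtain ⟨e'⟩ := H363.PslCard.psl_of_card (n := Fin 2) (F := K) (F' := ZMod 11) (by rw [h11, ZMod.card])
  refine concl_l2 h hF ?_ (e.trans e') (rl ⟨e.trans e'⟩)
  rintro rfl
  exact hpq (by rw [← hK, h11])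

/-- **Cross characteristic, sporadic groups excepted.** -/
theorem cross (h : Cx p Q H P) (hc : Cand p 10 (Soc P)) (hL : ¬ IsLieTypeChar p (Soc P))
    (r5 : p ≠ 5 → Nonempty (Soc P ≃* alternatingGroup (Fin 5)) → False)
    (r6 : Nonempty (Soc P ≃* alternatingGroup (Fin 6)) → False)
    (r7 : Nonempty (Soc P ≃* alternatingGroup (Fin 7)) → False)
    (rm : ∀ m, 8 ≤ m → m ≤ 13 → ¬ (m = 8 ∧ p = 2) → Nonempty (Soc P ≃* alternatingGroup (Fin m)) →
      (m = 11 ∧ p ≠ 2 ∧ p ≠ 3 ∧ p ≠ 11 ∧ Fintype.card F = p) ∨ (m = 12 ∧ (p = 2 ∨ p = 3) ∧ Fintype.card F = p))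
    (rl : Nonempty (Soc P ≃* ProjectiveSpecialLinearGroup (Fin 2) (ZMod 11)) →
      Fintype.card F ≠ 2 ∧ Fintype.card F ≠ 3 ∧ Fintype.card F ≠ 7)
    (rl33 : p ≠ 3 → IsL 3 3 (Soc P) → False) (ru33 : p ≠ 3 → IsU 3 3 (Soc P) → False)
    (ru42 : p ≠ 2 → p ≠ 3 → IsU 4 2 (Soc P) → False) (ru52 : p ≠ 2 → IsU 5 2 (Soc P) → False)
    (rs62 : p ≠ 2 → IsS 3 2 (Soc P) → False) (ro82 : p ≠ 2 → IsOP 4 2 (Soc P) → False)
    (rl34 : p ≠ 2 → IsL 3 4 (Soc P) → False) (ru62 : p ≠ 2 → IsU 6 2 (Soc P) → False)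
    (rg24 : p ≠ 2 → H912.Bd.IsG2 4 (Soc P) → False) (rg23 : p ≠ 3 → H912.Bd.IsG2 3 (Soc P) → False)
    (rsz : p ≠ 2 → IsSz8 (Soc P) → False) : Concl Q P := by
  rcases hc with hc | hc | hc | hc
  · exact cross_alt h hc hL r5 r6 r7 rm
  · rcases hc with ⟨q, hq, hpq, -, hT⟩ | ⟨hp, -, hT⟩ | ⟨hp, -, hT⟩ | ⟨-, h12, -⟩ | ⟨hp2, hp3, -, hT⟩ | ⟨hp, -, hT⟩ |
      ⟨-, h12, -⟩ | ⟨hp, -, hT⟩ | ⟨hp, -, hT⟩
    · exact cross_l2 h hq hpq hT rl
    · exact (rl33 hp hT).elim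
    · exact (ru33 hp hT).elim
    · omega
    · exact (ru42 hp2 hp3 hT).elim
    · exact (ru52 hp hT).elim
    · omega
    · exact (rs62 hp hT).elim
    · exact (ro82 hp hT).elim
  · rcases hc with ⟨hp, -, hT | hT | ⟨hp3, hT⟩ | hT | hT | hT | hT⟩ | ⟨-, h3, -⟩
    · refine cross_l2 h (q := 7) (by decide) ?_ hT rl
      intro h7
      exact hL (H936.List12.lie_of_isL (m := 2) (q := 7) h.prime h7 le_rfl (fun _ => by norm_num) hT)
    · exact (rl34 hp hT).elim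
    · exact (ru42 hp hp3 hT).elim
    · exact (ru62 hp hT).elim
    · exact (rs62 hp hT).elim
    · exact (ro82 hp hT).elim
    · exact (rg24 hp hT).elim
    · omega
  · rcases hc with ⟨hp, -, hT⟩ | ⟨hp, -, hT⟩
    · exact (rg23 hp hT).elim
    · exact (rsz hp hT).elim

/-! ### Own characteristic -/

/-- **Own characteristic.** -/
theorem own (h : Cx p Q H P) (hL : IsLieTypeChar p (Soc P))
    (rpsl : ∀ (K : Type) [Field K] [Fintype K] [CharP K p] (m : ℕ), 3 ≤ m →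
      Nonempty (Soc P ≃* ProjectiveSpecialLinearGroup (Fin m) K) → False)
    (rpsp4 : ∀ (K : Type) [Field K] [Fintype K] [CharP K p], 3 ≤ Fintype.card K → Nonempty (Soc P ≃* PSp 2 K) →
      Nonempty (Soc P ≃* PSp 2 F) ∧ (IsPlusTypeOn Q ⊤ → Fintype.card F % 4 = 1) ∧
        (¬ IsPlusTypeOn Q ⊤ → Fintype.card F % 4 = 3))
    (rpsp : ∀ (K : Type) [Field K] [Fintype K] [CharP K p] (m : ℕ), 3 ≤ m → m ≤ 5 → Nonempty (Soc P ≃* PSp m K) → False)
    (rpsu : ∀ (K : Type) [Field K] [Fintype K] [CharP K p] (N q : ℕ), Fintype.card K = q ^ 2 → 3 ≤ N →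
      ¬ (N = 3 ∧ q = 2) → Nonempty (Soc P ≃* PSU N K q) → False)
    (rsz : p = 2 → Lie.IsoSuzuki (Soc P) → False) (rree : p = 3 → Lie.IsoRee (Soc P) → False)
    (roo : ∀ (K : Type) [Field K] [Fintype K] [CharP K p] (m : ℕ), 3 ≤ m → m ≤ 5 → Odd (Fintype.card K) →
      Nonempty (Soc P ≃* POmega K (quadFormOdd m K)) → False)
    (rop : ∀ (K : Type) [Field K] [Fintype K] [CharP K p] (m : ℕ), 4 ≤ m → m ≤ 5 →
      Nonempty (Soc P ≃* POmega K (quadFormPlus m K)) → False)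
    (rom : ∀ (K : Type) [Field K] [Fintype K] [CharP K p] (m : ℕ) (a b : K), 3 ≤ m → m ≤ 5 →
      (∀ z₁ z₂ : K, z₁ ^ 2 + a * z₁ * z₂ + b * z₂ ^ 2 = 0 → z₁ = 0 ∧ z₂ = 0) →
      Nonempty (Soc P ≃* POmega K (quadFormMinus m K a b)) → False)
    (rg2 : ∀ (K : Type) [Field K] [Fintype K] [CharP K p], 3 ≤ Fintype.card K →
      Nonempty (Soc P ≃* Lie.chevG2.group K) → False)
    (rd4 : ∀ (K : Type) [Field K] [Fintype K] [CharP K p] (q : ℕ), IsPrimePow q → Fintype.card K = q ^ 3 →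
      Nonempty (Soc P ≃* Lie.twistedD4 K q) → False)
    (rf4 : p = 2 → Lie.Iso2F4 (Soc P) → False) : Concl Q P := by
  have hpf := Fact.mk h.prime
  have hch := h.char
  have hs := h.hc.simple
  have hlist := H905.Md.small_dc (p := p) h.hc.absIrred.1 h.hc.perfect hL (by rw [Fintype.card_fin]; norm_num)
  rw [Fintype.card_fin] at hlist
  rcases hlist with ⟨K, i1, i2, i3, l, hl, h4, he⟩ | ⟨K, i1, i2, i3, m, hm, hm', h3, he⟩ |
    ⟨K, i1, i2, i3, N, q, hF, hN, -, hNq, he⟩ | ⟨h2, he⟩ | ⟨h3, he⟩ | ⟨K, i1, i2, i3, m, hm, hm', hodd, he⟩ |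
    ⟨K, i1, i2, i3, m, hm, hm', he⟩ | ⟨K, i1, i2, i3, m, a, b, hm, hm', hab, he⟩ | ⟨-, K, i1, i2, i3, h3, he⟩ |
    ⟨-, K, i1, i2, i3, q, hq, hK, he⟩ | ⟨-, h2, he⟩
  · rcases (show l = 1 ∨ 3 ≤ l + 1 by omega) with rfl | h3
    · obtain ⟨e⟩ := he
      exact (H875.PslRows.omega_row p h.hQ (Or.inl (by rw [Fintype.card_fin])) h.hH h.hc e).elim
    · exact (rpsl K (l + 1) h3 he).elim
  · rcases (show m = 2 ∨ 3 ≤ m by omega) with rfl | h3'
    · obtain ⟨⟨e⟩, h1, h2⟩ := rpsp4 K (h3 rfl) he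
      exact concl_psp e h1 h2
    · exact (rpsp K m h3' (by omega) he).elim
  · exact (rpsu K N q hF hN hNq he).elim
  · exact (rsz h2 he).elim
  · exact (rree h3 he).elim
  · exact (roo K m hm (by omega) hodd he).elim
  · exact (rop K m hm (by omega) he).elim
  · obtain ⟨m, rfl⟩ : ∃ k, m = k + 1 := ⟨m - 1, by omega⟩
    exact (rom K m a b (by omega) (by omega) hab he).elim
  · exact (rg2 K h3 he).elim
  · exact (rd4 K q hq hK he).elim
  · exact (rf4 h2 he).elim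

end Cfsg.Agent.H933.O10
end
end
end
end
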